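import Mathlib
import Cfsg.Agent.KnownA.GL2.Induced
import Cfsg.Agent.Forms.QuadBasic
import Cfsg.Agent.Linear.Card

/-! # Conjugacy in `GL₂` and `SL₂` -/

set_option autoImplicit false
set_option linter.unusedSectionVars false

namespace Cfsg.Agent.KnownA.GL2

open Matrix

variable {F : Type*} [Field F]

/-- Scalar matrices. -/
def IsScalar (M : Matrix (Fin 2) (Fin 2) F) : Prop := M 0 1 = 0 ∧ M 1 0 = 0 ∧ M 0 0 = M 1 1

/-- The determinant of a vector and its image. -/
def Qf (M : Matrix (Fin 2) (Fin 2) F) (v : Fin 2 → F) : F :=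
  M 1 0 * v 0 ^ 2 + (M 1 1 - M 0 0) * (v 0 * v 1) - M 0 1 * v 1 ^ 2

/-- The normal form. -/
def Kmat (t d δ : F) : Matrix (Fin 2) (Fin 2) F := !![0, -(d / δ); δ, t]

/-- The change of basis to the normal form. -/
def Pmat (M : Matrix (Fin 2) (Fin 2) F) (v : Fin 2 → F) (δ : F) : Matrix (Fin 2) (Fin 2) F :=
  !![v 0, (M 0 0 * v 0 + M 0 1 * v 1) / δ; v 1, (M 1 0 * v 0 + M 1 1 * v 1) / δ]

theorem det_Pmat (M : Matrix (Fin 2) (Fin 2) F) (v : Fin 2 → F) {δ : F} (hδ : δ ≠ 0) :
    (Pmat M v δ).det = Qf M v / δ := by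
  simp [Pmat, Qf, det_fin_two]
  field_simp
  ring

theorem mul_Pmat (M : Matrix (Fin 2) (Fin 2) F) (v : Fin 2 → F) {δ : F} (hδ : δ ≠ 0) :
    M * Pmat M v δ = Pmat M v δ * Kmat M.trace M.det δ := by
  ext i j
  fin_cases i <;> fin_cases j <;>
    simp [Pmat, Kmat, Matrix.mul_apply, Fin.sum_univ_two, det_fin_two, Matrix.trace] <;>
    field_simp <;> ring

theorem exists_Qf_ne_zero {M : Matrix (Fin 2) (Fin 2) F} (h : ¬ IsScalar M) :
    ∃ v, Qf M v ≠ 0 := by
  by_cases h10 : M 1 0 = 0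
  · by_cases h01 : M 0 1 = 0
    · refine ⟨![1, 1], ?_⟩
      simp [Qf, h10, h01]
      exact sub_ne_zero.2 fun e => h ⟨h01, h10, e.symm⟩
    · exact ⟨![0, 1], by simpa [Qf] using h01⟩
  · exact ⟨![1, 0], by simpa [Qf] using h10⟩

theorem isScalar_eq {M : Matrix (Fin 2) (Fin 2) F} (h : IsScalar M) :
    M = M 0 0 • (1 : Matrix (Fin 2) (Fin 2) F) := by
  obtain ⟨a, b, c⟩ := h
  ext i j
  fin_cases i <;> fin_cases j <;> simp [a, b, c]

theorem eq_of_conj_scalar {M N P : Matrix (Fin 2) (Fin 2) F} (h : IsScalar M) (hP : IsUnit P)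
    (e : P * M = N * P) : N = M := by
  apply hP.mul_right_cancel
  rw [← e]
  conv_rhs => rw [isScalar_eq h]
  conv_lhs => rw [isScalar_eq h]
  simp

theorem exists_commutant_coeffs {g h : Matrix (Fin 2) (Fin 2) F} (hg : ¬ IsScalar g)
    (hc : h * g = g * h) : ∃ x y : F, h = x • (1 : Matrix (Fin 2) (Fin 2) F) + y • g := by
  obtain ⟨v, hv⟩ := exists_Qf_ne_zero hg
  have hP : IsUnit (Pmat g v 1) := by
    rw [Matrix.isUnit_iff_isUnit_det, det_Pmat g v one_ne_zero, div_one]
    exact hv.isUnit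
  set P := Pmat g v 1 with hPdef
  have hPd : P.det ≠ 0 := ((Matrix.isUnit_iff_isUnit_det _).1 hP).ne_zero
  set w := P⁻¹ *ᵥ (h *ᵥ v) with hw
  refine ⟨w 0, w 1, ?_⟩
  have hwv : P *ᵥ w = h *ᵥ v := by
    rw [hw, Matrix.mulVec_mulVec, Matrix.mul_nonsing_inv _ hPd.isUnit, Matrix.one_mulVec]
  have hcol : ∀ u : Fin 2 → F, P *ᵥ u = u 0 • v + u 1 • (g *ᵥ v) := by
    intro u
    ext i
    fin_cases i <;> simp [P, Pmat, Matrix.mulVec, dotProduct, Fin.sum_univ_two] <;> ring
  set k := w 0 • (1 : Matrix (Fin 2) (Fin 2) F) + w 1 • g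
  have h0 : k *ᵥ v = h *ᵥ v := by
    rw [← hwv, hcol]
    simp [k, Matrix.add_mulVec, Matrix.smul_mulVec]
  have hk : k * g = g * k := by simp [k, add_mul, mul_add]
  apply hP.mul_right_cancel
  apply Matrix.ext_iff_mulVec.2
  intro u
  rw [← Matrix.mulVec_mulVec, ← Matrix.mulVec_mulVec, hcol]
  simp only [Matrix.mulVec_add, Matrix.mulVec_smul, Matrix.mulVec_mulVec, hc]
  rw [hk, ← Matrix.mulVec_mulVec v g k, h0, ← Matrix.mulVec_mulVec v g h]

theorem det_coeffs (g : Matrix (Fin 2) (Fin 2) F) (x y : F) :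
    (x • (1 : Matrix (Fin 2) (Fin 2) F) + y • g).det =
      x ^ 2 + x * y * g.trace + y ^ 2 * g.det := by
  simp [det_fin_two, Matrix.trace, Fin.sum_univ_two]
  ring

theorem coeffs_injective {g : Matrix (Fin 2) (Fin 2) F} (hg : ¬ IsScalar g) :
    Function.Injective fun p : F × F => p.1 • (1 : Matrix (Fin 2) (Fin 2) F) + p.2 • g := by
  rintro ⟨x, y⟩ ⟨x', y'⟩ e
  have h00 := congrFun (congrFun e 0) 0
  have h01 := congrFun (congrFun e 0) 1
  have h10 := congrFun (congrFun e 1) 0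
  have h11 := congrFun (congrFun e 1) 1
  simp at h00 h01 h10 h11
  have hy : y = y' := by
    by_contra hy
    refine hg ⟨?_, ?_, ?_⟩
    · exact h01.resolve_left hy
    · exact h10.resolve_left hy
    · exact mul_left_cancel₀ (sub_ne_zero.2 hy) (by linear_combination h00 - h11)
  subst hy
  simp at h00
  exact Prod.ext h00 rfl

/-! ### `GL₂` -/

/-- A normal form in `GL₂`. -/
noncomputable def nfG (t : F) (d : Fˣ) : GL (Fin 2) F :=
  GeneralLinearGroup.mkOfDetNeZero (Kmat t d 1) (by simp [Kmat, det_fin_two])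

theorem nfG_val (t : F) (d : Fˣ) :
    ((nfG t d : GL (Fin 2) F) : Matrix (Fin 2) (Fin 2) F) = Kmat t d 1 := rfl

theorem trace_nfG (t : F) (d : Fˣ) :
    ((nfG t d : GL (Fin 2) F) : Matrix (Fin 2) (Fin 2) F).trace = t := by
  simp [nfG_val, Kmat, Matrix.trace]

theorem det_nfG (t : F) (d : Fˣ) :
    ((nfG t d : GL (Fin 2) F) : Matrix (Fin 2) (Fin 2) F).det = d := by
  simp [nfG_val, Kmat, det_fin_two]

theorem not_scalar_nfG (t : F) (d : Fˣ) :
    ¬ IsScalar ((nfG t d : GL (Fin 2) F) : Matrix (Fin 2) (Fin 2) F) := fun h => by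
  have := h.2.1
  simp [nfG_val, Kmat] at this

theorem det_unit_ne_zero (g : GL (Fin 2) F) : (g : Matrix (Fin 2) (Fin 2) F).det ≠ 0 :=
  ((Matrix.isUnit_iff_isUnit_det _).1 (Units.isUnit g)).ne_zero

theorem isConj_nfG {g : GL (Fin 2) F} (hg : ¬ IsScalar (g : Matrix (Fin 2) (Fin 2) F)) :
    IsConj g (nfG (g : Matrix (Fin 2) (Fin 2) F).trace (Units.mk0 _ (det_unit_ne_zero g))) := by
  obtain ⟨v, hv⟩ := exists_Qf_ne_zero hg
  have hP : (Pmat (g : Matrix (Fin 2) (Fin 2) F) v 1).det ≠ 0 := by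
    rwa [det_Pmat _ _ one_ne_zero, div_one]
  refine IsConj.symm (isConj_iff.2 ⟨GeneralLinearGroup.mkOfDetNeZero _ hP, ?_⟩)
  rw [mul_inv_eq_iff_eq_mul]
  apply Units.ext
  simp only [Units.val_mul]
  exact (mul_Pmat _ v one_ne_zero).symm

theorem conj_trace_det {g h : GL (Fin 2) F} (e : IsConj g h) :
    (g : Matrix (Fin 2) (Fin 2) F).trace = (h : Matrix (Fin 2) (Fin 2) F).trace ∧
    (g : Matrix (Fin 2) (Fin 2) F).det = (h : Matrix (Fin 2) (Fin 2) F).det := by
  obtain ⟨c, rfl⟩ := isConj_iff.1 e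
  simp only [Units.val_mul]
  constructor
  · rw [Matrix.trace_mul_cycle, ← Units.val_mul, inv_mul_cancel, Units.val_one, one_mul]
  · exact (Matrix.det_units_conj c _).symm

theorem conj_scalar_eq {g h : GL (Fin 2) F} (e : IsConj g h)
    (hg : IsScalar (g : Matrix (Fin 2) (Fin 2) F)) : h = g := by
  obtain ⟨c, rfl⟩ := isConj_iff.1 e
  apply Units.ext
  refine eq_of_conj_scalar hg c.isUnit ?_
  rw [← Units.val_mul, ← Units.val_mul, inv_mul_cancel_right]

theorem isConj_of_trace_det {g h : GL (Fin 2) F} (hg : ¬ IsScalar (g : Matrix (Fin 2) (Fin 2) F))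
    (hh : ¬ IsScalar (h : Matrix (Fin 2) (Fin 2) F))
    (ht : (g : Matrix (Fin 2) (Fin 2) F).trace = (h : Matrix (Fin 2) (Fin 2) F).trace)
    (hd : (g : Matrix (Fin 2) (Fin 2) F).det = (h : Matrix (Fin 2) (Fin 2) F).det) :
    IsConj g h := by
  have h1 := isConj_nfG hg
  have e : Units.mk0 _ (det_unit_ne_zero g) = Units.mk0 _ (det_unit_ne_zero h) := Units.ext hd
  rw [ht, e] at h1
  exact h1.trans (isConj_nfG hh).symm

/-- Scalars and normal forms. -/
noncomputable def clsG : Fˣ ⊕ F × Fˣ → GL (Fin 2) F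
  | Sum.inl a => GeneralLinearGroup.scalar (Fin 2) a
  | Sum.inr p => nfG p.1 p.2

theorem scalar_val (a : Fˣ) :
    ((GeneralLinearGroup.scalar (Fin 2) a : GL (Fin 2) F) : Matrix (Fin 2) (Fin 2) F) =
      (a : F) • (1 : Matrix (Fin 2) (Fin 2) F) := by
  ext i j
  fin_cases i <;> fin_cases j <;> simp [GeneralLinearGroup.scalar]

theorem isScalar_scalar (a : Fˣ) :
    IsScalar ((GeneralLinearGroup.scalar (Fin 2) a : GL (Fin 2) F) : Matrix (Fin 2) (Fin 2) F) := by
  simp [IsScalar, scalar_val]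

theorem bijective_clsG : Function.Bijective fun i => ConjClasses.mk (clsG (F := F) i) := by
  constructor
  · intro i j e
    have e' := ConjClasses.mk_eq_mk_iff_isConj.1 e
    rcases i with a | ⟨t, d⟩ <;> rcases j with b | ⟨t', d'⟩ <;> simp only [clsG] at e'
    · have h := congrArg (fun g : GL (Fin 2) F => (g : Matrix (Fin 2) (Fin 2) F) 0 0)
        (conj_scalar_eq e' (isScalar_scalar a))
      simp [scalar_val] at h
      rw [Units.ext h]
    · exact absurd (conj_scalar_eq e' (isScalar_scalar a) ▸ isScalar_scalar a :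
        IsScalar ((nfG t' d' : GL (Fin 2) F) : Matrix (Fin 2) (Fin 2) F)) (not_scalar_nfG t' d')
    · exact absurd (conj_scalar_eq e'.symm (isScalar_scalar b) ▸ isScalar_scalar b :
        IsScalar ((nfG t d : GL (Fin 2) F) : Matrix (Fin 2) (Fin 2) F)) (not_scalar_nfG t d)
    · obtain ⟨h1, h2⟩ := conj_trace_det e'
      rw [trace_nfG, trace_nfG] at h1
      rw [det_nfG, det_nfG] at h2
      rw [h1, Units.ext h2]
  · intro C
    obtain ⟨g, rfl⟩ := ConjClasses.mk_surjective C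
    by_cases hg : IsScalar (g : Matrix (Fin 2) (Fin 2) F)
    · have h0 : (g : Matrix (Fin 2) (Fin 2) F) 0 0 ≠ 0 :=
        (diag_ne_zero (det_unit_ne_zero g) hg.2.1).1
      refine ⟨Sum.inl (Units.mk0 _ h0), congrArg ConjClasses.mk (Units.ext ?_)⟩
      show ((GeneralLinearGroup.scalar (Fin 2) (Units.mk0 _ h0) : GL (Fin 2) F) :
        Matrix (Fin 2) (Fin 2) F) = _
      rw [scalar_val, Units.val_mk0]
      exact (isScalar_eq hg).symm
    · exact ⟨Sum.inr (_, _), ConjClasses.mk_eq_mk_iff_isConj.2 (isConj_nfG hg).symm⟩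

theorem card_conjClasses_GL [Fintype F] :
    Nat.card (ConjClasses (GL (Fin 2) F)) = Fintype.card F ^ 2 - 1 := by
  classical
  rw [← Nat.card_congr (Equiv.ofBijective _ (bijective_clsG (F := F))), Nat.card_eq_fintype_card,
    Fintype.card_sum, Fintype.card_prod, Fintype.card_units]
  have : 1 ≤ Fintype.card F := Fintype.card_pos
  obtain ⟨m, hm⟩ : ∃ m, Fintype.card F = m + 1 := ⟨Fintype.card F - 1, by omega⟩
  rw [hm, Nat.add_sub_cancel]
  symm
  apply Nat.sub_eq_of_eq_add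
  ring

/-! ### `SL₂` -/

/-- A normal form in `SL₂`. -/
noncomputable def nfS (t : F) (δ : Fˣ) : SpecialLinearGroup (Fin 2) F :=
  ⟨Kmat t 1 δ, by simp [Kmat, det_fin_two]⟩

theorem trace_nfS (t : F) (δ : Fˣ) : (nfS t δ).1.trace = t := by
  simp [nfS, Kmat, Matrix.trace]

theorem not_scalar_nfS (t : F) (δ : Fˣ) : ¬ IsScalar (nfS t δ).1 := fun h => by
  have := h.2.1
  simp [nfS, Kmat] at this

theorem isConj_nfS (g : SpecialLinearGroup (Fin 2) F) {v : Fin 2 → F} (δ : Fˣ)
    (hv : Qf g.1 v = δ) : IsConj g (nfS g.1.trace δ) := by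
  let P : SpecialLinearGroup (Fin 2) F :=
    ⟨Pmat g.1 v δ, by rw [det_Pmat _ _ δ.ne_zero, hv, div_self δ.ne_zero]⟩
  refine IsConj.symm (isConj_iff.2 ⟨P, ?_⟩)
  rw [mul_inv_eq_iff_eq_mul]
  refine Subtype.ext ?_
  change Pmat g.1 v δ * Kmat g.1.trace 1 δ = g.1 * Pmat g.1 v δ
  rw [mul_Pmat _ _ δ.ne_zero, g.2]

theorem Qf_conj {g h s : SpecialLinearGroup (Fin 2) F} (e : s * g = h * s) (v : Fin 2 → F) :
    Qf h.1 (s.1 *ᵥ v) = Qf g.1 v := by
  have he : s.1 * g.1 = h.1 * s.1 := congrArg Subtype.val e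
  have hcross : ∀ (M : Matrix (Fin 2) (Fin 2) F) (u : Fin 2 → F),
      Qf M u = u 0 * (M *ᵥ u) 1 - u 1 * (M *ᵥ u) 0 := by
    intro M u; simp [Qf, Matrix.mulVec, dotProduct, Fin.sum_univ_two]; ring
  have hdet : ∀ u w : Fin 2 → F, (s.1 *ᵥ u) 0 * (s.1 *ᵥ w) 1 - (s.1 *ᵥ u) 1 * (s.1 *ᵥ w) 0 =
      u 0 * w 1 - u 1 * w 0 := by
    intro u w
    have hs := s.2
    rw [det_fin_two] at hs
    simp [Matrix.mulVec, dotProduct, Fin.sum_univ_two]
    linear_combination (u 0 * w 1 - u 1 * w 0) * hs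
  rw [hcross, hcross, Matrix.mulVec_mulVec, ← he, ← Matrix.mulVec_mulVec, hdet]

theorem exists_Qf_eq_one [Fintype F] {g : SpecialLinearGroup (Fin 2) F} (hg : ¬ IsScalar g.1)
    (ht : g.1.trace ^ 2 ≠ 4 ∨ (2 : F) = 0) : ∃ v, Qf g.1 v = 1 := by
  have hdet : g.1 0 0 * g.1 1 1 - g.1 0 1 * g.1 1 0 = 1 := by rw [← det_fin_two]; exact g.2
  have htr : g.1.trace = g.1 0 0 + g.1 1 1 := by simp [Matrix.trace]
  by_cases h2 : (2 : F) = 0
  · by_cases h10 : g.1 1 0 = 0
    · by_cases h01 : g.1 0 1 = 0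
      · have hd : g.1 1 1 - g.1 0 0 ≠ 0 := sub_ne_zero.2 fun e => hg ⟨h01, h10, e.symm⟩
        exact ⟨![1, (g.1 1 1 - g.1 0 0)⁻¹], by simp [Qf, h10, h01, hd]⟩
      · obtain ⟨s, hs⟩ := Forms.exists_sq_of_two_eq_zero h2 (-(g.1 0 1)⁻¹)
        refine ⟨![0, s], ?_⟩
        simp [Qf, hs, h01]
    · obtain ⟨s, hs⟩ := Forms.exists_sq_of_two_eq_zero h2 (g.1 1 0)⁻¹
      exact ⟨![s, 0], by simp [Qf, hs, h10]⟩
  · have ht' : g.1.trace ^ 2 ≠ 4 := ht.resolve_right h2
    have hdisc : (g.1 1 1 - g.1 0 0) ^ 2 + 4 * (g.1 0 1 * g.1 1 0) ≠ 0 := by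
      intro e; apply ht'; rw [htr]; linear_combination e + 4 * hdet
    by_cases h10 : g.1 1 0 = 0
    · have hd : g.1 1 1 - g.1 0 0 ≠ 0 := fun e => hdisc (by rw [h10, e]; ring)
      refine ⟨![(1 + g.1 0 1) / (g.1 1 1 - g.1 0 0), 1], ?_⟩
      simp [Qf, h10]
      field_simp
      ring
    · set D := (g.1 1 1 - g.1 0 0) ^ 2 + 4 * (g.1 0 1 * g.1 1 0) with hD
      have h4 : (4 : F) ≠ 0 := by
        rw [show (4 : F) = 2 * 2 by norm_num]; exact mul_ne_zero h2 h2
      obtain ⟨u, y, hu⟩ := Forms.exists_sq_add_sq_eq (F := F) one_ne_zero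
        (b := -(D / 4)) (neg_ne_zero.2 (div_ne_zero hdisc h4)) (g.1 1 0)
      refine ⟨![(u - (g.1 1 1 - g.1 0 0) * y / 2) / g.1 1 0, y], ?_⟩
      simp [Qf]
      rw [hD] at hu
      field_simp at hu ⊢
      linear_combination hu

theorem Qf_nfS {t : F} (h2 : (2 : F) ≠ 0) (ht : t ^ 2 = 4) (δ : Fˣ) (v : Fin 2 → F) :
    Qf (nfS t δ).1 v = δ * (v 0 + t * v 1 / (2 * δ)) ^ 2 := by
  simp [Qf, nfS, Kmat]
  field_simp
  linear_combination (-(v 1 ^ 2)) * ht

theorem isConj_nfS_iff {t : F} (h2 : (2 : F) ≠ 0) (ht : t ^ 2 = 4) (δ δ' : Fˣ) :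
    IsConj (nfS t δ) (nfS t δ') ↔ IsSquare ((δ : F) * δ') := by
  constructor
  · intro e
    obtain ⟨s, hs⟩ := isConj_iff.1 e
    rw [mul_inv_eq_iff_eq_mul] at hs
    have h1 : Qf (nfS t δ).1 ![1, 0] = δ := by simp [Qf_nfS h2 ht]
    have h := Qf_conj hs ![1, 0]
    rw [h1, Qf_nfS h2 ht] at h
    exact ⟨(δ' : F) * ((s.1 *ᵥ ![1, 0]) 0 + t * (s.1 *ᵥ ![1, 0]) 1 / (2 * δ')), by
      rw [← h]; ring⟩
  · rintro ⟨r, hr⟩
    have h := isConj_nfS (nfS t δ) δ' (v := ![r / δ, 0]) (by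
      rw [Qf_nfS h2 ht]
      simp
      field_simp
      linear_combination -hr)
    rwa [trace_nfS] at h

theorem isConj_SL_scalar {g h : SpecialLinearGroup (Fin 2) F} (e : IsConj g h)
    (hg : IsScalar g.1) : h = g := by
  obtain ⟨c, rfl⟩ := isConj_iff.1 e
  apply Subtype.ext
  refine eq_of_conj_scalar hg (P := c.1) ?_ (congrArg Subtype.val (by group : c * g = c * g * c⁻¹ * c))
  rw [Matrix.isUnit_iff_isUnit_det, c.2]
  exact isUnit_one

theorem trace_eq_of_isConj {g h : SpecialLinearGroup (Fin 2) F} (e : IsConj g h) :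
    g.1.trace = h.1.trace :=
  (conj_trace_det (MonoidHom.map_isConj SpecialLinearGroup.toGL e)).1

theorem scalar_SL_cases {g : SpecialLinearGroup (Fin 2) F} (hg : IsScalar g.1) :
    g = 1 ∨ g = -1 := by
  have hd := g.2
  rw [det_fin_two, hg.1, hg.2.1, ← hg.2.2, mul_zero, sub_zero] at hd
  have h1 : g.1 = g.1 0 0 • (1 : Matrix (Fin 2) (Fin 2) F) := isScalar_eq hg
  rcases mul_self_eq_one_iff.1 hd with e | e
  · left; apply Subtype.ext; rw [h1, e, one_smul]; rfl
  · right; apply Subtype.ext; rw [h1, e, neg_smul, one_smul]; rfl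

theorem two_ne_zero_of_odd [Fintype F] (hodd : Odd (Fintype.card F)) : (2 : F) ≠ 0 := by
  refine Ring.two_ne_zero fun h => ?_
  rw [FiniteField.even_card_iff_char_two] at h
  exact absurd hodd (by rw [Nat.odd_iff]; omega)

theorem not_isSquare_mul [Fintype F] [DecidableEq F] {a b : F}
    (ha : ¬ IsSquare a) (hb : ¬ IsSquare b) : IsSquare (a * b) := by
  have ha0 : a ≠ 0 := fun e => ha (e ▸ IsSquare.zero)
  have hb0 : b ≠ 0 := fun e => hb (e ▸ IsSquare.zero)
  rw [← quadraticChar_one_iff_isSquare (mul_ne_zero ha0 hb0), map_mul,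
    quadraticChar_neg_one_iff_not_isSquare.2 ha, quadraticChar_neg_one_iff_not_isSquare.2 hb]
  norm_num

variable [Fintype F]

/-- A fixed non-square, or one if there is none. -/
noncomputable def nu (F : Type*) [Field F] : Fˣ :=
  open scoped Classical in
  if h : ∃ x : Fˣ, ¬ IsSquare (x : F) then h.choose else 1

theorem not_isSquare_nu (hodd : Odd (Fintype.card F)) : ¬ IsSquare ((nu F : Fˣ) : F) := by
  have hc : ringChar F ≠ 2 := fun h => by
    rw [FiniteField.even_card_iff_char_two] at h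
    rw [Nat.odd_iff] at hodd; omega
  obtain ⟨a, ha⟩ := FiniteField.exists_nonsquare hc
  have : ∃ x : Fˣ, ¬ IsSquare (x : F) :=
    ⟨Units.mk0 a (fun e => ha (e ▸ IsSquare.zero)), ha⟩
  rw [nu, dif_pos this]
  exact this.choose_spec

open scoped Classical in
/-- Representatives of the classes of `SL₂` in odd characteristic. -/
noncomputable def clsS : Bool ⊕ {t : F // t ^ 2 ≠ 4} ⊕ Bool × Bool → SpecialLinearGroup (Fin 2) F
  | Sum.inl b => cond b 1 (-1)
  | Sum.inr (Sum.inl t) => nfS t.1 1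
  | Sum.inr (Sum.inr p) => nfS (cond p.1 2 (-2)) (cond p.2 1 (nu F))

theorem bijective_clsS (hodd : Odd (Fintype.card F)) :
    Function.Bijective fun i => ConjClasses.mk (clsS (F := F) i) := by
  classical
  have h2 : (2 : F) ≠ 0 := two_ne_zero_of_odd hodd
  have h22 : (2 : F) ≠ -2 := fun e => by
    have : (2 : F) * 2 = 0 := by linear_combination e
    exact h2 (mul_self_eq_zero.1 this)
  have hsc : ∀ b : Bool, IsScalar (cond b (1 : SpecialLinearGroup (Fin 2) F) (-1)).1 := by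
    intro b; cases b <;> simp [IsScalar]
  have hsq : ∀ b : Bool, (cond b (2 : F) (-2)) ^ 2 = 4 := by intro b; cases b <;> norm_num
  constructor
  · intro i j e
    have e' := ConjClasses.mk_eq_mk_iff_isConj.1 e
    rcases i with b | t | ⟨s, δ⟩ <;> rcases j with b' | t' | ⟨s', δ'⟩ <;> simp only [clsS] at e'
    · have h := congrArg (fun g : SpecialLinearGroup (Fin 2) F => g.1 0 0)
        (isConj_SL_scalar e' (hsc b))
      cases b <;> cases b' <;> simp at h <;>
        first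
          | rfl
          | exact absurd (show (2 : F) = 0 by linear_combination h) h2
          | exact absurd (show (2 : F) = 0 by linear_combination -h) h2
    · exact absurd (isConj_SL_scalar e' (hsc b) ▸ hsc b) (not_scalar_nfS _ _)
    · exact absurd (isConj_SL_scalar e' (hsc b) ▸ hsc b) (not_scalar_nfS _ _)
    · exact absurd (isConj_SL_scalar e'.symm (hsc b') ▸ hsc b') (not_scalar_nfS _ _)
    · have := trace_eq_of_isConj e'
      rw [trace_nfS, trace_nfS] at this
      rw [Subtype.ext this]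
    · have := trace_eq_of_isConj e'
      rw [trace_nfS, trace_nfS] at this
      exact absurd (this ▸ hsq s') t.2
    · exact absurd (isConj_SL_scalar e'.symm (hsc b') ▸ hsc b') (not_scalar_nfS _ _)
    · have := trace_eq_of_isConj e'
      rw [trace_nfS, trace_nfS] at this
      exact absurd (this.symm ▸ hsq s) t'.2
    · have := trace_eq_of_isConj e'
      rw [trace_nfS, trace_nfS] at this
      have hs : s = s' := by
        cases s <;> cases s' <;> first | rfl | exact absurd this h22 | exact absurd this h22.symm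
      subst hs
      rw [isConj_nfS_iff h2 (hsq s)] at e'
      cases δ <;> cases δ' <;>
        first
          | rfl
          | (simp at e'; exact absurd e' (not_isSquare_nu hodd))
  · intro C
    obtain ⟨g, rfl⟩ := ConjClasses.mk_surjective C
    by_cases hg : IsScalar g.1
    · rcases scalar_SL_cases hg with rfl | rfl
      · exact ⟨Sum.inl true, rfl⟩
      · exact ⟨Sum.inl false, rfl⟩
    by_cases ht : g.1.trace ^ 2 = 4
    · obtain ⟨v, hv⟩ := exists_Qf_ne_zero hg
      have h1 := isConj_nfS g (Units.mk0 _ hv) rfl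
      obtain ⟨s, hs⟩ : ∃ s : Bool, g.1.trace = cond s (2 : F) (-2) := by
        have : (g.1.trace - 2) * (g.1.trace + 2) = 0 := by linear_combination ht
        rcases mul_eq_zero.1 this with e | e
        · exact ⟨true, sub_eq_zero.1 e⟩
        · exact ⟨false, eq_neg_of_add_eq_zero_left e⟩
      rw [hs] at h1
      by_cases hq : IsSquare (Qf g.1 v)
      · exact ⟨Sum.inr (Sum.inr (s, true)), ConjClasses.mk_eq_mk_iff_isConj.2
          (h1.trans ((isConj_nfS_iff h2 (hsq s) _ _).2 (by simpa using hq))).symm⟩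
      · exact ⟨Sum.inr (Sum.inr (s, false)), ConjClasses.mk_eq_mk_iff_isConj.2
          (h1.trans ((isConj_nfS_iff h2 (hsq s) _ _).2
            (not_isSquare_mul hq (not_isSquare_nu hodd)))).symm⟩
    · obtain ⟨v, hv⟩ := exists_Qf_eq_one hg (Or.inl ht)
      exact ⟨Sum.inr (Sum.inl ⟨_, ht⟩), ConjClasses.mk_eq_mk_iff_isConj.2
        (isConj_nfS g 1 (by simpa using hv)).symm⟩

theorem card_conjClasses_SL_odd (hodd : Odd (Fintype.card F)) :
    Nat.card (ConjClasses (SpecialLinearGroup (Fin 2) F)) = Fintype.card F + 4 := by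
  classical
  have h2 : (2 : F) ≠ 0 := two_ne_zero_of_odd hodd
  have h22 : (2 : F) ≠ -2 := fun e => by
    have : (2 : F) * 2 = 0 := by linear_combination e
    exact h2 (mul_self_eq_zero.1 this)
  rw [← Nat.card_congr (Equiv.ofBijective _ (bijective_clsS hodd)), Nat.card_eq_fintype_card,
    Fintype.card_sum, Fintype.card_sum, Fintype.card_prod, Fintype.card_bool]
  have : Fintype.card {t : F // t ^ 2 ≠ 4} = Fintype.card F - 2 := by
    rw [Fintype.card_subtype, show (Finset.univ.filter fun t : F => t ^ 2 ≠ 4) =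
      (Finset.univ \ {2, -2}) from ?_, Finset.card_sdiff_of_subset (Finset.subset_univ _),
      Finset.card_pair h22, Finset.card_univ]
    ext t
    simp only [Finset.mem_filter, Finset.mem_univ, true_and, Finset.mem_sdiff, Finset.mem_insert,
      Finset.mem_singleton]
    rw [not_iff_not, show (4 : F) = 2 ^ 2 by norm_num, sq_eq_sq_iff_eq_or_eq_neg]
  rw [this]
  have : 2 ≤ Fintype.card F := Fintype.one_lt_card
  omega

theorem card_conjClasses_SL_two (h2 : (2 : F) = 0) :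
    Nat.card (ConjClasses (SpecialLinearGroup (Fin 2) F)) = Fintype.card F + 1 := by
  classical
  let f : Option F → ConjClasses (SpecialLinearGroup (Fin 2) F) := fun o =>
    ConjClasses.mk (o.elim 1 fun t => nfS t 1)
  have hf : Function.Bijective f := by
    constructor
    · rintro (_ | t) (_ | t') e <;>
        have e' := ConjClasses.mk_eq_mk_iff_isConj.1 e <;> simp only [Option.elim] at e'
      · rfl
      · exact absurd (isConj_SL_scalar e' (by simp [IsScalar]) ▸ (by simp [IsScalar] :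
          IsScalar (1 : SpecialLinearGroup (Fin 2) F).1)) (not_scalar_nfS _ _)
      · exact absurd (isConj_SL_scalar e'.symm (by simp [IsScalar]) ▸ (by simp [IsScalar] :
          IsScalar (1 : SpecialLinearGroup (Fin 2) F).1)) (not_scalar_nfS _ _)
      · have := trace_eq_of_isConj e'
        rw [trace_nfS, trace_nfS] at this
        rw [this]
    · intro C
      obtain ⟨g, rfl⟩ := ConjClasses.mk_surjective C
      by_cases hg : IsScalar g.1
      · refine ⟨none, congrArg ConjClasses.mk ?_⟩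
        rcases scalar_SL_cases hg with rfl | rfl
        · rfl
        · apply Subtype.ext
          ext i j
          fin_cases i <;> fin_cases j <;> simp <;> linear_combination h2
      · obtain ⟨v, hv⟩ := exists_Qf_eq_one hg (Or.inr h2)
        exact ⟨some g.1.trace,
          ConjClasses.mk_eq_mk_iff_isConj.2 (isConj_nfS g 1 (by simpa using hv)).symm⟩
  rw [← Nat.card_congr (Equiv.ofBijective _ hf), Nat.card_eq_fintype_card, Fintype.card_option]

end Cfsg.Agent.KnownA.GL2
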