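import Mathlib
import Cfsg.Agent.KnownA.GL2.Classes

/-! # Centralizers and unipotent classes in `GL₂` and `SL₂` -/

set_option autoImplicit false
set_option linter.unusedSectionVars false

namespace Cfsg.Agent.KnownA.GL2

open Matrix

variable {F : Type*} [Field F]

theorem mem_centralizer_val {M : Type*} [Monoid M] {g h : Mˣ} :
    h ∈ Subgroup.centralizer ({g} : Set Mˣ) ↔ (h : M) * g = g * h := by
  rw [Subgroup.mem_centralizer_singleton_iff, Units.ext_iff, Units.val_mul, Units.val_mul]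

theorem card_centralizer_GL {g : GL (Fin 2) F} (hg : ¬ IsScalar (g : Matrix (Fin 2) (Fin 2) F)) :
    Nat.card (Subgroup.centralizer ({g} : Set (GL (Fin 2) F))) =
      Nat.card {p : F × F // p.1 ^ 2 + p.1 * p.2 * (g : Matrix (Fin 2) (Fin 2) F).trace +
        p.2 ^ 2 * (g : Matrix (Fin 2) (Fin 2) F).det ≠ 0} := by
  symm
  let φ : {p : F × F // p.1 ^ 2 + p.1 * p.2 * (g : Matrix (Fin 2) (Fin 2) F).trace +
      p.2 ^ 2 * (g : Matrix (Fin 2) (Fin 2) F).det ≠ 0} →
      Subgroup.centralizer ({g} : Set (GL (Fin 2) F)) := fun p =>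
    ⟨GeneralLinearGroup.mkOfDetNeZero (p.1.1 • (1 : Matrix (Fin 2) (Fin 2) F) + p.1.2 •
      (g : Matrix (Fin 2) (Fin 2) F)) (by rw [det_coeffs]; exact p.2),
      mem_centralizer_val.2 (by
        simp [GeneralLinearGroup.mkOfDetNeZero, add_mul, mul_add])⟩
  refine Nat.card_congr (Equiv.ofBijective φ ⟨fun p q e => ?_, fun h => ?_⟩)
  · exact Subtype.ext (coeffs_injective hg
      (congrArg (fun x : Subgroup.centralizer ({g} : Set (GL (Fin 2) F)) =>
        ((x : GL (Fin 2) F) : Matrix (Fin 2) (Fin 2) F)) e))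
  · obtain ⟨x, y, hxy⟩ := exists_commutant_coeffs hg (mem_centralizer_val.1 h.2)
    refine ⟨⟨(x, y), ?_⟩, ?_⟩
    · rw [← det_coeffs, ← hxy]; exact det_unit_ne_zero _
    · apply Subtype.ext; apply Units.ext; exact hxy.symm

theorem card_centralizer_SL {g : SpecialLinearGroup (Fin 2) F} (hg : ¬ IsScalar g.1) :
    Nat.card (Subgroup.centralizer ({g} : Set (SpecialLinearGroup (Fin 2) F))) =
      Nat.card {p : F × F // p.1 ^ 2 + p.1 * p.2 * g.1.trace + p.2 ^ 2 = 1} := by
  symm
  have hdet : ∀ p : F × F, (p.1 • (1 : Matrix (Fin 2) (Fin 2) F) + p.2 • g.1).det =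
      p.1 ^ 2 + p.1 * p.2 * g.1.trace + p.2 ^ 2 := by
    intro p; rw [det_coeffs, g.2, mul_one]
  let E : {p : F × F // p.1 ^ 2 + p.1 * p.2 * g.1.trace + p.2 ^ 2 = 1} →
      SpecialLinearGroup (Fin 2) F := fun p =>
    ⟨p.1.1 • (1 : Matrix (Fin 2) (Fin 2) F) + p.1.2 • g.1, (hdet p.1).trans p.2⟩
  have hE : ∀ p, E p * g = g * E p := fun p => Subtype.ext (by
    show (p.1.1 • (1 : Matrix (Fin 2) (Fin 2) F) + p.1.2 • g.1) * g.1 =
      g.1 * (p.1.1 • (1 : Matrix (Fin 2) (Fin 2) F) + p.1.2 • g.1)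
    simp [add_mul, mul_add])
  let φ : {p : F × F // p.1 ^ 2 + p.1 * p.2 * g.1.trace + p.2 ^ 2 = 1} →
      Subgroup.centralizer ({g} : Set (SpecialLinearGroup (Fin 2) F)) := fun p =>
    ⟨E p, Subgroup.mem_centralizer_singleton_iff.2 (hE p)⟩
  refine Nat.card_congr (Equiv.ofBijective φ ⟨fun p q e => ?_, fun h => ?_⟩)
  · exact Subtype.ext (coeffs_injective hg
      (congrArg (fun x : Subgroup.centralizer ({g} : Set (SpecialLinearGroup (Fin 2) F)) =>
        (x : SpecialLinearGroup (Fin 2) F).1) e))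
  · have hh : (h : SpecialLinearGroup (Fin 2) F) * g = g * (h : SpecialLinearGroup (Fin 2) F) :=
      Subgroup.mem_centralizer_singleton_iff.1 h.2
    obtain ⟨x, y, hxy⟩ := exists_commutant_coeffs hg (congrArg Subtype.val hh)
    refine ⟨⟨(x, y), ?_⟩, ?_⟩
    · rw [← hdet, ← hxy]; exact h.1.2
    · apply Subtype.ext; apply Subtype.ext; exact hxy.symm

variable [Fintype F]

theorem not_scalar_of_no_eigen {M : Matrix (Fin 2) (Fin 2) F}
    (h : ∀ (c : F) (v : Fin 2 → F), v ≠ 0 → M.mulVec v ≠ c • v) : ¬ IsScalar M := by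
  intro hs
  refine h (M 0 0) (Pi.single 0 1) (fun e => by simpa using congrFun e 0) ?_
  ext i
  fin_cases i <;> simp [Matrix.mulVec, dotProduct, hs.2.1]

theorem charpoly_no_root {M : Matrix (Fin 2) (Fin 2) F}
    (h : ∀ (c : F) (v : Fin 2 → F), v ≠ 0 → M.mulVec v ≠ c • v) (c : F) :
    c ^ 2 - c * M.trace + M.det ≠ 0 := by
  intro e
  have h10 : M 1 0 ≠ 0 := by
    intro h10
    refine h (M 0 0) (Pi.single 0 1) (fun e0 => by simpa using congrFun e0 0) ?_
    ext i
    fin_cases i <;> simp [Matrix.mulVec, dotProduct, h10]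
  refine h c ![c - M 1 1, M 1 0] (fun e0 => h10 (by simpa using congrFun e0 1)) ?_
  simp [det_fin_two, Matrix.trace, Fin.sum_univ_two] at e
  ext i
  fin_cases i <;> simp [Matrix.mulVec, dotProduct, Fin.sum_univ_two]
  · linear_combination -e
  · ring

theorem card_centralizer_split {g : GL (Fin 2) F}
    (h01 : (g : Matrix (Fin 2) (Fin 2) F) 0 1 = 0) (h10 : (g : Matrix (Fin 2) (Fin 2) F) 1 0 = 0)
    (hne : (g : Matrix (Fin 2) (Fin 2) F) 0 0 ≠ (g : Matrix (Fin 2) (Fin 2) F) 1 1) :
    Nat.card (Subgroup.centralizer ({g} : Set (GL (Fin 2) F))) = (Fintype.card F - 1) ^ 2 := by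
  classical
  set a := (g : Matrix (Fin 2) (Fin 2) F) 0 0 with ha
  set d := (g : Matrix (Fin 2) (Fin 2) F) 1 1 with hd
  have hsub : a - d ≠ 0 := sub_ne_zero.2 hne
  rw [card_centralizer_GL (fun h => hne h.2.2)]
  have e : ∀ p : F × F, p.1 ^ 2 + p.1 * p.2 * (g : Matrix (Fin 2) (Fin 2) F).trace +
      p.2 ^ 2 * (g : Matrix (Fin 2) (Fin 2) F).det = (p.1 + p.2 * a) * (p.1 + p.2 * d) := by
    intro p; simp [det_fin_two, Matrix.trace, Fin.sum_univ_two, h01, h10, ← ha, ← hd]; ring
  simp only [e]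
  let f : {p : F × F // (p.1 + p.2 * a) * (p.1 + p.2 * d) ≠ 0} ≃ Fˣ × Fˣ :=
    { toFun := fun p => (Units.mk0 _ (left_ne_zero_of_mul p.2), Units.mk0 _ (right_ne_zero_of_mul p.2))
      invFun := fun q => ⟨(((q.2 : F) * a - q.1 * d) / (a - d), ((q.1 : F) - q.2) / (a - d)), by
        have h1 : ((q.2 : F) * a - q.1 * d) / (a - d) + ((q.1 : F) - q.2) / (a - d) * a = q.1 := by
          field_simp; ring
        have h2 : ((q.2 : F) * a - q.1 * d) / (a - d) + ((q.1 : F) - q.2) / (a - d) * d = q.2 := by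
          field_simp; ring
        simp only [h1, h2]
        exact mul_ne_zero q.1.ne_zero q.2.ne_zero⟩
      left_inv := fun p => by
        apply Subtype.ext
        apply Prod.ext <;> simp <;> field_simp <;> ring
      right_inv := fun q => by
        apply Prod.ext <;> apply Units.ext <;> simp <;> field_simp <;> ring }
  rw [Nat.card_congr f, Nat.card_prod, Nat.card_units, Nat.card_eq_fintype_card, sq]

theorem card_centralizer_elliptic {g : GL (Fin 2) F}
    (h : ∀ (c : F) (v : Fin 2 → F), v ≠ 0 → (g : Matrix (Fin 2) (Fin 2) F).mulVec v ≠ c • v) :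
    Nat.card (Subgroup.centralizer ({g} : Set (GL (Fin 2) F))) = Fintype.card F ^ 2 - 1 := by
  classical
  rw [card_centralizer_GL (not_scalar_of_no_eigen h), Nat.card_eq_fintype_card,
    Fintype.card_subtype]
  rw [show (Finset.univ.filter fun p : F × F => p.1 ^ 2 + p.1 * p.2 *
      (g : Matrix (Fin 2) (Fin 2) F).trace + p.2 ^ 2 * (g : Matrix (Fin 2) (Fin 2) F).det ≠ 0) =
      Finset.univ.erase (0, 0) from ?_, Finset.card_erase_of_mem (Finset.mem_univ _),
    Finset.card_univ, Fintype.card_prod, sq]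
  ext ⟨x, y⟩
  simp only [Finset.mem_filter, Finset.mem_univ, true_and, Finset.mem_erase, and_true]
  constructor
  · rintro hne e; rw [Prod.mk.injEq] at e; obtain ⟨rfl, rfl⟩ := e; simp at hne
  · intro hne e
    rcases eq_or_ne y 0 with rfl | hy
    · simp at e; exact hne (by rw [e])
    · apply charpoly_no_root h (-x / y)
      field_simp
      linear_combination e

theorem trace_det_of_orderOf {p : ℕ} [Fact p.Prime] [CharP F p] {g : GL (Fin 2) F}
    (hg : orderOf g = p) :
    (g : Matrix (Fin 2) (Fin 2) F).trace = 2 ∧ (g : Matrix (Fin 2) (Fin 2) F).det = 1 ∧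
      ¬ IsScalar (g : Matrix (Fin 2) (Fin 2) F) := by
  have hp : p.Prime := Fact.out
  set M := (g : Matrix (Fin 2) (Fin 2) F) with hM
  have hpow : M ^ p = 1 := by
    rw [hM, ← Units.val_pow_eq_pow_val, ← hg, pow_orderOf_eq_one, Units.val_one]
  have hN : (M - 1) ^ p = 0 := by
    rw [sub_pow_char_of_commute p (Commute.one_right M), hpow, one_pow, sub_self]
  have htr : (M - 1).trace = 0 :=
    (Matrix.isNilpotent_trace_of_isNilpotent ⟨p, hN⟩).eq_zero
  have hdet : (M - 1).det = 0 := by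
    have := congrArg Matrix.det hN
    rw [Matrix.det_pow, Matrix.det_zero] at this
    exact eq_zero_of_pow_eq_zero this
  rw [Matrix.trace_sub, Matrix.trace_one, Fintype.card_fin, Nat.cast_ofNat] at htr
  have ht : M.trace = 2 := sub_eq_zero.1 htr
  have hd : M.det = 1 := by
    simp [det_fin_two] at hdet ⊢
    simp [Matrix.trace, Fin.sum_univ_two] at ht
    linear_combination hdet + ht
  refine ⟨ht, hd, fun hs => ?_⟩
  have hone : g = 1 := by
    apply Units.ext
    rw [Units.val_one, ← hM, isScalar_eq hs]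
    simp [Matrix.trace, Fin.sum_univ_two, ← hs.2.2] at ht
    rw [det_fin_two, hs.1, hs.2.1, ← hs.2.2, mul_zero, sub_zero] at hd
    have : (M 0 0 - 1) ^ 2 = 0 := by linear_combination hd - ht
    rw [sub_eq_zero.1 (eq_zero_of_pow_eq_zero this), one_smul]
  rw [hone, orderOf_one] at hg
  exact hp.one_lt.ne hg

theorem isConj_of_orderOf {p : ℕ} [Fact p.Prime] [CharP F p] {g h : GL (Fin 2) F}
    (hg : orderOf g = p) (hh : orderOf h = p) : IsConj g h := by
  obtain ⟨a, b, c⟩ := trace_det_of_orderOf hg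
  obtain ⟨a', b', c'⟩ := trace_det_of_orderOf hh
  exact isConj_of_trace_det c c' (a.trans a'.symm) (b.trans b'.symm)

theorem trace_of_orderOf_SL {p : ℕ} [Fact p.Prime] [CharP F p]
    {g : SpecialLinearGroup (Fin 2) F} (hg : orderOf g = p) :
    g.1.trace = 2 ∧ ¬ IsScalar g.1 := by
  obtain ⟨a, -, c⟩ := trace_det_of_orderOf (g := SpecialLinearGroup.toGL g) (p := p) (F := F)
    (by rw [orderOf_injective _ SpecialLinearGroup.toGL_injective, hg])
  exact ⟨a, c⟩

theorem carrier_card_mul {G : Type*} [Group G] [Finite G] (g : G) :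
    Nat.card (ConjClasses.mk g).carrier * Nat.card (Subgroup.centralizer ({g} : Set G)) =
      Nat.card G := by
  rw [Nat.card_congr (Equiv.setCongr (ConjAct.orbit_eq_carrier_conjClasses g).symm),
    Subgroup.nat_card_centralizer_nat_card_stabilizer, Nat.card_coe_set_eq,
    ← MulAction.index_stabilizer, Subgroup.index_mul_card]
  exact Nat.card_congr ConjAct.ofConjAct.toEquiv

theorem card_centralizer_unip (h2 : (2 : F) ≠ 0) {g : SpecialLinearGroup (Fin 2) F}
    (hg : ¬ IsScalar g.1) (ht : g.1.trace = 2) :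
    Nat.card (Subgroup.centralizer ({g} : Set (SpecialLinearGroup (Fin 2) F))) =
      2 * Fintype.card F := by
  rw [card_centralizer_SL hg, ht]
  have h11 : (1 : F) ≠ -1 := fun e => h2 (by linear_combination e)
  let f : {p : F × F // p.1 ^ 2 + p.1 * p.2 * 2 + p.2 ^ 2 = 1} ≃ F × Bool :=
    { toFun := fun p => (p.1.2, open scoped Classical in decide (p.1.1 + p.1.2 = 1))
      invFun := fun q => ⟨(cond q.2 1 (-1) - q.1, q.1), by cases q.2 <;> simp <;> ring⟩
      left_inv := fun p => by
        have : (p.1.1 + p.1.2) * (p.1.1 + p.1.2) = 1 := by linear_combination p.2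
        apply Subtype.ext
        refine Prod.ext ?_ rfl
        rcases mul_self_eq_one_iff.1 this with e | e
        · simp [e]; linear_combination -e
        · simp [e, h11.symm]; linear_combination -e
      right_inv := fun q => by
        cases hq : q.2 <;> apply Prod.ext <;> simp [hq, h11.symm] }
  rw [Nat.card_congr f, Nat.card_prod, Nat.card_eq_fintype_card, Nat.card_eq_fintype_card,
    Fintype.card_bool]
  ring

theorem card_centralizer_unip_two (h2 : (2 : F) = 0) {g : SpecialLinearGroup (Fin 2) F}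
    (hg : ¬ IsScalar g.1) (ht : g.1.trace = 2) :
    Nat.card (Subgroup.centralizer ({g} : Set (SpecialLinearGroup (Fin 2) F))) =
      Fintype.card F := by
  rw [card_centralizer_SL hg, ht, h2]
  let f : {p : F × F // p.1 ^ 2 + p.1 * p.2 * 0 + p.2 ^ 2 = 1} ≃ F :=
    { toFun := fun p => p.1.2
      invFun := fun q => ⟨(1 + q, q), by linear_combination (q + q ^ 2) * h2⟩
      left_inv := fun p => by
        apply Subtype.ext
        refine Prod.ext ?_ rfl
        have : (p.1.1 - (1 + p.1.2)) ^ 2 = 0 := by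
          linear_combination p.2 + (1 + p.1.2 - p.1.1 - p.1.1 * p.1.2) * h2
        exact (sub_eq_zero.1 (eq_zero_of_pow_eq_zero this)).symm
      right_inv := fun q => rfl }
  rw [Nat.card_congr f, Nat.card_eq_fintype_card]

theorem class_size_unip (h2 : (2 : F) ≠ 0) {g : SpecialLinearGroup (Fin 2) F}
    (hg : ¬ IsScalar g.1) (ht : g.1.trace = 2) :
    Nat.card (ConjClasses.mk g).carrier = (Fintype.card F ^ 2 - 1) / 2 := by
  have h := carrier_card_mul g
  rw [card_centralizer_unip h2 hg ht, Linear.card_SL_two (F := F)] at h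
  have hq : 0 < Fintype.card F := Fintype.card_pos
  have : Nat.card (ConjClasses.mk g).carrier * 2 = Fintype.card F ^ 2 - 1 := by
    apply Nat.eq_of_mul_eq_mul_left hq
    linarith
  omega

theorem class_size_unip_two (h2 : (2 : F) = 0) {g : SpecialLinearGroup (Fin 2) F}
    (hg : ¬ IsScalar g.1) (ht : g.1.trace = 2) :
    Nat.card (ConjClasses.mk g).carrier = Fintype.card F ^ 2 - 1 := by
  have h := carrier_card_mul g
  rw [card_centralizer_unip_two h2 hg ht, Linear.card_SL_two (F := F)] at h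
  have hq : 0 < Fintype.card F := Fintype.card_pos
  apply Nat.eq_of_mul_eq_mul_left hq
  linarith

theorem isConj_triangular_iff [DecidableEq F] (h2 : (2 : F) ≠ 0)
    {g h : SpecialLinearGroup (Fin 2) F}
    (g00 : g.1 0 0 = 1) (g11 : g.1 1 1 = 1) (g10 : g.1 1 0 = 0) (g01 : g.1 0 1 ≠ 0)
    (h00 : h.1 0 0 = 1) (h11 : h.1 1 1 = 1) (h10 : h.1 1 0 = 0) (h01 : h.1 0 1 ≠ 0) :
    IsConj g h ↔ IsSquare (g.1 0 1 * h.1 0 1) := by
  have key : ∀ {k : SpecialLinearGroup (Fin 2) F}, k.1 0 0 = 1 → k.1 1 1 = 1 → k.1 1 0 = 0 →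
      (hk : k.1 0 1 ≠ 0) → IsConj k (nfS 2 (Units.mk0 (-k.1 0 1) (neg_ne_zero.2 hk))) := by
    intro k k00 k11 k10 hk
    have := isConj_nfS k (v := ![0, 1]) (Units.mk0 (-k.1 0 1) (neg_ne_zero.2 hk))
      (by simp [Qf])
    rwa [show k.1.trace = 2 by simp [Matrix.trace, k00, k11]; norm_num] at this
  have hg := key g00 g11 g10 g01
  have hh := key h00 h11 h10 h01
  rw [show (g.1 0 1 * h.1 0 1) = (Units.mk0 (-g.1 0 1) (neg_ne_zero.2 g01) : F) *
      (Units.mk0 (-h.1 0 1) (neg_ne_zero.2 h01) : F) by simp,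
    ← isConj_nfS_iff h2 (by norm_num : (2 : F) ^ 2 = 4)]
  exact ⟨fun e => hg.symm.trans (e.trans hh), fun e => hg.trans (e.trans hh.symm)⟩

theorem unipotent_classes [DecidableEq F] (hodd : Odd (Fintype.card F)) (p : ℕ) [Fact p.Prime]
    [CharP F p] :
    Nat.card {C : ConjClasses (SpecialLinearGroup (Fin 2) F) //
      ∃ g : SpecialLinearGroup (Fin 2) F, orderOf g = p ∧ ConjClasses.mk g = C} = 2 := by
  have h2 := two_ne_zero_of_odd (F := F) hodd
  let w : Bool → SpecialLinearGroup (Fin 2) F := fun b => nfS 2 (cond b 1 (nu F))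
  have hord : ∀ b, orderOf (w b) = p := by
    intro b
    refine orderOf_eq_prime ?_ ?_
    · set M := (w b).1 with hM
      have hsq : (M - 1) ^ 2 = 0 := by
        rw [sq, hM]
        ext i j
        fin_cases i <;> fin_cases j <;>
          simp [w, nfS, Kmat, Matrix.mul_apply, Fin.sum_univ_two] <;> field_simp <;> ring
      have hp2 : 2 ≤ p := (Fact.out : p.Prime).two_le
      have hN : (M - 1) ^ p = 0 := pow_eq_zero_of_le hp2 hsq
      have hpow : M ^ p = 1 := by
        have := sub_pow_char_of_commute p (Commute.one_right M)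
        rw [hN, one_pow] at this
        exact sub_eq_zero.1 this.symm
      apply Subtype.ext
      exact hpow
    · intro e
      exact not_scalar_nfS (2 : F) (cond b 1 (nu F)) (by
        show IsScalar (w b).1
        rw [e]; simp [IsScalar])
  let f : Bool → {C : ConjClasses (SpecialLinearGroup (Fin 2) F) //
      ∃ g : SpecialLinearGroup (Fin 2) F, orderOf g = p ∧ ConjClasses.mk g = C} :=
    fun b => ⟨ConjClasses.mk (w b), w b, hord b, rfl⟩
  have hf : Function.Bijective f := by
    constructor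
    · intro a b e
      have e' := (isConj_nfS_iff h2 (by norm_num : (2 : F) ^ 2 = 4) _ _).1
        (ConjClasses.mk_eq_mk_iff_isConj.1 (congrArg Subtype.val e))
      cases a <;> cases b <;>
        first
          | rfl
          | (simp at e'; exact absurd e' (not_isSquare_nu hodd))
    · rintro ⟨C, g, hg, rfl⟩
      obtain ⟨ht, hs⟩ := trace_of_orderOf_SL hg
      obtain ⟨v, hv⟩ := exists_Qf_ne_zero hs
      have h1 := isConj_nfS g (Units.mk0 _ hv) rfl
      rw [ht] at h1
      by_cases hq : IsSquare (Qf g.1 v)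
      · exact ⟨true, Subtype.ext (ConjClasses.mk_eq_mk_iff_isConj.2
          (h1.trans ((isConj_nfS_iff h2 (by norm_num) _ _).2 (by simpa using hq))).symm)⟩
      · exact ⟨false, Subtype.ext (ConjClasses.mk_eq_mk_iff_isConj.2
          (h1.trans ((isConj_nfS_iff h2 (by norm_num) _ _).2
            (not_isSquare_mul hq (not_isSquare_nu hodd)))).symm)⟩
  rw [← Nat.card_congr (Equiv.ofBijective f hf), Nat.card_eq_fintype_card, Fintype.card_bool]

theorem isConj_order_two (h2 : (2 : F) = 0) [CharP F 2] {g h : SpecialLinearGroup (Fin 2) F}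
    (hg : orderOf g = 2) (hh : orderOf h = 2) : IsConj g h := by
  obtain ⟨tg, sg⟩ := trace_of_orderOf_SL hg
  obtain ⟨th, sh⟩ := trace_of_orderOf_SL hh
  obtain ⟨v, hv⟩ := exists_Qf_eq_one sg (Or.inr h2)
  obtain ⟨v', hv'⟩ := exists_Qf_eq_one sh (Or.inr h2)
  have a := isConj_nfS g 1 (v := v) (by simpa using hv)
  have b := isConj_nfS h 1 (v := v') (by simpa using hv')
  rw [tg] at a; rw [th] at b
  exact a.trans b.symm

/-- Fixed points on cosets through a transversal. -/
theorem fixedPointCharacter_borel [DecidableEq F] (g : GL (Fin 2) F) :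
    Cfsg.fixedPointCharacter (upperTriangularGL 2 F) g =
      Rval (fun _ _ => 1) (g : Matrix (Fin 2) (Fin 2) F) := by
  classical
  let q : Option F → GL (Fin 2) F ⧸ upperTriangularGL 2 F := fun o => QuotientGroup.mk (repGL o)
  have hq : Function.Bijective q := by
    constructor
    · intro o o' e
      have hb : (repGL o)⁻¹ * repGL o' ∈ upperTriangularGL 2 F := QuotientGroup.eq.1 e
      exact (congrArg Prod.fst (bijective_repGL.1 (a₁ := (o, ⟨_, hb⟩)) (a₂ := (o', 1))
        (by simp)) : o = o')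
    · intro x
      obtain ⟨y, rfl⟩ := QuotientGroup.mk_surjective x
      obtain ⟨⟨o, b⟩, rfl⟩ := bijective_repGL.2 y
      refine ⟨o, QuotientGroup.eq.2 ?_⟩
      simpa [← mul_assoc] using b.2
  have hfix : ∀ o, g • q o = q o ↔ cj o (g : Matrix (Fin 2) (Fin 2) F) 1 0 = 0 := by
    intro o
    rw [MulAction.Quotient.smul_mk, smul_eq_mul, QuotientGroup.eq, mem_borelGL]
    have e : (g * repGL o)⁻¹ * repGL o = ((repGL o)⁻¹ * g * repGL o)⁻¹ := by group
    rw [e, ← mem_borelGL, inv_mem_iff, mem_borelGL, Units.val_mul, Units.val_mul, repGL_inv_val,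
      repGL_val]
    rfl
  rw [Cfsg.fixedPointCharacter, Rval, Finset.sum_boole]
  norm_cast
  rw [← Fintype.card_subtype, ← Nat.card_eq_fintype_card]
  refine (Nat.card_congr ?_).symm
  exact (Equiv.ofBijective q hq).subtypeEquiv fun o => (hfix o).symm

end Cfsg.Agent.KnownA.GL2
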