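import Mathlib
import Cfsg.Prelude
import Cfsg.Agent.Chars.Induced
import Cfsg.Agent.Chars.Linear
import Cfsg.Agent.Chars.Gen

/-! # General tools for the character tables of `GL₂` and `SL₂` -/

set_option autoImplicit false
set_option linter.unusedSectionVars false

namespace Cfsg.Agent.KnownA.GL2

open Cfsg.Agent.Chars
open scoped ComplexConjugate

variable {G : Type*} [Group G] [Fintype G]

/-- A character vanishes on a coset of a subgroup if it vanishes in mean on the subgroup. -/
theorem sum_coset_eq_zero {χ : G → ℂ} (hχ : IsCharacter G χ) (H : Subgroup G) [Fintype H]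
    (h : ∑ x : H, χ x = 0) (g : G) : ∑ x : H, χ (g * x) = 0 := by
  obtain ⟨n, ρ, rfl⟩ := hχ
  set P : Module.End ℂ (Fin n → ℂ) := ∑ x : H, ρ (x : G) with hP
  have hPP : P * P = (Nat.card H : ℂ) • P := by
    have : ∀ y : H, ρ (y : G) * P = P := by
      intro y
      rw [hP, Finset.mul_sum]
      refine Fintype.sum_equiv (Equiv.mulLeft y) _ _ fun x => ?_
      simp [← map_mul]
    conv_lhs => arg 1; rw [hP]
    rw [Finset.sum_mul, Finset.sum_congr rfl fun y _ => this y, Finset.sum_const, Finset.card_univ,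
      ← Nat.card_eq_fintype_card, Nat.cast_smul_eq_nsmul]
  have hc : (Nat.card H : ℂ) ≠ 0 := subgroup_card_ne_zero H
  set E : Module.End ℂ (Fin n → ℂ) := (Nat.card H : ℂ)⁻¹ • P with hE
  have hproj : LinearMap.IsProj (LinearMap.range E) E := by
    refine ⟨fun x => LinearMap.mem_range_self E x, ?_⟩
    rintro _ ⟨x, rfl⟩
    rw [← Module.End.mul_apply, hE, smul_mul_smul_comm, hPP, smul_smul, mul_assoc,
      inv_mul_cancel₀ hc, mul_one]
  have htr : LinearMap.trace ℂ _ E = 0 := by
    have : ∑ x : H, LinearMap.trace ℂ _ (ρ (x : G)) = 0 := h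
    rw [hE, map_smul, hP, map_sum, this, smul_zero]
  rw [hproj.trace, Nat.cast_eq_zero, Submodule.finrank_eq_zero, LinearMap.range_eq_bot] at htr
  have hP0 : P = 0 := by
    rwa [hE, smul_eq_zero, or_iff_right (inv_ne_zero hc)] at htr
  show ∑ x : H, LinearMap.trace ℂ _ (ρ (g * x)) = 0
  simp only [map_mul]
  rw [← map_sum, ← Finset.mul_sum, ← hP, hP0, mul_zero, map_zero]

theorem classInner_comp_equiv (e : G ≃* G) (φ ψ : G → ℂ) :
    classInner (φ ∘ e) (ψ ∘ e) = classInner φ ψ := by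
  rw [classInner_def, classInner_def]
  congr 1
  exact e.toEquiv.sum_comp (fun g => φ g * conj (ψ g))

theorem classInner_zero_left (ψ : G → ℂ) : classInner (0 : G → ℂ) ψ = 0 := by
  simp [classInner_def]

/-- A character contains an irreducible with non-zero inner product. -/
theorem exists_add_of_inner_ne_zero {φ χ : G → ℂ} (hφ : IsCharacter G φ)
    (hχ : IsIrrCharacter G χ) (h : classInner φ χ ≠ 0) :
    ∃ φ', IsCharacter G φ' ∧ φ = χ + φ' := by
  classical
  obtain ⟨m, hm, hs⟩ := exists_eq_sum_nsmul hφ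
  set i : IrrCharacter G := ⟨χ, hχ⟩
  obtain ⟨k, hk⟩ : ∃ k, m i = k + 1 := by
    refine ⟨m i - 1, ?_⟩
    have : m i ≠ 0 := fun e => h (by rw [show χ = (i : G → ℂ) from rfl, hm i, e]; simp)
    omega
  refine ⟨k • χ + ∑ ψ ∈ Finset.univ.erase i, m ψ • (ψ : G → ℂ),
    isCharacter_add (isCharacter_nsmul (isCharacter_of_isIrr hχ) k)
      (isCharacter_sum _ _ fun ψ _ => isCharacter_nsmul (irr_isCharacter ψ) _), ?_⟩
  rw [hs, ← Finset.add_sum_erase _ _ (Finset.mem_univ i), hk, succ_nsmul, ← add_assoc,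
    add_comm (k • _) χ]

theorem eq_of_inner_ne_zero {φ χ : G → ℂ} (hφ : IsIrrCharacter G φ) (hχ : IsIrrCharacter G χ)
    (h : classInner φ χ ≠ 0) : φ = χ := by
  by_contra hne
  exact h (classInner_irr_of_ne hφ hχ hne)

theorem classInner_self_ne_zero {χ : G → ℂ} (h : IsIrrCharacter G χ) :
    classInner χ χ ≠ 0 := by
  rw [classInner_self_irr h]; exact one_ne_zero

theorem eq_of_norms {f f' : G → ℂ} (hf : IsClassFunction G f) (hf' : IsClassFunction G f')
    (h : classInner (f - f') (f - f') = 0) : f = f' := by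
  rw [← sub_eq_zero]
  funext g
  rw [classInner_def, mul_eq_zero, or_iff_right (inv_ne_zero card_ne_zero)] at h
  have h' : ∑ x : G, Complex.normSq ((f - f') x) = 0 := by
    have : ((∑ x : G, Complex.normSq ((f - f') x) : ℝ) : ℂ) = 0 := by
      rw [← h]; push_cast
      exact Finset.sum_congr rfl fun x _ => (Complex.mul_conj _).symm
    exact_mod_cast this
  rw [Finset.sum_eq_zero_iff_of_nonneg fun x _ => Complex.normSq_nonneg _] at h'
  exact Complex.normSq_eq_zero.1 (h' g (Finset.mem_univ g))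

/-- A character of norm two is the sum of two distinct irreducible characters. -/
theorem exists_two_of_norm_two {φ : G → ℂ} (hφ : IsCharacter G φ) (h : classInner φ φ = 2) :
    ∃ χ₁ χ₂, IsIrrCharacter G χ₁ ∧ IsIrrCharacter G χ₂ ∧ χ₁ ≠ χ₂ ∧ φ = χ₁ + χ₂ := by
  classical
  obtain ⟨m, hm, hs⟩ := exists_eq_sum_nsmul hφ
  have h2 : ∑ ψ : IrrCharacter G, m ψ * m ψ = 2 := by
    have : ((∑ ψ : IrrCharacter G, m ψ * m ψ : ℕ) : ℂ) = 2 := by
      rw [← h, classInner_eq_sum (isClassFunction_of_isCharacter hφ) φ]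
      push_cast
      refine Finset.sum_congr rfl fun ψ _ => ?_
      rw [← classInner_conj_symm φ (ψ : G → ℂ), hm]
      simp
    exact_mod_cast this
  have hle : ∀ ψ, m ψ ≤ 1 := by
    intro ψ
    have := h2 ▸ Finset.single_le_sum (f := fun χ => m χ * m χ) (fun _ _ => Nat.zero_le _)
      (Finset.mem_univ ψ)
    by_contra hc
    have : 2 * 2 ≤ m ψ * m ψ := Nat.mul_le_mul (by omega) (by omega)
    omega
  have hsq : ∀ ψ, m ψ * m ψ = if m ψ = 1 then 1 else 0 := by
    intro ψ
    have := hle ψ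
    rcases Nat.eq_zero_or_pos (m ψ) with e | e
    · simp [e]
    · simp [show m ψ = 1 by omega]
  rw [Finset.sum_congr rfl fun ψ _ => hsq ψ, Finset.sum_boole, Nat.cast_id,
    Finset.card_eq_two] at h2
  obtain ⟨a, b, hab, hset⟩ := h2
  refine ⟨a, b, a.2, b.2, fun e => hab (Subtype.ext e), ?_⟩
  have hrest : ∀ ψ, ψ ≠ a → ψ ≠ b → m ψ = 0 := by
    intro ψ ha hb
    by_contra hne
    have : ψ ∈ ({a, b} : Finset (IrrCharacter G)) := hset ▸ Finset.mem_filter.2
      ⟨Finset.mem_univ _, by have := hle ψ; omega⟩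
    simp [ha, hb] at this
  have hma : m a = 1 :=
    (Finset.mem_filter.1 (hset.symm ▸ Finset.mem_insert_self a {b} : a ∈ _)).2
  have hmb : m b = 1 := (Finset.mem_filter.1 (hset.symm ▸ Finset.mem_insert_of_mem
    (Finset.mem_singleton_self b) : b ∈ _)).2
  rw [hs, ← Finset.sum_subset (Finset.subset_univ ({a, b} : Finset (IrrCharacter G))),
    Finset.sum_pair hab, hma, hmb, one_smul, one_smul]
  intro ψ _ hψ
  simp only [Finset.mem_insert, Finset.mem_singleton, not_or] at hψ
  rw [hrest ψ hψ.1 hψ.2, zero_smul]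

variable {A : Type*} [AddCommGroup A] [Fintype A]

/-- The multiplicity of a character of an additive subgroup. -/
noncomputable def mult (u : Multiplicative A →* G) (χ : G → ℂ) (φ : AddChar A ℂ) : ℂ :=
  (Fintype.card A : ℂ)⁻¹ * ∑ a : A, χ (u (Multiplicative.ofAdd a)) * conj (φ a)

theorem mult_add (u : Multiplicative A →* G) (χ χ' : G → ℂ) (φ : AddChar A ℂ) :
    mult u (χ + χ') φ = mult u χ φ + mult u χ' φ := by
  simp [mult, add_mul, Finset.sum_add_distrib, mul_add]

theorem exists_mult_eq_nat (u : Multiplicative A →* G) {χ : G → ℂ} (hχ : IsCharacter G χ)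
    (φ : AddChar A ℂ) : ∃ k : ℕ, mult u χ φ = k := by
  obtain ⟨k, hk⟩ := exists_classInner_eq_nat (isCharacter_comp hχ u)
    (isCharacter_hom (φ.toMonoidHom.toHomUnits))
  refine ⟨k, ?_⟩
  rw [← hk, classInner_def, mult, Nat.card_eq_fintype_card, Fintype.card_multiplicative]
  congr 1
  exact Fintype.sum_equiv Multiplicative.ofAdd _ _ fun a => rfl

theorem sum_mult (u : Multiplicative A →* G) (χ : G → ℂ) (a : A) :
    ∑ φ : AddChar A ℂ, mult u χ φ * φ a = χ (u (Multiplicative.ofAdd a)) := by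
  classical
  have : ∀ φ : AddChar A ℂ, mult u χ φ * φ a =
      (Fintype.card A : ℂ)⁻¹ * ∑ b : A, χ (u (Multiplicative.ofAdd b)) * φ (a - b) := by
    intro φ
    rw [mult, mul_assoc, Finset.sum_mul]
    congr 1
    refine Finset.sum_congr rfl fun b _ => ?_
    rw [← AddChar.map_neg_eq_conj, mul_assoc, ← AddChar.map_add_eq_mul, neg_add_eq_sub]
  rw [Finset.sum_congr rfl fun φ _ => this φ, ← Finset.mul_sum, Finset.sum_comm]
  simp only [← Finset.mul_sum, AddChar.sum_apply_eq_ite, sub_eq_zero, mul_ite, mul_zero,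
    Finset.sum_ite_eq, Finset.mem_univ, if_true]
  rw [mul_comm (χ _) _, ← mul_assoc, inv_mul_cancel₀ (Nat.cast_ne_zero.2 Fintype.card_ne_zero),
    one_mul]

variable {F : Type*} [Field F] [Fintype F] [DecidableEq F]

theorem conj_mulChar (α : MulChar F ℂ) (x : F) : conj (α x) = α⁻¹ x := by
  rw [← MulChar.star_apply' α x]
  rfl

noncomputable instance fintypeMulChar : Fintype (MulChar F ℂ) := Fintype.ofFinite _

theorem card_mulChar : Fintype.card (MulChar F ℂ) = Fintype.card F - 1 := by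
  have : NeZero (Monoid.exponent Fˣ : ℂ) := ⟨Nat.cast_ne_zero.2 Monoid.exponent_ne_zero_of_finite⟩
  have : HasEnoughRootsOfUnity ℂ (Monoid.exponent Fˣ) :=
    IsSepClosed.hasEnoughRootsOfUnity ℂ (Monoid.exponent Fˣ)
  rw [← Nat.card_eq_fintype_card, MulChar.card_eq_card_units_of_hasEnoughRootsOfUnity,
    Nat.card_eq_fintype_card, Fintype.card_units]

/-- Orthogonality of multiplicative characters, in the character variable. -/
theorem sum_mulChar_apply {x : F} (hx : x ≠ 0) :
    ∑ α : MulChar F ℂ, α x = if x = 1 then ((Fintype.card F - 1 : ℕ) : ℂ) else 0 := by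
  have : NeZero (Monoid.exponent Fˣ : ℂ) := ⟨Nat.cast_ne_zero.2 Monoid.exponent_ne_zero_of_finite⟩
  have : HasEnoughRootsOfUnity ℂ (Monoid.exponent Fˣ) :=
    IsSepClosed.hasEnoughRootsOfUnity ℂ (Monoid.exponent Fˣ)
  split_ifs with h
  · subst h; simp [card_mulChar]
  · obtain ⟨β, hβ⟩ := MulChar.exists_apply_ne_one_of_hasEnoughRootsOfUnity F ℂ h
    have h' : ∑ α : MulChar F ℂ, α x = β x * ∑ α : MulChar F ℂ, α x := by
      rw [Finset.mul_sum]
      exact (Fintype.sum_equiv (Equiv.mulLeft β) _ _ fun α => by simp [MulChar.mul_apply]).symm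
    have h'' : (β x - 1) * ∑ α : MulChar F ℂ, α x = 0 := by linear_combination -h'
    exact (mul_eq_zero.1 h'').resolve_left (sub_ne_zero.2 hβ)

/-- Orthogonality of multiplicative characters. -/
theorem sum_mul_conj (α β : MulChar F ℂ) :
    ∑ a : Fˣ, α a * conj (β a) = if α = β then ((Fintype.card F - 1 : ℕ) : ℂ) else 0 := by
  have e : ∀ a : Fˣ, α a * conj (β a) = (α * β⁻¹) a := fun a => by
    rw [conj_mulChar, MulChar.mul_apply]
  have hs : ∑ a : Fˣ, (α * β⁻¹) a = ∑ x : F, (α * β⁻¹) x := by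
    rw [← Finset.sum_subset (f := fun x : F => (α * β⁻¹) x)
      (Finset.subset_univ (Finset.univ.map ⟨Units.val, Units.val_injective⟩))]
    · rw [Finset.sum_map]; rfl
    · intro x _ hx
      apply MulChar.map_nonunit
      rintro ⟨u, rfl⟩
      exact hx (Finset.mem_map.2 ⟨u, Finset.mem_univ _, rfl⟩)
  rw [Finset.sum_congr rfl fun a _ => e a]
  split_ifs with h
  · subst h
    simp [MulChar.one_apply_coe, Fintype.card_units]
  · rw [hs]
    exact MulChar.sum_eq_zero_of_ne_one fun e' => h (by rwa [mul_inv_eq_one] at e')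

/-- Fourier inversion for functions of a unit. -/
theorem eq_zero_of_sum_conj_eq_zero {j : Fˣ → ℂ}
    (h : ∀ α : MulChar F ℂ, ∑ a : Fˣ, j a * conj (α a) = 0) : j = 0 := by
  funext b
  have h1 : ∑ α : MulChar F ℂ, α b * ∑ a : Fˣ, j a * conj (α a) = 0 := by simp [h]
  have key : ∀ a : Fˣ, ∑ α : MulChar F ℂ, α (b : F) * (j a * conj (α a)) =
      j a * if a = b then ((Fintype.card F - 1 : ℕ) : ℂ) else 0 := by
    intro a
    have e : ∀ α : MulChar F ℂ, α (b : F) * (j a * conj (α a)) =
        j a * α ((b : F) * ((a⁻¹ : Fˣ) : F)) := by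
      intro α
      rw [conj_mulChar, MulChar.inv_apply' α, map_mul α, Units.val_inv_eq_inv_val]
      ring
    rw [Finset.sum_congr rfl fun α _ => e α, ← Finset.mul_sum,
      sum_mulChar_apply (mul_ne_zero b.ne_zero (Units.ne_zero _))]
    congr 1
    refine if_congr ?_ rfl rfl
    rw [← Units.val_mul, Units.val_eq_one, mul_inv_eq_one, eq_comm]
  simp only [Finset.mul_sum] at h1
  rw [Finset.sum_comm, Finset.sum_congr rfl fun a _ => key a] at h1
  simp only [mul_ite, mul_zero, Finset.sum_ite_eq', Finset.mem_univ, if_true] at h1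
  have h2 : ((Fintype.card F - 1 : ℕ) : ℂ) ≠ 0 := by
    have : 1 < Fintype.card F := Fintype.one_lt_card
    exact Nat.cast_ne_zero.2 (by omega)
  exact (mul_eq_zero.1 h1).resolve_right h2

end Cfsg.Agent.KnownA.GL2
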