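import Mathlib
import Cfsg.Agent.KnownA.GL2.Tools
import Cfsg.Agent.KnownA.GL2.Centralizers
import Cfsg.Agent.Linear.Card

/-! # The irreducible characters of `GL₂` -/

set_option autoImplicit false
set_option linter.unusedSectionVars false

namespace Cfsg.Agent.KnownA.GL2

open Matrix Cfsg.Agent.Chars
open scoped ComplexConjugate

variable {F : Type*} [Field F] [Fintype F] [DecidableEq F]

/-- An upper triangular element. -/
noncomputable def bG (a d : Fˣ) (c : F) : GL (Fin 2) F :=
  GeneralLinearGroup.mkOfDetNeZero !![(a : F), c; 0, (d : F)] (by simp [det_fin_two])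

theorem bG_val (a d : Fˣ) (c : F) :
    ((bG a d c : GL (Fin 2) F) : Matrix (Fin 2) (Fin 2) F) = !![(a : F), c; 0, (d : F)] := rfl

theorem bG_mem (a d : Fˣ) (c : F) : bG a d c ∈ upperTriangularGL 2 F := by
  rw [mem_borelGL, bG_val]; simp

theorem bG_mul (a d a' d' : Fˣ) (c c' : F) :
    bG a d c * bG a' d' c' = bG (a * a') (d * d') ((a : F) * c' + c * d') := by
  apply Units.ext
  rw [Units.val_mul, bG_val, bG_val, bG_val]
  ext i j
  fin_cases i <;> fin_cases j <;> simp [Matrix.mul_apply, Fin.sum_univ_two]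

/-- The unipotent radical. -/
noncomputable def uG : Multiplicative F →* GL (Fin 2) F where
  toFun c := bG 1 1 c.toAdd
  map_one' := by
    apply Units.ext; ext i j
    fin_cases i <;> fin_cases j <;> simp [bG_val]
  map_mul' c c' := by rw [bG_mul]; simp [add_comm]

/-- The Borel subgroup is parametrised by its entries. -/
noncomputable def borelEquivG : (Fˣ × Fˣ) × F ≃ upperTriangularGL 2 F :=
  Equiv.ofBijective (fun p => ⟨bG p.1.1 p.1.2 p.2, bG_mem _ _ _⟩) (by
    constructor
    · intro p q e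
      have h := congrArg (fun x : upperTriangularGL 2 F =>
        ((x : GL (Fin 2) F) : Matrix (Fin 2) (Fin 2) F)) e
      simp only [bG_val] at h
      exact Prod.ext (Prod.ext (Units.ext (by simpa using congrFun (congrFun h 0) 0))
        (Units.ext (by simpa using congrFun (congrFun h 1) 1)))
        (by simpa using congrFun (congrFun h 0) 1)
    · intro b
      have h10 := (mem_borelGL _).1 b.2
      have hd := diag_ne_zero (det_unit_ne_zero (b : GL (Fin 2) F)) h10
      refine ⟨((Units.mk0 _ hd.1, Units.mk0 _ hd.2), ((b : GL (Fin 2) F) : Matrix (Fin 2) (Fin 2) F) 0 1),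
        Subtype.ext (Units.ext ?_)⟩
      ext i j
      fin_cases i <;> fin_cases j <;> simp [bG_val, h10])

/-- The sum over a coset of the unipotent radical. -/
noncomputable def jG (χ : GL (Fin 2) F → ℂ) (a d : Fˣ) : ℂ := ∑ c : F, χ (bG a d c)

theorem card_units_ne_zero : ((Fintype.card F - 1 : ℕ) : ℂ) ≠ 0 := by
  have : 1 < Fintype.card F := Fintype.one_lt_card
  exact Nat.cast_ne_zero.2 (by omega)

theorem inner_RG {χ : GL (Fin 2) F → ℂ} (hχ : IsClassFunction (GL (Fin 2) F) χ)
    (α β : MulChar F ℂ) :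
    classInner χ (RG α β) =
      ((Fintype.card F : ℂ) * (Fintype.card F - 1 : ℕ) ^ 2)⁻¹ *
        ∑ a : Fˣ, ∑ d : Fˣ, jG χ a d * (conj (α a) * conj (β d)) := by
  classical
  rw [RG, classInner_indFun_right _ _ hχ, classInner_def,
    ← Nat.card_congr borelEquivG, Nat.card_eq_fintype_card, Fintype.card_prod, Fintype.card_prod,
    Fintype.card_units, ← borelEquivG.sum_comp, Fintype.sum_prod_type, Fintype.sum_prod_type]
  congr 1
  · push_cast; ring
  · refine Finset.sum_congr rfl fun a _ => Finset.sum_congr rfl fun d _ => ?_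
    rw [jG, Finset.sum_mul]
    refine Finset.sum_congr rfl fun c _ => ?_
    have hb : ((borelEquivG ((a, d), c) : upperTriangularGL 2 F) : GL (Fin 2) F) = bG a d c := rfl
    simp only [hb]
    simp [bG_val, map_mul]

/-- The sum of induced values over a coset of the unipotent radical. -/
theorem sum_Rval (θ : F → F → ℂ) (a d : F) :
    ∑ c : F, Rval θ !![a, c; 0, d] = (Fintype.card F : ℂ) * (θ a d + θ d a) := by
  by_cases h : a = d
  · subst h
    rw [← Finset.add_sum_erase _ _ (Finset.mem_univ (0 : F)),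
      Finset.sum_congr rfl (g := fun _ => θ a a) fun c hc => by
        rw [Rval_unip θ (by simp) (by simp) (by simpa using Finset.ne_of_mem_erase hc)]; simp,
      Rval_scalar θ (by simp) (by simp) (by simp), Finset.sum_const, Finset.card_erase_of_mem
      (Finset.mem_univ _), Finset.card_univ, nsmul_eq_mul, Nat.cast_sub Fintype.card_pos]
    simp
    ring
  · rw [Finset.sum_congr rfl (g := fun _ => θ a d + θ d a) fun c _ => by
      rw [Rval_split θ (by simp) (by simpa using h)]; simp]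
    simp
    ring

theorem jG_RG (α β : MulChar F ℂ) (a d : Fˣ) :
    jG (RG α β) a d = (Fintype.card F : ℂ) * (α a * β d + α d * β a) := by
  rw [jG, ← sum_Rval (fun a d => α a * β d) (a : F) d]
  exact Finset.sum_congr rfl fun c _ => by rw [RG_eq, bG_val]

theorem inner_RG_RG (α β α' β' : MulChar F ℂ) :
    classInner (RG α β) (RG α' β') =
      (if α = α' ∧ β = β' then 1 else 0) + (if β = α' ∧ α = β' then 1 else 0) := by
  classical
  rw [inner_RG (isClassFunction_of_isCharacter (isCharacter_RG α β))]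
  simp only [jG_RG]
  have e : ∀ a d : Fˣ, (Fintype.card F : ℂ) * (α a * β d + α d * β a) *
      (conj (α' a) * conj (β' d)) = (Fintype.card F : ℂ) *
      ((α a * conj (α' a)) * (β d * conj (β' d)) + (β a * conj (α' a)) * (α d * conj (β' d))) :=
    fun a d => by ring
  simp only [e, ← Finset.mul_sum, Finset.sum_add_distrib, ← Finset.sum_mul, sum_mul_conj]
  have hq : (Fintype.card F : ℂ) ≠ 0 := Nat.cast_ne_zero.2 Fintype.card_ne_zero
  have h1 := card_units_ne_zero (F := F)
  have ite2 : ∀ (P Q : Prop) [Decidable P] [Decidable Q],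
      (if P then ((Fintype.card F - 1 : ℕ) : ℂ) else 0) *
        (if Q then ((Fintype.card F - 1 : ℕ) : ℂ) else 0) =
        ((Fintype.card F - 1 : ℕ) : ℂ) ^ 2 * if P ∧ Q then 1 else 0 := by
    intro P Q _ _
    by_cases hP : P <;> by_cases hQ : Q <;> simp [hP, hQ, sq]
  rw [ite2, ite2]
  field_simp

/-- The linear characters. -/
noncomputable def linG (α : MulChar F ℂ) : GL (Fin 2) F → ℂ :=
  fun g => α (g : Matrix (Fin 2) (Fin 2) F).det

theorem isIrr_linG (α : MulChar F ℂ) : IsIrrCharacter (GL (Fin 2) F) (linG α) := by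
  let f : GL (Fin 2) F →* ℂ :=
    α.toMonoidHom.comp ((Units.coeHom F).comp GeneralLinearGroup.det)
  have e : linG α = fun g => ((f.toHomUnits g : ℂˣ) : ℂ) := funext fun g => by
    simp [linG, f]
  rw [e]
  exact isIrrCharacter_hom _

theorem linG_one (α : MulChar F ℂ) : linG α (1 : GL (Fin 2) F) = 1 := by
  simp [linG]

theorem jG_linG (α : MulChar F ℂ) (a d : Fˣ) :
    jG (linG α) a d = (Fintype.card F : ℂ) * (α a * α d) := by
  simp [jG, linG, bG_val, det_fin_two]

theorem inner_linG_RG (α α' β' : MulChar F ℂ) :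
    classInner (linG α) (RG α' β') = if α = α' ∧ α = β' then 1 else 0 := by
  classical
  rw [inner_RG (isClassFunction_of_isCharacter (isCharacter_of_isIrr (isIrr_linG α)))]
  simp only [jG_linG]
  have e : ∀ a d : Fˣ, (Fintype.card F : ℂ) * (α a * α d) * (conj (α' a) * conj (β' d)) =
      (Fintype.card F : ℂ) * ((α a * conj (α' a)) * (α d * conj (β' d))) := fun a d => by ring
  simp only [e, ← Finset.mul_sum, ← Finset.sum_mul, sum_mul_conj]
  have hq : (Fintype.card F : ℂ) ≠ 0 := Nat.cast_ne_zero.2 Fintype.card_ne_zero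
  have h1 := card_units_ne_zero (F := F)
  have ite2 : ∀ (P Q : Prop) [Decidable P] [Decidable Q],
      (if P then ((Fintype.card F - 1 : ℕ) : ℂ) else 0) *
        (if Q then ((Fintype.card F - 1 : ℕ) : ℂ) else 0) =
        ((Fintype.card F - 1 : ℕ) : ℂ) ^ 2 * if P ∧ Q then 1 else 0 := by
    intro P Q _ _
    by_cases hP : P <;> by_cases hQ : Q <;> simp [hP, hQ, sq]
  rw [ite2]
  field_simp

theorem inner_RG_linG (α' β' α : MulChar F ℂ) :
    classInner (RG α' β') (linG α) = if α = α' ∧ α = β' then 1 else 0 := by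
  rw [← classInner_conj_symm, inner_linG_RG]
  split_ifs <;> simp

theorem linG_injective : Function.Injective (linG (F := F)) := by
  intro α β e
  have h := inner_linG_RG α β β
  rw [e, inner_linG_RG, if_pos ⟨rfl, rfl⟩] at h
  by_contra hne
  rw [if_neg (fun h' => hne h'.1)] at h
  exact one_ne_zero h

theorem inner_linG (α β : MulChar F ℂ) :
    classInner (linG α) (linG β) = if α = β then 1 else 0 := by
  split_ifs with h
  · subst h; exact classInner_self_irr (isIrr_linG α)
  · exact classInner_irr_of_ne (isIrr_linG α) (isIrr_linG β) fun e => h (linG_injective e)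

/-- The twists of the Steinberg character. -/
noncomputable def stG (α : MulChar F ℂ) : GL (Fin 2) F → ℂ := RG α α - linG α

theorem inner_stG_RG (α α' β' : MulChar F ℂ) :
    classInner (stG α) (RG α' β') = if α = α' ∧ α = β' then 1 else 0 := by
  rw [stG, classInner_sub_left, inner_RG_RG, inner_linG_RG]
  split_ifs <;> norm_num

theorem inner_stG_linG (α β : MulChar F ℂ) : classInner (stG α) (linG β) = 0 := by
  rw [stG, classInner_sub_left, inner_RG_linG, inner_linG]
  by_cases h : α = β <;> simp [h, eq_comm (a := β)]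

theorem inner_stG (α β : MulChar F ℂ) :
    classInner (stG α) (stG β) = if α = β then 1 else 0 := by
  conv_lhs => arg 2; rw [stG]
  rw [classInner_sub_right, inner_stG_RG, inner_stG_linG, sub_zero]
  simp

theorem RG_one (α β : MulChar F ℂ) :
    RG α β (1 : GL (Fin 2) F) = (Fintype.card F : ℂ) + 1 := by
  rw [RG_eq, Rval_scalar _ (by simp) (by simp) (by simp)]
  simp

theorem stG_one (α : MulChar F ℂ) : stG α (1 : GL (Fin 2) F) = Fintype.card F := by
  simp [stG, RG_one, linG_one]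

theorem isIrr_stG (α : MulChar F ℂ) : IsIrrCharacter (GL (Fin 2) F) (stG α) := by
  refine (isIrrCharacter_of_gen_norm_one (isGen_sub (isGen_of_isCharacter (isCharacter_RG α α))
    (isGen_of_isCharacter (isCharacter_of_isIrr (isIrr_linG α))))
    (by rw [← stG, inner_stG, if_pos rfl])).resolve_right fun h => ?_
  obtain ⟨k, hk⟩ := exists_apply_one_eq (isCharacter_of_isIrr h)
  rw [Pi.neg_apply, ← stG, stG_one] at hk
  have h0 : ((Fintype.card F + k : ℕ) : ℂ) = 0 := by push_cast; linear_combination -hk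
  have : 0 < Fintype.card F := Fintype.card_pos
  rw [Nat.cast_eq_zero] at h0
  omega

theorem stG_injective : Function.Injective (stG (F := F)) := by
  intro α β e
  have h := inner_stG α β
  rw [e, inner_stG, if_pos rfl] at h
  by_contra hne
  rw [if_neg hne] at h
  exact one_ne_zero h

theorem isIrr_RG {α β : MulChar F ℂ} (h : α ≠ β) : IsIrrCharacter (GL (Fin 2) F) (RG α β) :=
  isIrrCharacter_of_norm_one (isCharacter_RG α β) (by
    rw [inner_RG_RG, if_pos ⟨rfl, rfl⟩, if_neg (fun e => h e.2)]; norm_num)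

theorem RG_eq_iff (α β α' β' : MulChar F ℂ) :
    RG α β = RG α' β' ↔ (α = α' ∧ β = β') ∨ (α = β' ∧ β = α') := by
  constructor
  · intro e
    have h := inner_RG_RG α β α' β'
    rw [e, inner_RG_RG] at h
    by_contra hc
    rw [not_or] at hc
    have hc2 : ¬ (β = α' ∧ α = β') := fun e' => hc.2 ⟨e'.2, e'.1⟩
    simp only [hc.1, hc2, and_self, if_true, if_false, add_zero] at h
    split_ifs at h <;> norm_num at h
  · intro h
    refine eq_of_norms (isClassFunction_of_isCharacter (isCharacter_RG α β))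
      (isClassFunction_of_isCharacter (isCharacter_RG α' β')) ?_
    rw [classInner_sub_left, classInner_sub_right, classInner_sub_right, inner_RG_RG, inner_RG_RG,
      inner_RG_RG, inner_RG_RG]
    rcases h with ⟨rfl, rfl⟩ | ⟨rfl, rfl⟩
    · simp
    · by_cases e : α = β <;> simp [e, eq_comm (a := β)]

/-- The cuspidal characters. -/
def IsCuspG (χ : GL (Fin 2) F → ℂ) : Prop :=
  IsIrrCharacter (GL (Fin 2) F) χ ∧ ∀ α β : MulChar F ℂ, classInner χ (RG α β) = 0

theorem cases_irrG {χ : GL (Fin 2) F → ℂ} (hχ : IsIrrCharacter (GL (Fin 2) F) χ) :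
    (∃ α, χ = linG α) ∨ (∃ α, χ = stG α) ∨ (∃ α β, α ≠ β ∧ χ = RG α β) ∨ IsCuspG χ := by
  by_cases h : ∀ α β : MulChar F ℂ, classInner χ (RG α β) = 0
  · exact Or.inr (Or.inr (Or.inr ⟨hχ, h⟩))
  push Not at h
  obtain ⟨α, β, h⟩ := h
  rcases eq_or_ne α β with rfl | hne
  · have e : RG α α = linG α + stG α := by rw [stG]; abel
    rw [e, classInner_add_right] at h
    rcases ne_or_eq (classInner χ (linG α)) 0 with h1 | h1
    · exact Or.inl ⟨α, eq_of_inner_ne_zero hχ (isIrr_linG α) h1⟩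
    · rw [h1, zero_add] at h
      exact Or.inr (Or.inl ⟨α, eq_of_inner_ne_zero hχ (isIrr_stG α) h⟩)
  · exact Or.inr (Or.inr (Or.inl ⟨α, β, hne, eq_of_inner_ne_zero hχ (isIrr_RG hne) h⟩))

theorem IsCuspG.jG_eq_zero {χ : GL (Fin 2) F → ℂ} (h : IsCuspG χ) (a d : Fˣ) : jG χ a d = 0 := by
  have hsum : ∀ α β : MulChar F ℂ, ∑ a : Fˣ, (∑ d : Fˣ, jG χ a d * conj (β d)) * conj (α a) = 0 := by
    intro α β
    have h1 := h.2 α β
    rw [inner_RG (isClassFunction_of_isCharacter (isCharacter_of_isIrr h.1))] at h1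
    have h2 : ((Fintype.card F : ℂ) * (Fintype.card F - 1 : ℕ) ^ 2)⁻¹ ≠ 0 :=
      inv_ne_zero (mul_ne_zero (Nat.cast_ne_zero.2 Fintype.card_ne_zero)
        (pow_ne_zero _ card_units_ne_zero))
    rw [← (mul_eq_zero.1 h1).resolve_left h2]
    refine Finset.sum_congr rfl fun a _ => ?_
    rw [Finset.sum_mul]
    exact Finset.sum_congr rfl fun d _ => by ring
  have hrow : ∀ β : MulChar F ℂ, ∑ d : Fˣ, jG χ a d * conj (β d) = 0 := fun β =>
    congrFun (eq_zero_of_sum_conj_eq_zero fun α => hsum α β) a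
  exact congrFun (eq_zero_of_sum_conj_eq_zero hrow) d

theorem isConj_bG {a d : Fˣ} (h : a ≠ d) (c c' : F) : IsConj (bG a d c) (bG a d c') := by
  have h' : (d : F) - a ≠ 0 := sub_ne_zero.2 fun e => h (Units.ext e.symm)
  refine isConj_iff.2 ⟨bG 1 1 ((c' - c) / ((d : F) - a)), ?_⟩
  rw [mul_inv_eq_iff_eq_mul, bG_mul, bG_mul]
  simp
  congr 1
  field_simp
  ring

theorem IsCuspG.split {χ : GL (Fin 2) F → ℂ} (h : IsCuspG χ) {a d : Fˣ} (hne : a ≠ d) (c : F) :
    χ (bG a d c) = 0 := by
  have h0 := h.jG_eq_zero a d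
  rw [jG, Finset.sum_congr rfl (g := fun _ => χ (bG a d c)) fun c' _ => ?_, Finset.sum_const,
    Finset.card_univ, nsmul_eq_mul] at h0
  · exact (mul_eq_zero.1 h0).resolve_left (Nat.cast_ne_zero.2 Fintype.card_ne_zero)
  · obtain ⟨x, hx⟩ := isConj_iff.1 (isConj_bG hne c c')
    rw [← hx]
    exact (isClassFunction_of_isCharacter (isCharacter_of_isIrr h.1) _ _)

theorem uG_apply (c : F) : uG (Multiplicative.ofAdd c) = bG 1 1 c := rfl

theorem value_uG {χ : GL (Fin 2) F → ℂ} (hχ : IsClassFunction (GL (Fin 2) F) χ) {c : F}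
    (hc : c ≠ 0) : χ (bG 1 1 c) = χ (bG 1 1 1) := by
  have h : bG (Units.mk0 c hc) 1 0 * bG 1 1 1 = bG 1 1 c * bG (Units.mk0 c hc) 1 0 := by
    rw [bG_mul, bG_mul]; simp
  rw [show bG 1 1 c = bG (Units.mk0 c hc) 1 0 * bG 1 1 1 * (bG (Units.mk0 c hc) 1 0)⁻¹ by
    rw [h, mul_inv_cancel_right]]
  exact hχ _ _

theorem bG_one : bG (1 : Fˣ) 1 (0 : F) = 1 := by
  apply Units.ext; ext i j
  fin_cases i <;> fin_cases j <;> simp [bG_val]

/-- A cuspidal character restricted to the unipotent radical is a multiple of the regular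
character minus the trivial one. -/
theorem IsCuspG.exists_m {χ : GL (Fin 2) F → ℂ} (h : IsCuspG χ) :
    ∃ m : ℕ, 0 < m ∧ χ 1 = (m : ℂ) * ((Fintype.card F : ℂ) - 1) ∧
      ∀ c : F, c ≠ 0 → χ (bG 1 1 c) = -(m : ℂ) := by
  have hch := isCharacter_of_isIrr h.1
  have hcf := isClassFunction_of_isCharacter hch
  obtain ⟨φ, hφ⟩ : ∃ φ : AddChar F ℂ, φ ≠ 1 := by
    obtain ⟨φ, hφ⟩ := AddChar.exists_apply_ne_zero.2 (one_ne_zero (α := F))
    exact ⟨φ, fun e => hφ (by simp [e])⟩
  obtain ⟨m, hm⟩ := exists_mult_eq_nat uG hch φ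
  have h0 : χ 1 + ((Fintype.card F : ℂ) - 1) * χ (bG 1 1 1) = 0 := by
    rw [← h.jG_eq_zero 1 1, jG, ← Finset.add_sum_erase _ _ (Finset.mem_univ (0 : F)), bG_one,
      Finset.sum_congr rfl (g := fun _ => χ (bG 1 1 1)) fun c hc =>
        value_uG hcf (Finset.ne_of_mem_erase hc), Finset.sum_const,
      Finset.card_erase_of_mem (Finset.mem_univ _), Finset.card_univ, nsmul_eq_mul,
      Nat.cast_sub Fintype.card_pos, Nat.cast_one]
  have hm' : mult uG χ φ = (Fintype.card F : ℂ)⁻¹ * (χ 1 - χ (bG 1 1 1)) := by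
    rw [mult]
    congr 1
    simp only [uG_apply]
    rw [← Finset.add_sum_erase _ _ (Finset.mem_univ (0 : F)), bG_one,
      Finset.sum_congr rfl (g := fun c => χ (bG 1 1 1) * conj (φ c)) fun c hc => by
        rw [value_uG hcf (Finset.ne_of_mem_erase hc)],
      ← Finset.mul_sum, Finset.sum_erase_eq_sub (Finset.mem_univ _)]
    have : ∑ c : F, conj (φ c) = 0 := by
      rw [← map_sum, AddChar.sum_eq_zero_of_ne_one hφ, map_zero]
    rw [this]
    simp [AddChar.map_zero_eq_one]
    ring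
  rw [hm] at hm'
  have hq : (Fintype.card F : ℂ) ≠ 0 := Nat.cast_ne_zero.2 Fintype.card_ne_zero
  have hv : χ (bG 1 1 1) = -(m : ℂ) := by
    field_simp at hm'
    have : (Fintype.card F : ℂ) * (χ (bG 1 1 1) + m) = 0 := by linear_combination h0 + hm'
    exact eq_neg_of_add_eq_zero_left ((mul_eq_zero.1 this).resolve_left hq)
  have h1 : χ 1 = (m : ℂ) * ((Fintype.card F : ℂ) - 1) := by
    rw [hv] at h0; linear_combination h0
  refine ⟨m, ?_, h1, fun c hc => by rw [value_uG hcf hc, hv]⟩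
  by_contra hm0
  exact irr_apply_one_ne_zero h.1 (by rw [h1, show m = 0 by omega]; simp)

open scoped Classical in
theorem card_cuspG_and_degree :
    Nat.card {χ : IrrCharacter (GL (Fin 2) F) // IsCuspG (χ : GL (Fin 2) F → ℂ)} * 2 =
      Fintype.card F * (Fintype.card F - 1) ∧
    Nat.card {χ : IrrCharacter (GL (Fin 2) F) // ∃ α β : MulChar F ℂ, α ≠ β ∧
      (χ : GL (Fin 2) F → ℂ) = RG α β} * 2 = (Fintype.card F - 1) * (Fintype.card F - 2) ∧
    ∀ χ : GL (Fin 2) F → ℂ, IsCuspG χ → χ 1 = (Fintype.card F : ℂ) - 1 := by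
  set q := Fintype.card F with hq
  have hq2 : 2 ≤ q := Fintype.one_lt_card
  have := irr_finite (G := GL (Fin 2) F)
  let _ : Fintype (IrrCharacter (GL (Fin 2) F)) := Fintype.ofFinite _
  set SL' : Finset (IrrCharacter (GL (Fin 2) F)) :=
    Finset.univ.image fun α => ⟨linG α, isIrr_linG α⟩ with hSL
  set SS : Finset (IrrCharacter (GL (Fin 2) F)) :=
    Finset.univ.image fun α => ⟨stG α, isIrr_stG α⟩ with hSS
  set SP : Finset (IrrCharacter (GL (Fin 2) F)) :=
    Finset.univ.filter (fun χ => ∃ α β : MulChar F ℂ, α ≠ β ∧ (χ : GL (Fin 2) F → ℂ) = RG α β)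
    with hSP
  set SC : Finset (IrrCharacter (GL (Fin 2) F)) :=
    Finset.univ.filter (fun χ => IsCuspG (χ : GL (Fin 2) F → ℂ)) with hSC
  have hL : SL'.card = q - 1 := by
    rw [hSL, Finset.card_image_of_injective _ fun a b e => linG_injective (congrArg Subtype.val e),
      Finset.card_univ, card_mulChar]
  have hS : SS.card = q - 1 := by
    rw [hSS, Finset.card_image_of_injective _ fun a b e => stG_injective (congrArg Subtype.val e),
      Finset.card_univ, card_mulChar]
  have hP : SP.card * 2 = (q - 1) * (q - 2) := by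
    let D : Finset (MulChar F ℂ × MulChar F ℂ) := Finset.univ.filter fun p => p.1 ≠ p.2
    let f : MulChar F ℂ × MulChar F ℂ → GL (Fin 2) F → ℂ := fun p => RG p.1 p.2
    have h1 : D.card = (D.image f).card * 2 := by
      rw [Finset.card_eq_sum_card_image f D]
      refine Finset.sum_const_nat fun g hg => ?_
      obtain ⟨⟨a, b⟩, hp, rfl⟩ := Finset.mem_image.1 hg
      have hab : a ≠ b := (Finset.mem_filter.1 hp).2
      rw [show (D.filter fun p => f p = f (a, b)) = {(a, b), (b, a)} from ?_]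
      · exact Finset.card_pair fun e => hab (Prod.mk.injEq .. ▸ e).1
      ext ⟨x, y⟩
      simp only [D, f, Finset.mem_filter, Finset.mem_univ, true_and, RG_eq_iff, Finset.mem_insert,
        Finset.mem_singleton, Prod.mk.injEq]
      constructor
      · rintro ⟨-, h⟩; exact h
      · rintro (⟨rfl, rfl⟩ | ⟨rfl, rfl⟩)
        · exact ⟨hab, Or.inl ⟨rfl, rfl⟩⟩
        · exact ⟨hab.symm, Or.inr ⟨rfl, rfl⟩⟩
    have h2 : D.card = (q - 1) * (q - 2) := by
      rw [show D = (Finset.univ : Finset (MulChar F ℂ)).offDiag by ext p; simp [D],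
        Finset.offDiag_card, Finset.card_univ, card_mulChar, ← hq]
      rw [show q - 1 = q - 2 + 1 by omega]
      apply Nat.sub_eq_of_eq_add
      ring
    have h3 : SP.image Subtype.val = D.image f := by
      ext g
      simp only [Finset.mem_image, hSP, Finset.mem_filter, Finset.mem_univ, true_and, D, f,
        Prod.exists]
      constructor
      · rintro ⟨χ, ⟨a, b, hab, e⟩, rfl⟩; exact ⟨a, b, hab, e.symm⟩
      · rintro ⟨a, b, hab, rfl⟩; exact ⟨⟨_, isIrr_RG hab⟩, ⟨a, b, hab, rfl⟩, rfl⟩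
    rw [← Finset.card_image_of_injective SP Subtype.val_injective, h3, ← h1, h2]
  have hvalL : ∀ χ ∈ SL', (χ : GL (Fin 2) F → ℂ) 1 = 1 := by
    intro χ hχ; obtain ⟨α, -, rfl⟩ := Finset.mem_image.1 hχ; exact linG_one α
  have hvalS : ∀ χ ∈ SS, (χ : GL (Fin 2) F → ℂ) 1 = q := by
    intro χ hχ; obtain ⟨α, -, rfl⟩ := Finset.mem_image.1 hχ; exact stG_one α
  have hvalP : ∀ χ ∈ SP, (χ : GL (Fin 2) F → ℂ) 1 = (q : ℂ) + 1 := by
    intro χ hχ
    obtain ⟨-, a, b, -, e⟩ := Finset.mem_filter.1 hχ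
    rw [e, RG_one]
  have hnc : ∀ χ, (χ ∈ SL' ∨ χ ∈ SS ∨ χ ∈ SP) → χ ∉ SC := by
    intro χ hχ hc
    have hc' := (Finset.mem_filter.1 hc).2.2
    rcases hχ with h | h | h
    · obtain ⟨α, -, rfl⟩ := Finset.mem_image.1 h
      have := hc' α α; rw [inner_linG_RG] at this; simp at this
    · obtain ⟨α, -, rfl⟩ := Finset.mem_image.1 h
      have := hc' α α; rw [inner_stG_RG] at this; simp at this
    · obtain ⟨-, a, b, -, e⟩ := Finset.mem_filter.1 h
      have := hc' a b
      rw [e, inner_RG_RG] at this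
      simp only [and_self, if_true] at this
      split_ifs at this <;> norm_num at this
  have hd1 : Disjoint SL' SS := Finset.disjoint_left.2 fun χ h1 h2 => by
    have e := (hvalL χ h1).symm.trans (hvalS χ h2)
    have : q = 1 := by exact_mod_cast e.symm
    omega
  have hd2 : Disjoint (SL' ∪ SS) SP := Finset.disjoint_left.2 fun χ h1 h2 => by
    rcases Finset.mem_union.1 h1 with h | h
    · have e := (hvalL χ h).symm.trans (hvalP χ h2)
      have : q + 1 = 1 := by exact_mod_cast e.symm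
      omega
    · have e := (hvalS χ h).symm.trans (hvalP χ h2)
      have : q = q + 1 := by exact_mod_cast e
      omega
  have hd3 : Disjoint (SL' ∪ SS ∪ SP) SC := Finset.disjoint_left.2 fun χ h1 => hnc χ (by
    rcases Finset.mem_union.1 h1 with h | h
    · rcases Finset.mem_union.1 h with h | h
      · exact Or.inl h
      · exact Or.inr (Or.inl h)
    · exact Or.inr (Or.inr h))
  have huniv : (Finset.univ : Finset (IrrCharacter (GL (Fin 2) F))) = SL' ∪ SS ∪ SP ∪ SC := by
    symm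
    rw [Finset.eq_univ_iff_forall]
    intro χ
    simp only [Finset.mem_union]
    rcases cases_irrG χ.2 with ⟨α, e⟩ | ⟨α, e⟩ | ⟨α, β, hab, e⟩ | h
    · exact Or.inl (Or.inl (Or.inl (Finset.mem_image.2 ⟨α, Finset.mem_univ _, Subtype.ext e.symm⟩)))
    · exact Or.inl (Or.inl (Or.inr (Finset.mem_image.2 ⟨α, Finset.mem_univ _, Subtype.ext e.symm⟩)))
    · exact Or.inl (Or.inr (Finset.mem_filter.2 ⟨Finset.mem_univ _, α, β, hab, e⟩))
    · exact Or.inr (Finset.mem_filter.2 ⟨Finset.mem_univ _, h⟩)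
  have htot : SL'.card + SS.card + SP.card + SC.card = q ^ 2 - 1 := by
    rw [← card_conjClasses_GL, ← card_irr_eq_card_conjClasses, Nat.card_eq_fintype_card,
      ← Finset.card_univ, huniv, Finset.card_union_of_disjoint hd3,
      Finset.card_union_of_disjoint hd2, Finset.card_union_of_disjoint hd1]
  have hC : SC.card * 2 = q * (q - 1) := by
    obtain ⟨r, hr⟩ : ∃ r, q = r + 2 := ⟨q - 2, by omega⟩
    have e1 : q ^ 2 - 1 = r * r + 4 * r + 3 := by rw [hr]; apply Nat.sub_eq_of_eq_add; ring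
    rw [hL, hS, e1] at htot
    rw [hr] at hP htot ⊢
    simp only [Nat.add_sub_cancel, show r + 2 - 1 = r + 1 by omega] at hP htot ⊢
    nlinarith
  refine ⟨?_, ?_, ?_⟩
  · rw [Nat.card_eq_fintype_card, Fintype.card_subtype]; exact hC
  · rw [Nat.card_eq_fintype_card, Fintype.card_subtype]; exact hP
  intro χ hχ
  choose m hm hm1 hmv using fun i : SC => (Finset.mem_filter.1 i.2).2.exists_m
  have hsum := sum_sq_apply_one (G := GL (Fin 2) F)
  have s1 : ∑ χ ∈ SL', (χ : GL (Fin 2) F → ℂ) 1 ^ 2 = ∑ _χ ∈ SL', (1 : ℂ) :=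
    Finset.sum_congr rfl fun χ hχ => by rw [hvalL χ hχ, one_pow]
  have s2 : ∑ χ ∈ SS, (χ : GL (Fin 2) F → ℂ) 1 ^ 2 = ∑ _χ ∈ SS, (q : ℂ) ^ 2 :=
    Finset.sum_congr rfl fun χ hχ => by rw [hvalS χ hχ]
  have s3 : ∑ χ ∈ SP, (χ : GL (Fin 2) F → ℂ) 1 ^ 2 = ∑ _χ ∈ SP, ((q : ℂ) + 1) ^ 2 :=
    Finset.sum_congr rfl fun χ hχ => by rw [hvalP χ hχ]
  rw [huniv, Finset.sum_union hd3, Finset.sum_union hd2, Finset.sum_union hd1, s1, s2, s3,
    ← Finset.sum_attach SC, Finset.sum_congr rfl (g := fun i => ((m i : ℂ) ^ 2) * ((q : ℂ) - 1) ^ 2)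
      fun i _ => by rw [hm1 i]; ring,
    Finset.sum_const, Finset.sum_const, Finset.sum_const, nsmul_eq_mul, nsmul_eq_mul, nsmul_eq_mul,
    ← Finset.sum_mul, hL, hS, Linear.card_GL_two] at hsum
  have hm2 : ∑ i ∈ SC.attach, (m i) ^ 2 = SC.card := by
    have hne : ((q : ℂ) - 1) ^ 2 ≠ 0 := by
      apply pow_ne_zero
      rw [sub_ne_zero]
      exact_mod_cast (show q ≠ 1 by omega)
    have hP' : (SP.card : ℂ) * 2 = ((q : ℂ) - 1) * ((q : ℂ) - 2) := by
      have := congrArg (fun x : ℕ => (x : ℂ)) hP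
      simp only [Nat.cast_mul, Nat.cast_sub (show 1 ≤ q by omega), Nat.cast_sub hq2] at this
      exact_mod_cast this
    have hC' : (SC.card : ℂ) * 2 = (q : ℂ) * ((q : ℂ) - 1) := by
      have := congrArg (fun x : ℕ => (x : ℂ)) hC
      simp only [Nat.cast_mul, Nat.cast_sub (show 1 ≤ q by omega)] at this
      exact_mod_cast this
    rw [← Nat.cast_inj (R := ℂ)]
    refine mul_right_cancel₀ hne (mul_right_cancel₀ (two_ne_zero (α := ℂ)) ?_)
    simp only [← hq] at hsum
    push_cast [Nat.cast_sub (show q ≤ q ^ 2 by nlinarith),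
      Nat.cast_sub (show 1 ≤ q ^ 2 by nlinarith), Nat.cast_sub (show 1 ≤ q by omega)] at hsum ⊢
    linear_combination 2 * hsum - ((q : ℂ) + 1) ^ 2 * hP' - ((q : ℂ) - 1) ^ 2 * hC'
  have hall : ∀ i, m i = 1 := by
    intro i
    by_contra hne
    have h4 : 1 < (m i) ^ 2 := by have := hm i; nlinarith [show 2 ≤ m i by omega]
    have : ∑ j ∈ SC.attach, 1 < ∑ j ∈ SC.attach, (m j) ^ 2 :=
      Finset.sum_lt_sum (fun j _ => Nat.one_le_pow _ _ (hm j)) ⟨i, Finset.mem_attach _ _, h4⟩
    rw [hm2, Finset.sum_const, Finset.card_attach, smul_eq_mul, mul_one] at this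
    exact lt_irrefl _ this
  have hi : (⟨χ, hχ.1⟩ : IrrCharacter (GL (Fin 2) F)) ∈ SC :=
    Finset.mem_filter.2 ⟨Finset.mem_univ _, hχ⟩
  have := hm1 ⟨_, hi⟩
  rw [hall, Nat.cast_one, one_mul] at this
  exact this

theorem IsCuspG.apply_one {χ : GL (Fin 2) F → ℂ} (h : IsCuspG χ) :
    χ 1 = (Fintype.card F : ℂ) - 1 := by
  classical exact card_cuspG_and_degree.2.2 χ h

theorem IsCuspG.apply_unip {χ : GL (Fin 2) F → ℂ} (h : IsCuspG χ) {c : F} (hc : c ≠ 0) :
    χ (bG 1 1 c) = -1 := by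
  obtain ⟨m, -, h1, h2⟩ := h.exists_m
  have h1' := h.apply_one
  rw [h1] at h1'
  have hne : (Fintype.card F : ℂ) - 1 ≠ 0 := by
    rw [sub_ne_zero]
    exact_mod_cast (Fintype.one_lt_card (α := F)).ne'
  have : (m : ℂ) = 1 := mul_right_cancel₀ hne (by rw [h1', one_mul])
  rw [h2 c hc, this]

theorem IsCuspG.mult_one {χ : GL (Fin 2) F → ℂ} (h : IsCuspG χ) (φ : AddChar F ℂ) :
    mult uG χ φ = if φ = 1 then 0 else 1 := by
  classical
  rw [mult, ← Finset.add_sum_erase _ _ (Finset.mem_univ (0 : F)), uG_apply, bG_one,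
    h.apply_one, Finset.sum_congr rfl (g := fun c => -conj (φ c)) fun c hc => by
      rw [uG_apply, h.apply_unip (Finset.ne_of_mem_erase hc), neg_one_mul],
    Finset.sum_neg_distrib, Finset.sum_erase_eq_sub (Finset.mem_univ _), AddChar.map_zero_eq_one,
    map_one, mul_one, ← map_sum]
  have hq : (Fintype.card F : ℂ) ≠ 0 := Nat.cast_ne_zero.2 Fintype.card_ne_zero
  split_ifs with e
  · subst e; simp
  · rw [AddChar.sum_eq_zero_of_ne_one e, map_zero]
    field_simp
    ring

end Cfsg.Agent.KnownA.GL2
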