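import Mathlib
import Cfsg.Agent.KnownA.GL2.GLChars

/-! # The character table of `GL₂` -/

set_option autoImplicit false
set_option linter.unusedSectionVars false

namespace Cfsg.Agent.KnownA.GL2

open Matrix Cfsg.Agent.Chars

variable {F : Type*} [Field F] [Fintype F] [DecidableEq F]

theorem cast_card_ne {k : ℕ} (h : k ≠ Fintype.card F) : (k : ℂ) ≠ (Fintype.card F : ℂ) :=
  fun e => h (by exact_mod_cast e)

theorem eq_stG_of_degree {χ : GL (Fin 2) F → ℂ} (hχ : IsIrrCharacter (GL (Fin 2) F) χ)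
    (h : χ 1 = (Fintype.card F : ℂ)) : ∃ α, χ = stG α := by
  have hq : 1 < Fintype.card F := Fintype.one_lt_card
  rcases cases_irrG hχ with ⟨α, rfl⟩ | h' | ⟨α, β, -, rfl⟩ | hc
  · rw [linG_one] at h
    exact absurd h (by exact_mod_cast hq.ne)
  · exact h'
  · rw [RG_one] at h
    exact absurd h (by simp)
  · rw [hc.apply_one] at h
    exact absurd h (by simp)

theorem eq_RG_of_degree {χ : GL (Fin 2) F → ℂ} (hχ : IsIrrCharacter (GL (Fin 2) F) χ)
    (h : χ 1 = (Fintype.card F : ℂ) + 1) : ∃ α β, α ≠ β ∧ χ = RG α β := by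
  rcases cases_irrG hχ with ⟨α, rfl⟩ | ⟨α, rfl⟩ | h' | hc
  · rw [linG_one] at h
    exact absurd (left_eq_add.1 (h.trans (add_comm _ _))) (Nat.cast_ne_zero.2 Fintype.card_ne_zero)
  · rw [stG_one] at h
    have h1 : (1 : ℂ) = 0 := by linear_combination -h
    exact absurd h1 one_ne_zero
  · exact h'
  · rw [hc.apply_one] at h
    have : (2 : ℂ) = 0 := by linear_combination -h
    exact absurd this two_ne_zero

theorem isCusp_of_degree (hq : 3 ≤ Fintype.card F) {χ : GL (Fin 2) F → ℂ}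
    (hχ : IsIrrCharacter (GL (Fin 2) F) χ) (h : χ 1 = (Fintype.card F : ℂ) - 1) : IsCuspG χ := by
  rcases cases_irrG hχ with ⟨α, rfl⟩ | ⟨α, rfl⟩ | ⟨α, β, -, rfl⟩ | hc
  · rw [linG_one] at h
    have : (Fintype.card F : ℂ) = (2 : ℕ) := by push_cast; linear_combination -h
    have : Fintype.card F = 2 := by exact_mod_cast this
    omega
  · rw [stG_one] at h
    have h1 : (1 : ℂ) = 0 := by linear_combination h
    exact absurd h1 one_ne_zero
  · rw [RG_one] at h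
    have : (2 : ℂ) = 0 := by linear_combination h
    exact absurd this two_ne_zero
  · exact hc

theorem eq_linG_of_degree (hq : 3 ≤ Fintype.card F) {χ : GL (Fin 2) F → ℂ}
    (hχ : IsIrrCharacter (GL (Fin 2) F) χ) (h : χ 1 = 1) : ∃ α, χ = linG α := by
  rcases cases_irrG hχ with h' | ⟨α, rfl⟩ | ⟨α, β, -, rfl⟩ | hc
  · exact h'
  · rw [stG_one] at h
    have : Fintype.card F = 1 := by exact_mod_cast h
    omega
  · rw [RG_one] at h
    simp at h
  · rw [hc.apply_one] at h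
    have h' : (Fintype.card F : ℂ) = (2 : ℕ) := by push_cast; linear_combination h
    have : Fintype.card F = 2 := by exact_mod_cast h'
    omega

theorem degreesG (χ : GL (Fin 2) F → ℂ) (hχ : IsIrrCharacter (GL (Fin 2) F) χ) :
    χ 1 = 1 ∨ χ 1 = (Fintype.card F : ℂ) - 1 ∨ χ 1 = (Fintype.card F : ℂ) ∨
      χ 1 = (Fintype.card F : ℂ) + 1 := by
  rcases cases_irrG hχ with ⟨α, rfl⟩ | ⟨α, rfl⟩ | ⟨α, β, -, rfl⟩ | hc
  · exact Or.inl (linG_one α)
  · exact Or.inr (Or.inr (Or.inl (stG_one α)))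
  · exact Or.inr (Or.inr (Or.inr (RG_one α β)))
  · exact Or.inr (Or.inl hc.apply_one)

theorem countsG (hq : 3 ≤ Fintype.card F) :
    Nat.card {χ : IrrCharacter (GL (Fin 2) F) // (χ : GL (Fin 2) F → ℂ) 1 = 1} = Fintype.card F - 1 ∧
    Nat.card {χ : IrrCharacter (GL (Fin 2) F) // (χ : GL (Fin 2) F → ℂ) 1 = (Fintype.card F : ℂ)} =
      Fintype.card F - 1 ∧
    Nat.card {χ : IrrCharacter (GL (Fin 2) F) //
        (χ : GL (Fin 2) F → ℂ) 1 = (Fintype.card F : ℂ) + 1} =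
      (Fintype.card F - 1) * (Fintype.card F - 2) / 2 ∧
    Nat.card {χ : IrrCharacter (GL (Fin 2) F) //
        (χ : GL (Fin 2) F → ℂ) 1 = (Fintype.card F : ℂ) - 1} =
      Fintype.card F * (Fintype.card F - 1) / 2 := by
  classical
  obtain ⟨hC, hP, -⟩ := card_cuspG_and_degree (F := F)
  refine ⟨?_, ?_, ?_, ?_⟩
  · rw [← card_mulChar (F := F), ← Nat.card_eq_fintype_card (α := MulChar F ℂ)]
    symm
    refine Nat.card_congr (Equiv.ofBijective (fun α => ⟨⟨linG α, isIrr_linG α⟩, linG_one α⟩) ⟨?_, ?_⟩)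
    · intro a b e
      exact linG_injective (congrArg (fun x => (x.1 : GL (Fin 2) F → ℂ)) e)
    · rintro ⟨⟨χ, hχ⟩, h⟩
      obtain ⟨α, rfl⟩ := eq_linG_of_degree hq hχ h
      exact ⟨α, rfl⟩
  · rw [← card_mulChar (F := F), ← Nat.card_eq_fintype_card (α := MulChar F ℂ)]
    symm
    refine Nat.card_congr (Equiv.ofBijective (fun α => ⟨⟨stG α, isIrr_stG α⟩, stG_one α⟩) ⟨?_, ?_⟩)
    · intro a b e
      exact stG_injective (congrArg (fun x => (x.1 : GL (Fin 2) F → ℂ)) e)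
    · rintro ⟨⟨χ, hχ⟩, h⟩
      obtain ⟨α, rfl⟩ := eq_stG_of_degree hχ h
      exact ⟨α, rfl⟩
  · rw [← hP, Nat.mul_div_cancel _ two_pos]
    refine Nat.card_congr (Equiv.subtypeEquivRight fun χ => ⟨fun h => eq_RG_of_degree χ.2 h, ?_⟩)
    rintro ⟨α, β, -, e⟩
    rw [e, RG_one]
  · rw [← hC, Nat.mul_div_cancel _ two_pos]
    exact Nat.card_congr (Equiv.subtypeEquivRight fun χ =>
      ⟨fun h => isCusp_of_degree hq χ.2 h, fun h => h.apply_one⟩)

theorem eq_bG_of_diag {g : GL (Fin 2) F} (h10 : (g : Matrix (Fin 2) (Fin 2) F) 1 0 = 0) :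
    ∃ a d : Fˣ, ∃ c : F, g = bG a d c ∧ (a : F) = (g : Matrix (Fin 2) (Fin 2) F) 0 0 ∧
      (d : F) = (g : Matrix (Fin 2) (Fin 2) F) 1 1 := by
  have hd := diag_ne_zero (det_unit_ne_zero g) h10
  refine ⟨Units.mk0 _ hd.1, Units.mk0 _ hd.2, (g : Matrix (Fin 2) (Fin 2) F) 0 1, Units.ext ?_,
    rfl, rfl⟩
  ext i j
  fin_cases i <;> fin_cases j <;> simp [bG_val, h10]

theorem norm_mulChar (α : MulChar F ℂ) {x : F} (hx : x ≠ 0) : ‖α x‖ = 1 := by
  refine Complex.norm_eq_one_of_pow_eq_one (n := Fintype.card F - 1) ?_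
    (by have : 1 < Fintype.card F := Fintype.one_lt_card; omega)
  rw [← map_pow, FiniteField.pow_card_sub_one_eq_one x hx, map_one]

theorem stG_norm {α : MulChar F ℂ} {g : GL (Fin 2) F}
    (h : ((g : Matrix (Fin 2) (Fin 2) F) 0 1 = 0 ∧ (g : Matrix (Fin 2) (Fin 2) F) 1 0 = 0 ∧
        (g : Matrix (Fin 2) (Fin 2) F) 0 0 ≠ (g : Matrix (Fin 2) (Fin 2) F) 1 1) ∨
      ∀ (c : F) (v : Fin 2 → F), v ≠ 0 → (g : Matrix (Fin 2) (Fin 2) F).mulVec v ≠ c • v) :
    ‖stG α g‖ = 1 := by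
  have hd := det_unit_ne_zero g
  rcases h with ⟨h01, h10, hne⟩ | h
  · rw [stG, Pi.sub_apply, RG_eq, Rval_split _ h10 hne, linG, det_fin_two, h01, zero_mul, sub_zero,
      map_mul]
    rw [det_fin_two, h01, zero_mul, sub_zero] at hd
    have e : ∀ x y : ℂ, x * y + y * x - x * y = x * y := fun x y => by ring
    rw [e, norm_mul, norm_mulChar α (left_ne_zero_of_mul hd),
      norm_mulChar α (right_ne_zero_of_mul hd), one_mul]
  · rw [stG, Pi.sub_apply, RG_eq, Rval_elliptic _ h, zero_sub, norm_neg]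
    exact norm_mulChar α hd

end Cfsg.Agent.KnownA.GL2
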