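import Mathlib
import Cfsg.Agent.KnownA.GL2.GLTable

/-! # The principal series of `SL₂` -/

set_option autoImplicit false
set_option linter.unusedSectionVars false

namespace Cfsg.Agent.KnownA.GL2

open Matrix Cfsg.Agent.Chars
open scoped ComplexConjugate MatrixGroups

variable {F : Type*} [Field F] [Fintype F] [DecidableEq F]

/-- An upper triangular element of `SL₂`. -/
noncomputable def bS (a : Fˣ) (c : F) : SpecialLinearGroup (Fin 2) F :=
  ⟨!![(a : F), c; 0, ((a⁻¹ : Fˣ) : F)], by simp [det_fin_two]⟩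

theorem bS_val (a : Fˣ) (c : F) :
    (bS a c).1 = !![(a : F), c; 0, ((a⁻¹ : Fˣ) : F)] := rfl

theorem bS_mem (a : Fˣ) (c : F) :
    bS a c ∈ (upperTriangularGL 2 F).comap SpecialLinearGroup.toGL := by
  rw [mem_borelSL]; simp [bS_val]

theorem bS_mul (a a' : Fˣ) (c c' : F) :
    bS a c * bS a' c' = bS (a * a') ((a : F) * c' + c * ((a'⁻¹ : Fˣ) : F)) := by
  apply Subtype.ext
  show (bS a c).1 * (bS a' c').1 = _
  ext i j
  fin_cases i <;> fin_cases j <;> simp [bS_val, Matrix.mul_apply, Fin.sum_univ_two, mul_comm]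

theorem bS_one : bS (1 : Fˣ) (0 : F) = 1 := by
  apply Subtype.ext; ext i j
  fin_cases i <;> fin_cases j <;> simp [bS_val]

/-- The unipotent radical. -/
noncomputable def uS : Multiplicative F →* SpecialLinearGroup (Fin 2) F where
  toFun c := bS 1 c.toAdd
  map_one' := bS_one
  map_mul' c c' := by rw [bS_mul]; simp [add_comm]

theorem uS_apply (c : F) : uS (Multiplicative.ofAdd c) = bS 1 c := rfl

theorem toGL_uS (c : F) : SpecialLinearGroup.toGL (bS 1 c) = bG 1 1 c := by
  apply Units.ext
  ext i j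
  fin_cases i <;> fin_cases j <;> simp [bS_val, bG_val]

/-- The Borel subgroup of `SL₂` is parametrised by its entries. -/
noncomputable def borelEquivS :
    Fˣ × F ≃ ((upperTriangularGL 2 F).comap SpecialLinearGroup.toGL :
      Subgroup (SpecialLinearGroup (Fin 2) F)) :=
  Equiv.ofBijective (fun p => ⟨bS p.1 p.2, bS_mem _ _⟩) (by
    constructor
    · intro p q e
      have h := congrArg (fun x : ((upperTriangularGL 2 F).comap SpecialLinearGroup.toGL :
        Subgroup (SpecialLinearGroup (Fin 2) F)) => (x : SpecialLinearGroup (Fin 2) F).1) e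
      simp only [bS_val] at h
      exact Prod.ext (Units.ext (by simpa using congrFun (congrFun h 0) 0))
        (by simpa using congrFun (congrFun h 0) 1)
    · intro b
      have h10 := (mem_borelSL _).1 b.2
      have hdet := (b : SpecialLinearGroup (Fin 2) F).2
      rw [det_fin_two, h10, mul_zero, sub_zero] at hdet
      refine ⟨(Units.mk0 _ (left_ne_zero_of_mul (hdet.trans_ne one_ne_zero)),
        (b : SpecialLinearGroup (Fin 2) F).1 0 1), Subtype.ext (Subtype.ext ?_)⟩
      ext i j
      fin_cases i <;> fin_cases j <;> simp [bS_val, h10]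
      exact inv_eq_of_mul_eq_one_right hdet)

/-- The sum over a coset of the unipotent radical. -/
noncomputable def jS (χ : SpecialLinearGroup (Fin 2) F → ℂ) (a : Fˣ) : ℂ := ∑ c : F, χ (bS a c)

theorem jS_add (χ ψ : SpecialLinearGroup (Fin 2) F → ℂ) (a : Fˣ) :
    jS (χ + ψ) a = jS χ a + jS ψ a := by
  simp [jS, Finset.sum_add_distrib]

theorem inner_RS {χ : SpecialLinearGroup (Fin 2) F → ℂ}
    (hχ : IsClassFunction (SpecialLinearGroup (Fin 2) F) χ) (α : MulChar F ℂ) :
    classInner χ (RS α) =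
      ((Fintype.card F : ℂ) * (Fintype.card F - 1 : ℕ))⁻¹ *
        ∑ a : Fˣ, jS χ a * conj (α a) := by
  classical
  rw [RS, classInner_indFun_right _ _ hχ, classInner_def,
    ← Nat.card_congr borelEquivS, Nat.card_eq_fintype_card, Fintype.card_prod,
    Fintype.card_units, ← borelEquivS.sum_comp, Fintype.sum_prod_type]
  congr 1
  · push_cast; ring
  · refine Finset.sum_congr rfl fun a _ => ?_
    rw [jS, Finset.sum_mul]
    refine Finset.sum_congr rfl fun c _ => ?_
    have hb : ((borelEquivS (a, c) : ((upperTriangularGL 2 F).comap SpecialLinearGroup.toGL :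
      Subgroup (SpecialLinearGroup (Fin 2) F))) : SpecialLinearGroup (Fin 2) F) = bS a c := rfl
    simp only [hb]
    simp [bS_val]

theorem mulChar_inv_coe (α : MulChar F ℂ) (a : Fˣ) : α ((a⁻¹ : Fˣ) : F) = α⁻¹ a := by
  rw [MulChar.inv_apply' α, Units.val_inv_eq_inv_val]

theorem jS_RS (α : MulChar F ℂ) (a : Fˣ) :
    jS (RS α) a = (Fintype.card F : ℂ) * (α a + α⁻¹ a) := by
  rw [jS, ← mulChar_inv_coe, ← sum_Rval (fun a _ => α a) (a : F) ((a⁻¹ : Fˣ) : F)]
  exact Finset.sum_congr rfl fun c _ => by rw [RS_eq, bS_val]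

theorem card_q_mul_ne_zero :
    ((Fintype.card F : ℂ) * (Fintype.card F - 1 : ℕ)) ≠ 0 :=
  mul_ne_zero (Nat.cast_ne_zero.2 Fintype.card_ne_zero) card_units_ne_zero

open scoped Classical in
/-- The Mackey formula. -/
theorem inner_RS_RS (α β : MulChar F ℂ) :
    classInner (RS α) (RS β) = (if α = β then 1 else 0) + (if α = β⁻¹ then 1 else 0) := by
  rw [inner_RS (isClassFunction_of_isCharacter (isCharacter_RS α))]
  simp only [jS_RS, mul_assoc, add_mul, ← Finset.mul_sum, Finset.sum_add_distrib, sum_mul_conj,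
    inv_eq_iff_eq_inv]
  have hq : (Fintype.card F : ℂ) ≠ 0 := Nat.cast_ne_zero.2 Fintype.card_ne_zero
  have h1 := card_units_ne_zero (F := F)
  split_ifs <;> field_simp <;> ring

theorem RS_one_apply (α : MulChar F ℂ) :
    RS α (1 : SpecialLinearGroup (Fin 2) F) = (Fintype.card F : ℂ) + 1 := by
  rw [RS_eq, Rval_scalar _ (by simp) (by simp) (by simp)]
  simp

theorem RS_uS (α : MulChar F ℂ) {c : F} (hc : c ≠ 0) : RS α (bS 1 c) = 1 := by
  rw [RS_eq, Rval_unip _ (by simp [bS_val]) (by simp [bS_val]) (by simpa [bS_val] using hc)]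
  simp [bS_val]

theorem RS_restrict (α : MulChar F ℂ) (g : SpecialLinearGroup (Fin 2) F) :
    RS α g = RG α 1 (SpecialLinearGroup.toGL g) := by
  rw [RG_restrict, inv_one, mul_one]

theorem sq_eq_one_iff_eq_inv (α : MulChar F ℂ) : α ^ 2 = 1 ↔ α = α⁻¹ := by
  rw [pow_two, mul_eq_one_iff_eq_inv]

open scoped Classical in
theorem inner_RS_self (α : MulChar F ℂ) :
    classInner (RS α) (RS α) = if α ^ 2 = 1 then 2 else 1 := by
  rw [inner_RS_RS, if_pos rfl]
  by_cases h : α ^ 2 = 1
  · rw [if_pos h, if_pos ((sq_eq_one_iff_eq_inv α).1 h)]; norm_num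
  · rw [if_neg h, if_neg (fun e => h ((sq_eq_one_iff_eq_inv α).2 e)), add_zero]

theorem isIrr_RS_iff (α : MulChar F ℂ) :
    IsIrrCharacter (SpecialLinearGroup (Fin 2) F) (RS α) ↔ α ^ 2 ≠ 1 := by
  classical
  constructor
  · intro h e
    have := classInner_self_irr h
    rw [inner_RS_self, if_pos e] at this
    norm_num at this
  · intro h
    exact isIrrCharacter_of_norm_one (isCharacter_RS α) (by rw [inner_RS_self, if_neg h])

open scoped Classical in
theorem RS_eq_iff (α β : MulChar F ℂ) : RS α = RS β ↔ α = β ∨ α = β⁻¹ := by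
  constructor
  · intro e
    have h := inner_RS_RS α β
    rw [e, inner_RS_RS, if_pos rfl] at h
    by_contra hc
    push Not at hc
    rw [if_neg hc.1, if_neg hc.2] at h
    split_ifs at h <;> norm_num at h
  · rintro (rfl | rfl)
    · rfl
    · funext g
      rw [RS_restrict, show RG β⁻¹ 1 = RG 1 β⁻¹ from
        (RG_eq_iff _ _ _ _).2 (Or.inr ⟨rfl, rfl⟩), RG_restrict, inv_inv, one_mul]

/-- The Steinberg character. -/
noncomputable def stS : SpecialLinearGroup (Fin 2) F → ℂ := RS (1 : MulChar F ℂ) - fun _ => 1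

theorem RS_one_eq : RS (1 : MulChar F ℂ) = (fun _ => 1) + stS := by
  rw [stS]; abel

theorem inner_one_RS (α : MulChar F ℂ) :
    classInner (fun _ : SpecialLinearGroup (Fin 2) F => (1 : ℂ)) (RS α) =
      if α = 1 then 1 else 0 := by
  rw [inner_RS (fun _ _ => rfl)]
  have e : ∀ a : Fˣ, jS (fun _ => (1 : ℂ)) a * conj (α a) =
      (Fintype.card F : ℂ) * ((1 : MulChar F ℂ) a * conj (α a)) := fun a => by
    simp [jS, MulChar.one_apply_coe]
  rw [Finset.sum_congr rfl fun a _ => e a, ← Finset.mul_sum, sum_mul_conj]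
  have hq : (Fintype.card F : ℂ) ≠ 0 := Nat.cast_ne_zero.2 Fintype.card_ne_zero
  have h1 := card_units_ne_zero (F := F)
  by_cases h : α = 1
  · subst h; simp; field_simp
  · simp [h, Ne.symm h]

theorem inner_RS_one (α : MulChar F ℂ) :
    classInner (RS α) (fun _ : SpecialLinearGroup (Fin 2) F => (1 : ℂ)) =
      if α = 1 then 1 else 0 := by
  rw [← classInner_conj_symm, inner_one_RS]
  split_ifs <;> simp

theorem inner_stS_RS (α : MulChar F ℂ) :
    classInner stS (RS α) = if α = 1 then 1 else 0 := by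
  classical
  rw [stS, classInner_sub_left, inner_RS_RS, inner_one_RS]
  by_cases h : α = 1
  · subst h; simp
  · simp [h, Ne.symm h, eq_comm (a := (1 : MulChar F ℂ)), inv_eq_one]

theorem stS_one : stS (1 : SpecialLinearGroup (Fin 2) F) = Fintype.card F := by
  simp [stS, RS_one_apply]

theorem isIrr_stS : IsIrrCharacter (SpecialLinearGroup (Fin 2) F) stS := by
  obtain ⟨φ', hφ', e⟩ := exists_add_of_inner_ne_zero (isCharacter_RS (1 : MulChar F ℂ))
    (isIrrCharacter_one (G := SpecialLinearGroup (Fin 2) F))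
    (by rw [inner_RS_one, if_pos rfl]; exact one_ne_zero)
  have hst : stS = φ' := by rw [stS, e]; abel
  refine isIrrCharacter_of_norm_one (hst ▸ hφ') ?_
  conv_lhs => arg 2; rw [stS]
  rw [classInner_sub_right, inner_stS_RS, if_pos rfl, stS, classInner_sub_left, inner_RS_one,
    if_pos rfl, classInner_self_irr isIrrCharacter_one]
  norm_num

end Cfsg.Agent.KnownA.GL2
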