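import Mathlib
import Cfsg.Agent.KnownA.GL2.SLBase

/-! # Multiplicities on the unipotent radical of `SL₂` -/

set_option autoImplicit false
set_option linter.unusedSectionVars false

namespace Cfsg.Agent.KnownA.GL2

open Matrix Cfsg.Agent.Chars
open scoped ComplexConjugate MatrixGroups

variable {F : Type*} [Field F] [Fintype F] [DecidableEq F]

theorem exists_nontrivial_addChar : ∃ φ : AddChar F ℂ, φ ≠ 1 := by
  obtain ⟨φ, hφ⟩ := AddChar.exists_apply_ne_zero.2 (one_ne_zero (α := F))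
  exact ⟨φ, fun e => hφ (by simp [e])⟩

/-- A fixed non-trivial additive character. -/
noncomputable def psi (F : Type*) [Field F] [Fintype F] [DecidableEq F] : AddChar F ℂ :=
  (exists_nontrivial_addChar (F := F)).choose

theorem psi_ne_one : psi F ≠ 1 := (exists_nontrivial_addChar (F := F)).choose_spec

theorem psi_prim : (psi F).IsPrimitive := AddChar.IsPrimitive.of_ne_one psi_ne_one

theorem bijective_mulShift : Function.Bijective fun t : F => (psi F).mulShift t := by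
  classical
  rw [Fintype.bijective_iff_injective_and_card, AddChar.card_eq]
  exact ⟨AddChar.to_mulShift_inj_of_isPrimitive psi_prim, rfl⟩

theorem sum_psi_mul (c : F) :
    ∑ t : F, psi F (t * c) = if c = 0 then (Fintype.card F : ℂ) else 0 := by
  have h := AddChar.sum_mulShift c psi_prim
  split_ifs with hc <;> simpa [hc] using h

/-- The multiplicity of `x ↦ ψ(tx)` in the restriction to the unipotent radical. -/
noncomputable def mS (χ : SpecialLinearGroup (Fin 2) F → ℂ) (t : F) : ℂ :=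
  mult uS χ ((psi F).mulShift t)

theorem mS_add (χ χ' : SpecialLinearGroup (Fin 2) F → ℂ) (t : F) :
    mS (χ + χ') t = mS χ t + mS χ' t := mult_add _ _ _ _

theorem exists_mS_eq_nat {χ : SpecialLinearGroup (Fin 2) F → ℂ}
    (hχ : IsCharacter (SpecialLinearGroup (Fin 2) F) χ) (t : F) : ∃ k : ℕ, mS χ t = k :=
  exists_mult_eq_nat _ hχ _

theorem mS_def (χ : SpecialLinearGroup (Fin 2) F → ℂ) (t : F) :
    mS χ t = (Fintype.card F : ℂ)⁻¹ * ∑ c : F, χ (bS 1 c) * conj (psi F (t * c)) := by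
  simp only [mS, mult, uS_apply, AddChar.mulShift_apply]

theorem mS_zero (χ : SpecialLinearGroup (Fin 2) F → ℂ) :
    mS χ 0 = (Fintype.card F : ℂ)⁻¹ * jS χ 1 := by
  simp [mS_def, jS]

theorem sum_mS (χ : SpecialLinearGroup (Fin 2) F → ℂ) (c : F) :
    χ (bS 1 c) = ∑ t : F, mS χ t * psi F (t * c) := by
  classical
  rw [← uS_apply, ← sum_mult uS χ c, ← (Equiv.ofBijective _ bijective_mulShift).sum_comp]
  exact Finset.sum_congr rfl fun t _ => by simp [mS, AddChar.mulShift_apply]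

theorem conj_bS {χ : SpecialLinearGroup (Fin 2) F → ℂ}
    (hχ : IsClassFunction (SpecialLinearGroup (Fin 2) F) χ) (a : Fˣ) (c : F) :
    χ (bS 1 ((a : F) ^ 2 * c)) = χ (bS 1 c) := by
  have h : bS a 0 * bS 1 c = bS 1 ((a : F) ^ 2 * c) * bS a 0 := by
    rw [bS_mul, bS_mul]
    have ha := a.ne_zero
    simp
    congr 1
    field_simp
  rw [show bS 1 ((a : F) ^ 2 * c) = bS a 0 * bS 1 c * (bS a 0)⁻¹ by rw [h, mul_inv_cancel_right]]
  exact hχ _ _

theorem mS_sq_mul {χ : SpecialLinearGroup (Fin 2) F → ℂ}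
    (hχ : IsClassFunction (SpecialLinearGroup (Fin 2) F) χ) (a : Fˣ) (t : F) :
    mS χ ((a : F) ^ 2 * t) = mS χ t := by
  simp only [mS_def]
  congr 1
  refine Fintype.sum_equiv (Equiv.mulLeft₀ ((a : F) ^ 2) (pow_ne_zero _ a.ne_zero)) _ _ fun c => ?_
  simp only [Equiv.mulLeft₀_apply, conj_bS hχ a c]
  rw [show t * ((a : F) ^ 2 * c) = (a : F) ^ 2 * t * c by ring]

theorem not_isSquare_nu' {t : F} (ht : ¬ IsSquare t) : ¬ IsSquare ((nu F : Fˣ) : F) := by
  have h : ∃ x : Fˣ, ¬ IsSquare (x : F) :=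
    ⟨Units.mk0 t (fun e => ht (e ▸ IsSquare.zero)), ht⟩
  rw [nu, dif_pos h]
  exact h.choose_spec

theorem exists_sq_mul_nu {t : F} (ht : ¬ IsSquare t) :
    ∃ a : Fˣ, t = (a : F) ^ 2 * (nu F : Fˣ) := by
  have hn : ¬ IsSquare ((nu F : Fˣ) : F)⁻¹ := by
    rw [isSquare_inv]; exact not_isSquare_nu' ht
  obtain ⟨r, hr⟩ := not_isSquare_mul ht hn
  have ht0 : t ≠ 0 := fun e => ht (e ▸ IsSquare.zero)
  have hν := (nu F).ne_zero
  have hr0 : r ≠ 0 := fun e => by simp [e, ht0] at hr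
  refine ⟨Units.mk0 r hr0, ?_⟩
  rw [Units.val_mk0, sq, ← hr]
  field_simp

theorem mS_nu_inv {χ : SpecialLinearGroup (Fin 2) F → ℂ}
    (hχ : IsClassFunction (SpecialLinearGroup (Fin 2) F) χ) :
    mS χ ((nu F : Fˣ) : F)⁻¹ = mS χ (nu F : Fˣ) := by
  rw [← mS_sq_mul hχ (nu F)⁻¹ ((nu F : Fˣ) : F)]
  congr 1
  have hν := (nu F).ne_zero
  rw [Units.val_inv_eq_inv_val]
  field_simp

/-- The quadratic character, with complex values. -/
noncomputable def qc (F : Type*) [Field F] [Fintype F] [DecidableEq F] : MulChar F ℂ :=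
  (quadraticChar F).ringHomComp (Int.castRingHom ℂ)

theorem qc_apply (t : F) : qc F t = (quadraticChar F t : ℤ) := rfl

theorem qc_of_isSquare {t : F} (ht : t ≠ 0) (h : IsSquare t) : qc F t = 1 := by
  rw [qc_apply, (quadraticChar_one_iff_isSquare ht).2 h, Int.cast_one]

theorem qc_of_not_isSquare {t : F} (h : ¬ IsSquare t) : qc F t = -1 := by
  rw [qc_apply, quadraticChar_neg_one_iff_not_isSquare.2 h]
  norm_num

theorem qc_sq : qc F ^ 2 = 1 := by
  ext x
  rw [pow_two, MulChar.mul_apply, MulChar.one_apply_coe]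
  by_cases h : IsSquare (x : F)
  · rw [qc_of_isSquare x.ne_zero h]; norm_num
  · rw [qc_of_not_isSquare h]; norm_num

theorem qc_ne_one (hodd : Odd (Fintype.card F)) : qc F ≠ 1 := by
  intro e
  have h := qc_of_not_isSquare (not_isSquare_nu hodd)
  rw [e, MulChar.one_apply_coe] at h
  norm_num at h

theorem eq_qc {α : MulChar F ℂ} (h2 : α ^ 2 = 1) (h1 : α ≠ 1) : α = qc F := by
  have hsq : ∀ x : Fˣ, α x * α x = 1 := fun x => by
    rw [← MulChar.mul_apply, ← pow_two, h2, MulChar.one_apply_coe]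
  have hs : ∀ {t : F}, t ≠ 0 → IsSquare t → α t = 1 := by
    rintro t ht ⟨r, rfl⟩
    rw [map_mul]
    exact hsq (Units.mk0 r (left_ne_zero_of_mul ht))
  have hν : α ((nu F : Fˣ) : F) = -1 := by
    refine (mul_self_eq_one_iff.1 (hsq (nu F))).resolve_left fun hν => h1 ?_
    ext x
    rw [MulChar.one_apply_coe]
    by_cases h : IsSquare (x : F)
    · exact hs x.ne_zero h
    · obtain ⟨a, ha⟩ := exists_sq_mul_nu h
      rw [ha, map_mul, hν, mul_one, hs (pow_ne_zero 2 a.ne_zero) ⟨a, sq _⟩]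
  ext x
  by_cases h : IsSquare (x : F)
  · rw [hs x.ne_zero h, qc_of_isSquare x.ne_zero h]
  · obtain ⟨a, ha⟩ := exists_sq_mul_nu h
    rw [qc_of_not_isSquare h, ha, map_mul, hν, hs (pow_ne_zero 2 a.ne_zero) ⟨a, sq _⟩, one_mul]

theorem mS_eq {χ : SpecialLinearGroup (Fin 2) F → ℂ}
    (hχ : IsClassFunction (SpecialLinearGroup (Fin 2) F) χ) {t : F} (ht : t ≠ 0) :
    mS χ t = (mS χ 1 + mS χ (nu F : Fˣ)) / 2 + (mS χ 1 - mS χ (nu F : Fˣ)) / 2 * qc F t := by
  by_cases h : IsSquare t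
  · obtain ⟨r, hr⟩ := id h
    have hr0 : r ≠ 0 := fun e => ht (by simp [hr, e])
    rw [qc_of_isSquare ht h, show t = ((Units.mk0 r hr0 : Fˣ) : F) ^ 2 * 1 by simp [hr, sq],
      mS_sq_mul hχ]
    ring
  · obtain ⟨a, ha⟩ := exists_sq_mul_nu h
    rw [qc_of_not_isSquare h, ha, mS_sq_mul hχ]
    ring

/-- The sum `∑ qc(t) ψ(tc)`. -/
noncomputable def gq (c : F) : ℂ := ∑ t : F, qc F t * psi F (t * c)

theorem value_bS {χ : SpecialLinearGroup (Fin 2) F → ℂ}
    (hχ : IsClassFunction (SpecialLinearGroup (Fin 2) F) χ) (c : F) :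
    χ (bS 1 c) = mS χ 0 + (mS χ 1 + mS χ (nu F : Fˣ)) / 2 *
        ((if c = 0 then (Fintype.card F : ℂ) else 0) - 1) +
      (mS χ 1 - mS χ (nu F : Fˣ)) / 2 * gq c := by
  have e : ∀ t : F, mS χ t * psi F (t * c) =
      (if t = 0 then mS χ 0 - (mS χ 1 + mS χ (nu F : Fˣ)) / 2 else 0) +
      ((mS χ 1 + mS χ (nu F : Fˣ)) / 2 * psi F (t * c) +
        (mS χ 1 - mS χ (nu F : Fˣ)) / 2 * (qc F t * psi F (t * c))) := by
    intro t
    split_ifs with ht
    · subst ht
      rw [MulChar.map_zero, zero_mul, AddChar.map_zero_eq_one]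
      ring
    · rw [mS_eq hχ ht]; ring
  rw [sum_mS χ c, Finset.sum_congr rfl fun t _ => e t, Finset.sum_add_distrib, Finset.sum_add_distrib,
    ← Finset.mul_sum, ← Finset.mul_sum, sum_psi_mul, gq]
  simp only [Finset.sum_ite_eq', Finset.mem_univ, if_true]
  ring

theorem gq_zero_odd (hodd : Odd (Fintype.card F)) : gq (0 : F) = 0 := by
  simp only [gq, mul_zero, AddChar.map_zero_eq_one, mul_one]
  exact MulChar.sum_eq_zero_of_ne_one (qc_ne_one hodd)

theorem gq_sq (hodd : Odd (Fintype.card F)) :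
    gq (1 : F) ^ 2 = (-1 : ℂ) ^ ((Fintype.card F - 1) / 2) * (Fintype.card F : ℂ) := by
  have hc : ringChar F ≠ 2 := fun h => by
    rw [FiniteField.even_card_iff_char_two] at h
    rw [Nat.odd_iff] at hodd; omega
  have e : gq (1 : F) = gaussSum (qc F) (psi F) := by
    simp only [gq, gaussSum, mul_one]
  have ho : Fintype.card F % 2 = 1 := Nat.odd_iff.1 hodd
  rw [e, gaussSum_sq (qc_ne_one hodd) ((quadraticChar_isQuadratic F).comp _) psi_prim, qc_apply,
    quadraticChar_neg_one hc, ZMod.χ₄_eq_neg_one_pow ho,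
    show Fintype.card F / 2 = (Fintype.card F - 1) / 2 by omega]
  push_cast
  rfl

theorem apply_one_mS {χ : SpecialLinearGroup (Fin 2) F → ℂ}
    (hχ : IsClassFunction (SpecialLinearGroup (Fin 2) F) χ) (hodd : Odd (Fintype.card F)) :
    χ 1 = mS χ 0 + (mS χ 1 + mS χ (nu F : Fˣ)) / 2 * ((Fintype.card F : ℂ) - 1) := by
  rw [← bS_one, value_bS hχ, if_pos rfl, gq_zero_odd hodd, mul_zero, add_zero]

theorem nu_eq_one_of_even (h2 : (2 : F) = 0) : (nu F : Fˣ) = 1 := by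
  rw [nu, dif_neg]
  rintro ⟨x, hx⟩
  obtain ⟨r, hr⟩ := Forms.exists_sq_of_two_eq_zero h2 (x : F)
  exact hx ⟨r, by rw [← sq, hr]⟩

/-! ## The outer automorphism -/

/-- Conjugation by `diag(ν, 1)`. -/
noncomputable def twist (ν : Fˣ) : SpecialLinearGroup (Fin 2) F ≃* SpecialLinearGroup (Fin 2) F where
  toFun g := ⟨!![g.1 0 0, (ν : F) * g.1 0 1; ((ν⁻¹ : Fˣ) : F) * g.1 1 0, g.1 1 1], by
    rw [det_fin_two_of]
    have h := g.2
    rw [det_fin_two] at h
    have hν : (ν : F) * ((ν⁻¹ : Fˣ) : F) = 1 := ν.mul_inv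
    linear_combination h - g.1 0 1 * g.1 1 0 * hν⟩
  invFun g := ⟨!![g.1 0 0, ((ν⁻¹ : Fˣ) : F) * g.1 0 1; (ν : F) * g.1 1 0, g.1 1 1], by
    rw [det_fin_two_of]
    have h := g.2
    rw [det_fin_two] at h
    have hν : (ν : F) * ((ν⁻¹ : Fˣ) : F) = 1 := ν.mul_inv
    linear_combination h - g.1 0 1 * g.1 1 0 * hν⟩
  left_inv g := by
    apply Subtype.ext; ext i j
    fin_cases i <;> fin_cases j <;> simp
  right_inv g := by
    apply Subtype.ext; ext i j
    fin_cases i <;> fin_cases j <;> simp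
  map_mul' g h := by
    apply Subtype.ext
    show _ = _ * _
    ext i j
    fin_cases i <;> fin_cases j <;> simp [Matrix.mul_apply, Fin.sum_univ_two] <;> field_simp

theorem twist_val (ν : Fˣ) (g : SpecialLinearGroup (Fin 2) F) :
    (twist ν g).1 = !![g.1 0 0, (ν : F) * g.1 0 1; ((ν⁻¹ : Fˣ) : F) * g.1 1 0, g.1 1 1] := rfl

theorem toGL_twist (ν : Fˣ) (g : SpecialLinearGroup (Fin 2) F) :
    SpecialLinearGroup.toGL (twist ν g) =
      bG ν 1 0 * SpecialLinearGroup.toGL g * (bG ν 1 0)⁻¹ := by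
  rw [eq_mul_inv_iff_mul_eq]
  apply Units.ext
  rw [Units.val_mul, Units.val_mul]
  ext i j
  fin_cases i <;> fin_cases j <;>
    simp [twist_val, bG_val, Matrix.mul_apply, Fin.sum_univ_two, mul_comm]

/-- The outer twist of a function. -/
noncomputable def tw (χ : SpecialLinearGroup (Fin 2) F → ℂ) : SpecialLinearGroup (Fin 2) F → ℂ :=
  χ ∘ twist (nu F)

theorem RS_tw (α : MulChar F ℂ) : tw (RS α) = RS α := by
  funext g
  rw [tw, Function.comp_apply, RS_restrict, RS_restrict, toGL_twist]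
  exact isClassFunction_of_isCharacter (isCharacter_RG α 1) _ _

theorem tw_irr {χ : SpecialLinearGroup (Fin 2) F → ℂ}
    (h : IsIrrCharacter (SpecialLinearGroup (Fin 2) F) χ) :
    IsIrrCharacter (SpecialLinearGroup (Fin 2) F) (tw χ) :=
  isIrrCharacter_comp_equiv h (twist (nu F))

theorem inner_tw_RS (χ : SpecialLinearGroup (Fin 2) F → ℂ) (α : MulChar F ℂ) :
    classInner (tw χ) (RS α) = classInner χ (RS α) := by
  conv_lhs => rw [← RS_tw α]
  exact classInner_comp_equiv (twist (nu F)) χ (RS α)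

theorem twist_bS (ν : Fˣ) (c : F) : twist ν (bS 1 c) = bS 1 ((ν : F) * c) := by
  apply Subtype.ext; ext i j
  fin_cases i <;> fin_cases j <;> simp [twist_val, bS_val]

theorem tw_one (χ : SpecialLinearGroup (Fin 2) F → ℂ) : tw χ 1 = χ 1 := by
  simp [tw]

theorem mS_tw (χ : SpecialLinearGroup (Fin 2) F → ℂ) (t : F) :
    mS (tw χ) t = mS χ (t * ((nu F : Fˣ) : F)⁻¹) := by
  simp only [mS_def]
  congr 1
  refine Fintype.sum_equiv (Equiv.mulLeft₀ ((nu F : Fˣ) : F) (nu F).ne_zero) _ _ fun c => ?_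
  have hν := (nu F).ne_zero
  simp only [tw, Function.comp_apply, twist_bS, Equiv.mulLeft₀_apply]
  rw [show t * ((nu F : Fˣ) : F)⁻¹ * (((nu F : Fˣ) : F) * c) = t * c by field_simp]

theorem mS_tw_one {χ : SpecialLinearGroup (Fin 2) F → ℂ}
    (hχ : IsClassFunction (SpecialLinearGroup (Fin 2) F) χ) :
    mS (tw χ) 1 = mS χ (nu F : Fˣ) := by
  rw [mS_tw, one_mul, mS_nu_inv hχ]

theorem mS_tw_nu (χ : SpecialLinearGroup (Fin 2) F → ℂ) :
    mS (tw χ) (nu F : Fˣ) = mS χ 1 := by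
  rw [mS_tw, mul_inv_cancel₀ (nu F).ne_zero]

end Cfsg.Agent.KnownA.GL2
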