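import Mathlib
import Cfsg.Agent.KnownA.GL2.SLMult

/-! # The irreducible characters of `SL₂` -/

set_option autoImplicit false
set_option linter.unusedSectionVars false

namespace Cfsg.Agent.KnownA.GL2

open Matrix Cfsg.Agent.Chars
open scoped ComplexConjugate MatrixGroups

variable {F : Type*} [Field F] [Fintype F] [DecidableEq F]

/-- A homomorphism to a commutative group which is trivial on the unipotent radical is trivial on
the diagonal torus. -/
theorem hom_diag_eq_one {A : Type*} [CommGroup A] (φ : SpecialLinearGroup (Fin 2) F →* A)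
    (h : ∀ c : F, φ (bS 1 c) = 1) (a : Fˣ) : φ (bS a 0) = 1 := by
  set w : SpecialLinearGroup (Fin 2) F := ⟨!![0, 1; -1, 0], by simp [det_fin_two]⟩ with hw
  have hv : ∀ x : Fˣ, φ (bS 1 (x : F) * (w * bS 1 ((x⁻¹ : Fˣ) : F) * w⁻¹) * bS 1 (x : F)) = 1 := by
    intro x
    rw [map_mul, map_mul, map_mul, map_mul, h, h, map_inv, mul_one, one_mul, mul_one,
      mul_inv_cancel]
  have key : bS 1 (a : F) * (w * bS 1 ((a⁻¹ : Fˣ) : F) * w⁻¹) * bS 1 (a : F) =
      bS a 0 * (bS 1 ((1 : Fˣ) : F) * (w * bS 1 (((1 : Fˣ)⁻¹ : Fˣ) : F) * w⁻¹) *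
        bS 1 ((1 : Fˣ) : F)) := by
    let w' : SpecialLinearGroup (Fin 2) F := ⟨!![0, -1; 1, 0], by simp [det_fin_two]⟩
    have hwi : w⁻¹ = w' := by
      refine inv_eq_of_mul_eq_one_right (Subtype.ext ?_)
      show w.1 * w'.1 = (1 : Matrix (Fin 2) (Fin 2) F)
      rw [hw]
      ext i j
      fin_cases i <;> fin_cases j <;> simp [w', Matrix.mul_apply, Fin.sum_univ_two]
    rw [hwi]
    apply Subtype.ext
    show (bS 1 (a : F)).1 * (w.1 * (bS 1 ((a⁻¹ : Fˣ) : F)).1 * w'.1) * (bS 1 (a : F)).1 =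
      (bS a 0).1 * ((bS 1 ((1 : Fˣ) : F)).1 * (w.1 * (bS 1 (((1 : Fˣ)⁻¹ : Fˣ) : F)).1 * w'.1) *
        (bS 1 ((1 : Fˣ) : F)).1)
    simp only [hw, w', bS_val]
    ext i j
    fin_cases i <;> fin_cases j <;> simp [Matrix.mul_apply, Fin.sum_univ_two]
  have h1 := hv a
  rw [key, map_mul, hv 1, mul_one] at h1
  exact h1

/-- A linear character is constant on the cosets of the unipotent radical if trivial on it. -/
theorem value_linear {χ : SpecialLinearGroup (Fin 2) F → ℂ}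
    (hχ : IsCharacter (SpecialLinearGroup (Fin 2) F) χ) (h1 : χ 1 = 1)
    (h : ∀ c : F, χ (bS 1 c) = 1) (a : Fˣ) (c : F) : χ (bS a c) = 1 := by
  obtain ⟨φ, rfl⟩ := exists_hom_of_degree_one hχ h1
  have hφ : ∀ c : F, φ (bS 1 c) = 1 := fun c => Units.ext (h c)
  have e : bS a c = bS a 0 * bS 1 (((a⁻¹ : Fˣ) : F) * c) := by
    rw [bS_mul]
    have := a.ne_zero
    simp
  show ((φ (bS a c) : ℂˣ) : ℂ) = 1
  rw [e, map_mul, hom_diag_eq_one φ hφ, hφ, one_mul, Units.val_one]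

/-- Every irreducible character of `SL₂` is a constituent of a restriction from `GL₂`. -/
theorem exists_GL_constituent {χ : SpecialLinearGroup (Fin 2) F → ℂ}
    (hχ : IsIrrCharacter (SpecialLinearGroup (Fin 2) F) χ) :
    ∃ ξ : GL (Fin 2) F → ℂ, IsIrrCharacter (GL (Fin 2) F) ξ ∧
      classInner χ (fun g => ξ (SpecialLinearGroup.toGL g)) ≠ 0 := by
  classical
  have hinj : Function.Injective (SpecialLinearGroup.toGL :
      SpecialLinearGroup (Fin 2) F → GL (Fin 2) F) :=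
    fun a b h => Subtype.ext (congrArg Units.val h)
  set H := (SpecialLinearGroup.toGL : SpecialLinearGroup (Fin 2) F →* GL (Fin 2) F).range with hH
  obtain ⟨e, he⟩ : ∃ e : SpecialLinearGroup (Fin 2) F ≃* H,
      ∀ g, ((e g : H) : GL (Fin 2) F) = SpecialLinearGroup.toGL g :=
    ⟨MonoidHom.ofInjective hinj, fun g => MonoidHom.ofInjective_apply hinj⟩
  have hθ : IsCharacter H (χ ∘ e.symm) := isCharacter_comp (isCharacter_of_isIrr hχ) e.symm.toMonoidHom
  have hne : indFun H (χ ∘ e.symm) ≠ 0 := by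
    intro h0
    have h := congrFun h0 1
    rw [indFun_apply_one, Function.comp_apply, map_one, Pi.zero_apply, mul_eq_zero] at h
    exact h.elim (Nat.cast_ne_zero.2 H.index_ne_zero_of_finite) (irr_apply_one_ne_zero hχ)
  obtain ⟨ξ, hξ, hi⟩ : ∃ ξ : GL (Fin 2) F → ℂ, IsIrrCharacter (GL (Fin 2) F) ξ ∧
      classInner (indFun H (χ ∘ e.symm)) ξ ≠ 0 := by
    by_contra hc
    push Not at hc
    exact hne (eq_zero_of_classInner_irr (isClassFunction_indFun _ _) hc)
  refine ⟨ξ, hξ, fun h0 => hi ?_⟩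
  rw [classInner_indFun _ _ (isClassFunction_of_isCharacter (isCharacter_of_isIrr hξ)),
    classInner_def, ← h0, classInner_def, Nat.card_congr e.symm.toEquiv]
  congr 1
  refine (Fintype.sum_equiv e.toEquiv _ _ fun g => ?_).symm
  rw [MulEquiv.toEquiv_eq_coe, EquivLike.coe_coe, Function.comp_apply, MulEquiv.symm_apply_apply,
    he]

/-- The cuspidal characters of `SL₂`. -/
def IsCuspS (χ : SpecialLinearGroup (Fin 2) F → ℂ) : Prop :=
  IsIrrCharacter (SpecialLinearGroup (Fin 2) F) χ ∧ ∀ α : MulChar F ℂ, classInner χ (RS α) = 0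

/-- The halves of the reducible principal series character. -/
def IsHalfS (χ : SpecialLinearGroup (Fin 2) F → ℂ) : Prop :=
  IsIrrCharacter (SpecialLinearGroup (Fin 2) F) χ ∧ qc F ≠ 1 ∧ classInner χ (RS (qc F)) ≠ 0

theorem cases_irrS {χ : SpecialLinearGroup (Fin 2) F → ℂ}
    (hχ : IsIrrCharacter (SpecialLinearGroup (Fin 2) F) χ) :
    χ = (fun _ => 1) ∨ χ = stS ∨ (∃ α : MulChar F ℂ, α ^ 2 ≠ 1 ∧ χ = RS α) ∨ IsHalfS χ ∨
      IsCuspS χ := by
  by_cases h : ∀ α : MulChar F ℂ, classInner χ (RS α) = 0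
  · exact Or.inr (Or.inr (Or.inr (Or.inr ⟨hχ, h⟩)))
  push Not at h
  obtain ⟨α, h⟩ := h
  by_cases h2 : α ^ 2 = 1
  · by_cases h1 : α = 1
    · subst h1
      rw [RS_one_eq, classInner_add_right] at h
      rcases ne_or_eq (classInner χ (fun _ => (1 : ℂ))) 0 with h0 | h0
      · exact Or.inl (eq_of_inner_ne_zero hχ isIrrCharacter_one h0)
      · rw [h0, zero_add] at h
        exact Or.inr (Or.inl (eq_of_inner_ne_zero hχ isIrr_stS h))
    · obtain rfl := eq_qc h2 h1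
      exact Or.inr (Or.inr (Or.inr (Or.inl ⟨hχ, h1, h⟩)))
  · exact Or.inr (Or.inr (Or.inl ⟨α, h2, eq_of_inner_ne_zero hχ ((isIrr_RS_iff α).2 h2) h⟩))

theorem IsCuspS.jS_eq_zero {χ : SpecialLinearGroup (Fin 2) F → ℂ} (h : IsCuspS χ) (a : Fˣ) :
    jS χ a = 0 := by
  refine congrFun (eq_zero_of_sum_conj_eq_zero fun α => ?_) a
  have h1 := h.2 α
  rw [inner_RS (isClassFunction_of_isCharacter (isCharacter_of_isIrr h.1))] at h1
  exact (mul_eq_zero.1 h1).resolve_left (inv_ne_zero card_q_mul_ne_zero)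

theorem IsCuspS.mS_zero {χ : SpecialLinearGroup (Fin 2) F → ℂ} (h : IsCuspS χ) :
    mS χ 0 = 0 := by
  rw [GL2.mS_zero, h.jS_eq_zero, mul_zero]

theorem IsCuspS.inner_one {χ : SpecialLinearGroup (Fin 2) F → ℂ} (h : IsCuspS χ) :
    classInner χ (fun _ => (1 : ℂ)) = 0 := by
  refine classInner_irr_of_ne h.1 isIrrCharacter_one fun e => ?_
  have h1 := h.2 1
  rw [e, inner_one_RS, if_pos rfl] at h1
  exact one_ne_zero h1

/-- A cuspidal character has multiplicities at most one. -/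
theorem IsCuspS.mS_le {χ : SpecialLinearGroup (Fin 2) F → ℂ} (h : IsCuspS χ) {t : F}
    (ht : t ≠ 0) : mS χ t = 0 ∨ mS χ t = 1 := by
  obtain ⟨ξ, hξ, hi⟩ := exists_GL_constituent h.1
  have hlin : ∀ α : MulChar F ℂ, (fun g : SpecialLinearGroup (Fin 2) F =>
      linG α (SpecialLinearGroup.toGL g)) = fun _ => 1 := fun α => by
    funext g
    show α ((SpecialLinearGroup.toGL g : GL (Fin 2) F) : Matrix (Fin 2) (Fin 2) F).det = 1
    rw [show ((SpecialLinearGroup.toGL g : GL (Fin 2) F) : Matrix (Fin 2) (Fin 2) F).det = 1 from g.2,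
      map_one]
  have hc : IsCuspG ξ := by
    rcases cases_irrG hξ with ⟨α, rfl⟩ | ⟨α, rfl⟩ | ⟨α, β, -, rfl⟩ | hc
    · rw [hlin, h.inner_one] at hi
      exact absurd rfl hi
    · refine absurd ?_ hi
      have e : (fun g : SpecialLinearGroup (Fin 2) F => stG α (SpecialLinearGroup.toGL g)) =
          RS 1 - fun _ => 1 := by
        funext g
        simp only [stG, Pi.sub_apply, RG_restrict, mul_inv_cancel]
        rw [show linG α (SpecialLinearGroup.toGL g) = 1 from congrFun (hlin α) g]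
      rw [e, classInner_sub_right, h.2, h.inner_one, sub_zero]
    · refine absurd ?_ hi
      rw [show (fun g : SpecialLinearGroup (Fin 2) F => RG α β (SpecialLinearGroup.toGL g)) =
        RS (α * β⁻¹) from funext fun g => RG_restrict α β g]
      exact h.2 _
    · exact hc
  have hξ' : IsCharacter (SpecialLinearGroup (Fin 2) F)
      (fun g => ξ (SpecialLinearGroup.toGL g)) :=
    isCharacter_comp (isCharacter_of_isIrr hξ) SpecialLinearGroup.toGL
  obtain ⟨φ', hφ', e⟩ := exists_add_of_inner_ne_zero hξ' h.1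
    (fun e => hi (by rw [← classInner_conj_symm, e, map_zero]))
  have hm : mult uG ξ ((psi F).mulShift t) = 1 := by
    rw [hc.mult_one, if_neg fun e => ht (bijective_mulShift.1 (e.trans (AddChar.mulShift_zero _).symm))]
  have hm' : mS (fun g => ξ (SpecialLinearGroup.toGL g)) t = mult uG ξ ((psi F).mulShift t) := by
    simp only [mS, mult, uS_apply, toGL_uS, uG_apply]
  rw [e, mS_add, hm] at hm'
  obtain ⟨k, hk⟩ := exists_mS_eq_nat (isCharacter_of_isIrr h.1) t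
  obtain ⟨l, hl⟩ := exists_mS_eq_nat hφ' t
  rw [hk, hl] at hm'
  have : k + l = 1 := by exact_mod_cast hm'
  rw [hk]
  rcases Nat.eq_zero_or_pos k with rfl | hpos
  · exact Or.inl Nat.cast_zero
  · exact Or.inr (by rw [show k = 1 by omega]; exact Nat.cast_one)

theorem two_sub_one_ne_zero : ((Fintype.card F : ℂ) - 1) ≠ 0 := by
  rw [sub_ne_zero]
  exact_mod_cast (Fintype.one_lt_card (α := F)).ne'

/-- The types of the cuspidal characters. -/
theorem IsCuspS.types {χ : SpecialLinearGroup (Fin 2) F → ℂ} (h : IsCuspS χ) :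
    (mS χ 1 = 1 ∧ mS χ (nu F : Fˣ) = 1) ∨ (mS χ 1 = 1 ∧ mS χ (nu F : Fˣ) = 0) ∨
      (mS χ 1 = 0 ∧ mS χ (nu F : Fˣ) = 1) := by
  rcases h.mS_le one_ne_zero with h1 | h1 <;> rcases h.mS_le (nu F).ne_zero with h2 | h2
  · exfalso
    refine irr_apply_one_ne_zero h.1 ?_
    rw [← bS_one, value_bS (isClassFunction_of_isCharacter (isCharacter_of_isIrr h.1)),
      h.mS_zero, h1, h2]
    ring
  · exact Or.inr (Or.inr ⟨h1, h2⟩)
  · exact Or.inr (Or.inl ⟨h1, h2⟩)
  · exact Or.inl ⟨h1, h2⟩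

theorem IsCuspS.tw {χ : SpecialLinearGroup (Fin 2) F → ℂ} (h : IsCuspS χ) :
    IsCuspS (GL2.tw χ) :=
  ⟨tw_irr h.1, fun α => by rw [inner_tw_RS, h.2]⟩

/-! ## The halves -/

theorem mS_RS (α : MulChar F ℂ) {t : F} (ht : t ≠ 0) : mS (RS α) t = 1 := by
  rw [mS_def, ← Finset.add_sum_erase _ _ (Finset.mem_univ (0 : F)), bS_one, RS_one_apply,
    Finset.sum_congr rfl (g := fun c => conj (psi F (t * c))) fun c hc => by
      rw [RS_uS α (Finset.ne_of_mem_erase hc), one_mul],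
    Finset.sum_erase_eq_sub (Finset.mem_univ _), ← map_sum]
  have : ∑ c : F, psi F (t * c) = 0 := by
    rw [Finset.sum_congr rfl fun c _ => by rw [mul_comm], sum_psi_mul, if_neg ht]
  rw [this]
  have hq : (Fintype.card F : ℂ) ≠ 0 := Nat.cast_ne_zero.2 Fintype.card_ne_zero
  simp

theorem qc_inv : (qc F)⁻¹ = qc F := ((sq_eq_one_iff_eq_inv _).1 qc_sq).symm

theorem exists_halves (hq : qc F ≠ 1) :
    ∃ χ₁ χ₂ : SpecialLinearGroup (Fin 2) F → ℂ,
      IsIrrCharacter (SpecialLinearGroup (Fin 2) F) χ₁ ∧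
      IsIrrCharacter (SpecialLinearGroup (Fin 2) F) χ₂ ∧ χ₁ ≠ χ₂ ∧
      RS (qc F) = χ₁ + χ₂ ∧ ∀ χ, IsHalfS χ ↔ χ = χ₁ ∨ χ = χ₂ := by
  classical
  obtain ⟨χ₁, χ₂, h1, h2, hne, e⟩ := exists_two_of_norm_two (isCharacter_RS (qc F))
    (by rw [inner_RS_self, if_pos qc_sq])
  refine ⟨χ₁, χ₂, h1, h2, hne, e, fun χ => ⟨fun h => ?_, ?_⟩⟩
  · by_contra hc
    push Not at hc
    refine h.2.2 ?_
    rw [e, classInner_add_right, classInner_irr_of_ne h.1 h1 hc.1,
      classInner_irr_of_ne h.1 h2 hc.2, add_zero]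
  · rintro (rfl | rfl)
    · refine ⟨h1, hq, ?_⟩
      rw [e, classInner_add_right, classInner_self_irr h1, classInner_irr_of_ne h1 h2 hne, add_zero]
      exact one_ne_zero
    · refine ⟨h2, hq, ?_⟩
      rw [e, classInner_add_right, classInner_self_irr h2, classInner_irr_of_ne h2 h1 hne.symm,
        zero_add]
      exact one_ne_zero

theorem IsHalfS.exists_partner {χ : SpecialLinearGroup (Fin 2) F → ℂ} (h : IsHalfS χ) :
    ∃ χ', IsHalfS χ' ∧ χ' ≠ χ ∧ RS (qc F) = χ + χ' ∧ ∀ χ'', IsHalfS χ'' → χ'' = χ ∨ χ'' = χ' := by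
  obtain ⟨χ₁, χ₂, h1, h2, hne, e, hall⟩ := exists_halves h.2.1
  rcases (hall χ).1 h with rfl | rfl
  · exact ⟨χ₂, (hall _).2 (Or.inr rfl), hne.symm, e, fun x hx => (hall x).1 hx⟩
  · exact ⟨χ₁, (hall _).2 (Or.inl rfl), hne, e.trans (add_comm _ _), fun x hx =>
      ((hall x).1 hx).symm⟩

open scoped Classical in
theorem IsHalfS.inner_RS {χ : SpecialLinearGroup (Fin 2) F → ℂ} (h : IsHalfS χ) (β : MulChar F ℂ) :
    classInner χ (RS β) = if β = qc F then 1 else 0 := by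
  obtain ⟨χ', h', hne, e, -⟩ := h.exists_partner
  split_ifs with hb
  · rw [hb, e, classInner_add_right, classInner_self_irr h.1,
      classInner_irr_of_ne h.1 h'.1 hne.symm, add_zero]
  · obtain ⟨k, hk⟩ := exists_classInner_eq_nat (isCharacter_of_isIrr h.1) (isCharacter_RS β)
    obtain ⟨l, hl⟩ := exists_classInner_eq_nat (isCharacter_of_isIrr h'.1) (isCharacter_RS β)
    have h0 : classInner (RS (qc F)) (RS β) = 0 := by
      rw [inner_RS_RS, if_neg (Ne.symm hb), if_neg, add_zero]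
      intro e'
      exact hb (by rw [← qc_inv, e', inv_inv])
    rw [e, classInner_add_left, hk, hl] at h0
    have h0' : k + l = 0 := by exact_mod_cast h0
    rw [hk, show k = 0 by omega, Nat.cast_zero]

theorem IsHalfS.jS_eq {χ : SpecialLinearGroup (Fin 2) F → ℂ} (h : IsHalfS χ) (a : Fˣ) :
    jS χ a = (Fintype.card F : ℂ) * qc F a := by
  classical
  refine sub_eq_zero.1 (congrFun (eq_zero_of_sum_conj_eq_zero
    (j := fun a : Fˣ => jS χ a - (Fintype.card F : ℂ) * qc F a) fun β => ?_) a)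
  have h1 := h.inner_RS β
  rw [GL2.inner_RS (isClassFunction_of_isCharacter (isCharacter_of_isIrr h.1)),
    inv_mul_eq_iff_eq_mul₀ card_q_mul_ne_zero] at h1
  simp only [sub_mul, Finset.sum_sub_distrib, h1, mul_assoc, ← Finset.mul_sum, sum_mul_conj]
  by_cases hb : β = qc F <;> simp [hb, eq_comm (a := qc F)]

theorem IsHalfS.mS_zero {χ : SpecialLinearGroup (Fin 2) F → ℂ} (h : IsHalfS χ) :
    mS χ 0 = 1 := by
  rw [GL2.mS_zero, h.jS_eq, Units.val_one, map_one, mul_one,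
    inv_mul_cancel₀ (Nat.cast_ne_zero.2 Fintype.card_ne_zero)]

theorem IsHalfS.not_both_zero {χ : SpecialLinearGroup (Fin 2) F → ℂ} (h : IsHalfS χ)
    (h1 : mS χ 1 = 0) (h2 : mS χ (nu F : Fˣ) = 0) : False := by
  have hc := isCharacter_of_isIrr h.1
  have hu : ∀ c : F, χ (bS 1 c) = 1 := fun c => by
    rw [value_bS (isClassFunction_of_isCharacter hc), h.mS_zero, h1, h2]
    ring
  refine h.2.1 ?_
  ext a
  have hj := h.jS_eq a
  rw [jS, Finset.sum_congr rfl fun c _ => value_linear hc (bS_one (F := F) ▸ hu 0) hu a c,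
    Finset.sum_const, Finset.card_univ, nsmul_eq_mul] at hj
  rw [MulChar.one_apply_coe]
  exact (mul_left_cancel₀ (Nat.cast_ne_zero.2 Fintype.card_ne_zero) hj).symm

theorem IsHalfS.tw {χ : SpecialLinearGroup (Fin 2) F → ℂ} (h : IsHalfS χ) :
    IsHalfS (GL2.tw χ) :=
  ⟨tw_irr h.1, h.2.1, by rw [inner_tw_RS]; exact h.2.2⟩

/-- The types of the halves. -/
theorem IsHalfS.types {χ : SpecialLinearGroup (Fin 2) F → ℂ} (h : IsHalfS χ) :
    (mS χ 1 = 1 ∧ mS χ (nu F : Fˣ) = 0) ∨ (mS χ 1 = 0 ∧ mS χ (nu F : Fˣ) = 1) := by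
  obtain ⟨χ', h', -, e, -⟩ := h.exists_partner
  have key : ∀ t : F, t ≠ 0 → (mS χ t = 0 ∧ mS χ' t = 1) ∨ (mS χ t = 1 ∧ mS χ' t = 0) := by
    intro t ht
    obtain ⟨k, hk⟩ := exists_mS_eq_nat (isCharacter_of_isIrr h.1) t
    obtain ⟨l, hl⟩ := exists_mS_eq_nat (isCharacter_of_isIrr h'.1) t
    have h1 := mS_RS (qc F) ht
    rw [e, mS_add, hk, hl] at h1
    have h1' : k + l = 1 := by exact_mod_cast h1
    rw [hk, hl]
    rcases Nat.eq_zero_or_pos k with hz | hz
    · exact Or.inl ⟨by rw [hz, Nat.cast_zero], by rw [show l = 1 by omega, Nat.cast_one]⟩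
    · exact Or.inr ⟨by rw [show k = 1 by omega, Nat.cast_one],
        by rw [show l = 0 by omega, Nat.cast_zero]⟩
  rcases key 1 one_ne_zero with ⟨a, a'⟩ | ⟨a, a'⟩ <;>
    rcases key _ (nu F).ne_zero with ⟨b, b'⟩ | ⟨b, b'⟩
  · exact (h.not_both_zero a b).elim
  · exact Or.inr ⟨a, b⟩
  · exact Or.inl ⟨a, b⟩
  · exact (h'.not_both_zero a' b').elim

theorem IsHalfS.tw_ne {χ : SpecialLinearGroup (Fin 2) F → ℂ} (h : IsHalfS χ) :
    GL2.tw χ ≠ χ := by
  intro e
  have h1 := congrArg (fun f => mS f 1) e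
  simp only [mS_tw_one (isClassFunction_of_isCharacter (isCharacter_of_isIrr h.1))] at h1
  rcases h.types with ⟨a, b⟩ | ⟨a, b⟩ <;> rw [a, b] at h1 <;> norm_num at h1

theorem IsHalfS.sum_eq {χ : SpecialLinearGroup (Fin 2) F → ℂ} (h : IsHalfS χ) :
    RS (qc F) = χ + GL2.tw χ := by
  obtain ⟨χ', -, -, e, hall⟩ := h.exists_partner
  rw [e, (hall _ h.tw).resolve_left h.tw_ne]

theorem odd_of_half {χ : SpecialLinearGroup (Fin 2) F → ℂ} (h : IsHalfS χ) :
    Odd (Fintype.card F) := by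
  by_contra hc
  rw [Nat.not_odd_iff, ← FiniteField.even_card_iff_char_two] at hc
  refine h.2.1 ?_
  ext a
  rw [MulChar.one_apply_coe, qc_of_isSquare a.ne_zero (FiniteField.isSquare_of_char_two hc _)]

theorem IsHalfS.apply_one {χ : SpecialLinearGroup (Fin 2) F → ℂ} (h : IsHalfS χ) :
    χ 1 = ((Fintype.card F : ℂ) + 1) / 2 := by
  rw [apply_one_mS (isClassFunction_of_isCharacter (isCharacter_of_isIrr h.1)) (odd_of_half h),
    h.mS_zero]
  rcases h.types with ⟨a, b⟩ | ⟨a, b⟩ <;> rw [a, b] <;> ring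

theorem IsHalfS.not_cusp {χ : SpecialLinearGroup (Fin 2) F → ℂ} (h : IsHalfS χ) : ¬ IsCuspS χ :=
  fun hc => h.2.2 (hc.2 _)

theorem IsCuspS.apply_one_even {χ : SpecialLinearGroup (Fin 2) F → ℂ} (h : IsCuspS χ)
    (h2 : (2 : F) = 0) : χ 1 = (Fintype.card F : ℂ) - 1 := by
  have hn : ((nu F : Fˣ) : F) = 1 := by rw [nu_eq_one_of_even h2, Units.val_one]
  rw [← bS_one, value_bS (isClassFunction_of_isCharacter (isCharacter_of_isIrr h.1)), h.mS_zero,
    if_pos rfl, hn]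
  have ht := h.types
  rw [hn] at ht
  rcases ht with ⟨a, b⟩ | ⟨a, b⟩ | ⟨a, b⟩
  · rw [a]; ring
  · simp [a] at b
  · simp [a] at b

theorem IsCuspS.apply_one_odd {χ : SpecialLinearGroup (Fin 2) F → ℂ} (h : IsCuspS χ)
    (hodd : Odd (Fintype.card F)) :
    (χ 1 = (Fintype.card F : ℂ) - 1 ∧ mS χ 1 = 1 ∧ mS χ (nu F : Fˣ) = 1) ∨
      (χ 1 = ((Fintype.card F : ℂ) - 1) / 2 ∧
        ((mS χ 1 = 1 ∧ mS χ (nu F : Fˣ) = 0) ∨ (mS χ 1 = 0 ∧ mS χ (nu F : Fˣ) = 1))) := by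
  have e := apply_one_mS (isClassFunction_of_isCharacter (isCharacter_of_isIrr h.1)) hodd
  rw [h.mS_zero] at e
  rcases h.types with ⟨a, b⟩ | ⟨a, b⟩ | ⟨a, b⟩ <;> rw [a, b] at e
  · exact Or.inl ⟨by rw [e]; ring, a, b⟩
  · exact Or.inr ⟨by rw [e]; ring, Or.inl ⟨a, b⟩⟩
  · exact Or.inr ⟨by rw [e]; ring, Or.inr ⟨a, b⟩⟩

theorem IsCuspS.tw_ne {χ : SpecialLinearGroup (Fin 2) F → ℂ} (h : IsCuspS χ)
    (hm : mS χ 1 ≠ mS χ (nu F : Fˣ)) : GL2.tw χ ≠ χ := by
  intro e
  have h1 := congrArg (fun f => mS f 1) e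
  simp only [mS_tw_one (isClassFunction_of_isCharacter (isCharacter_of_isIrr h.1))] at h1
  exact hm h1.symm

end Cfsg.Agent.KnownA.GL2
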