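import Mathlib
import Cfsg.Agent.KnownA.GL2.SLChars

/-! # Degrees and counts of the irreducible characters of `SL₂` -/

set_option autoImplicit false
set_option linter.unusedSectionVars false

namespace Cfsg.Agent.KnownA.GL2

open Matrix Cfsg.Agent.Chars
open scoped ComplexConjugate MatrixGroups

variable {F : Type*} [Field F] [Fintype F] [DecidableEq F]

/-- The trivial character. -/
def KT (χ : SpecialLinearGroup (Fin 2) F → ℂ) : Prop := χ = fun _ => 1

/-- The Steinberg character. -/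
def KS (χ : SpecialLinearGroup (Fin 2) F → ℂ) : Prop := χ = stS

/-- The irreducible principal series. -/
def KP (χ : SpecialLinearGroup (Fin 2) F → ℂ) : Prop :=
  ∃ α : MulChar F ℂ, α ^ 2 ≠ 1 ∧ χ = RS α

/-- The big cuspidal characters. -/
def KB (χ : SpecialLinearGroup (Fin 2) F → ℂ) : Prop :=
  IsCuspS χ ∧ mS χ 1 = 1 ∧ mS χ (nu F : Fˣ) = 1

/-- The small cuspidal characters. -/
def KC (χ : SpecialLinearGroup (Fin 2) F → ℂ) : Prop :=
  IsCuspS χ ∧ mS χ 1 ≠ mS χ (nu F : Fˣ)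

theorem two_eq_zero_of_not_odd (h : ¬ Odd (Fintype.card F)) : (2 : F) = 0 := by
  rw [Nat.not_odd_iff, ← FiniteField.even_card_iff_char_two] at h
  have := ringChar.charP F
  rw [h] at this
  simpa using CharP.cast_eq_zero F 2

theorem card_mod_two_of_two_eq_zero (h2 : (2 : F) = 0) : Fintype.card F % 2 = 0 := by
  rw [← Nat.not_odd_iff]
  exact fun h => two_ne_zero_of_odd h h2

theorem KC.odd {χ : SpecialLinearGroup (Fin 2) F → ℂ} (h : KC χ) : Odd (Fintype.card F) := by
  by_contra hc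
  refine h.2 ?_
  rw [nu_eq_one_of_even (two_eq_zero_of_not_odd hc), Units.val_one]

theorem degT {χ : SpecialLinearGroup (Fin 2) F → ℂ} (h : KT χ) {d : ℕ} (hd : χ 1 = d) :
    d = 1 := by
  have : (d : ℂ) = ((1 : ℕ) : ℂ) := by rw [← hd, h]; simp
  exact_mod_cast this

theorem degS {χ : SpecialLinearGroup (Fin 2) F → ℂ} (h : KS χ) {d : ℕ} (hd : χ 1 = d) :
    d = Fintype.card F := by
  have : (d : ℂ) = Fintype.card F := by rw [← hd, h, stS_one]
  exact_mod_cast this

theorem degP {χ : SpecialLinearGroup (Fin 2) F → ℂ} (h : KP χ) {d : ℕ} (hd : χ 1 = d) :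
    d = Fintype.card F + 1 := by
  obtain ⟨α, -, rfl⟩ := h
  have : (d : ℂ) = ((Fintype.card F + 1 : ℕ) : ℂ) := by rw [← hd, RS_one_apply]; push_cast; rfl
  exact_mod_cast this

theorem degH {χ : SpecialLinearGroup (Fin 2) F → ℂ} (h : IsHalfS χ) {d : ℕ} (hd : χ 1 = d) :
    2 * d = Fintype.card F + 1 := by
  have : ((2 * d : ℕ) : ℂ) = ((Fintype.card F + 1 : ℕ) : ℂ) := by
    push_cast; rw [← hd, h.apply_one]; ring
  exact_mod_cast this

theorem degB {χ : SpecialLinearGroup (Fin 2) F → ℂ} (h : KB χ) {d : ℕ} (hd : χ 1 = d) :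
    d + 1 = Fintype.card F := by
  have e : χ 1 = (Fintype.card F : ℂ) - 1 := by
    by_cases ho : Odd (Fintype.card F)
    · rw [apply_one_mS (isClassFunction_of_isCharacter (isCharacter_of_isIrr h.1.1)) ho,
        h.1.mS_zero, h.2.1, h.2.2]
      ring
    · exact h.1.apply_one_even (two_eq_zero_of_not_odd ho)
  have : ((d + 1 : ℕ) : ℂ) = (Fintype.card F : ℂ) := by
    push_cast; rw [← hd, e]; ring
  exact_mod_cast this

theorem degC {χ : SpecialLinearGroup (Fin 2) F → ℂ} (h : KC χ) {d : ℕ} (hd : χ 1 = d) :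
    2 * d + 1 = Fintype.card F := by
  have e : χ 1 = ((Fintype.card F : ℂ) - 1) / 2 := by
    rcases h.1.apply_one_odd h.odd with ⟨-, a, b⟩ | ⟨e, -⟩
    · exact absurd (a.trans b.symm) h.2
    · exact e
  have : ((2 * d + 1 : ℕ) : ℂ) = (Fintype.card F : ℂ) := by
    push_cast; rw [← hd, e]; ring
  exact_mod_cast this

theorem not_T_cusp {χ : SpecialLinearGroup (Fin 2) F → ℂ} (h : KT χ) : ¬ IsCuspS χ := by
  intro hc
  have := hc.inner_one
  rw [show χ = fun _ => 1 from h, classInner_self_irr isIrrCharacter_one] at this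
  exact one_ne_zero this

theorem cusp_kind {χ : SpecialLinearGroup (Fin 2) F → ℂ} (h : IsCuspS χ) : KB χ ∨ KC χ := by
  by_cases e : mS χ 1 = mS χ (nu F : Fˣ)
  · rcases h.types with ⟨a, b⟩ | ⟨a, b⟩ | ⟨a, b⟩
    · exact Or.inl ⟨h, a, b⟩
    · exact absurd (a.symm.trans (e.trans b)) one_ne_zero
    · exact absurd (b.symm.trans (e.symm.trans a)) one_ne_zero
  · exact Or.inr ⟨h, e⟩

/-- The six kinds with their degrees. -/
theorem kinds {χ : SpecialLinearGroup (Fin 2) F → ℂ}
    (hχ : IsIrrCharacter (SpecialLinearGroup (Fin 2) F) χ) :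
    ∃ d : ℕ, χ 1 = d ∧
      ((KT χ ∧ ¬ KS χ ∧ ¬ KP χ ∧ ¬ IsHalfS χ ∧ ¬ KB χ ∧ ¬ KC χ ∧ d = 1) ∨
       (¬ KT χ ∧ KS χ ∧ ¬ KP χ ∧ ¬ IsHalfS χ ∧ ¬ KB χ ∧ ¬ KC χ ∧ d = Fintype.card F) ∨
       (¬ KT χ ∧ ¬ KS χ ∧ KP χ ∧ ¬ IsHalfS χ ∧ ¬ KB χ ∧ ¬ KC χ ∧ d = Fintype.card F + 1) ∨
       (¬ KT χ ∧ ¬ KS χ ∧ ¬ KP χ ∧ IsHalfS χ ∧ ¬ KB χ ∧ ¬ KC χ ∧ 2 * d = Fintype.card F + 1) ∨
       (¬ KT χ ∧ ¬ KS χ ∧ ¬ KP χ ∧ ¬ IsHalfS χ ∧ KB χ ∧ ¬ KC χ ∧ d + 1 = Fintype.card F) ∨
       (¬ KT χ ∧ ¬ KS χ ∧ ¬ KP χ ∧ ¬ IsHalfS χ ∧ ¬ KB χ ∧ KC χ ∧ 2 * d + 1 = Fintype.card F)) := by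
  obtain ⟨d, hd⟩ := exists_apply_one_eq (isCharacter_of_isIrr hχ)
  have hq : 1 < Fintype.card F := Fintype.one_lt_card
  refine ⟨d, hd, ?_⟩
  have T := fun h : KT χ => degT h hd
  have S := fun h : KS χ => degS h hd
  have P := fun h : KP χ => degP h hd
  have H := fun h : IsHalfS χ => degH h hd
  have B := fun h : KB χ => degB h hd
  have C := fun h : KC χ => degC h hd
  rcases cases_irrS hχ with h | h | h | h | hc
  · have e := T h
    exact Or.inl ⟨h, fun x => by have := S x; omega, fun x => by have := P x; omega,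
      fun x => by have := H x; omega, fun x => not_T_cusp h x.1, fun x => not_T_cusp h x.1, e⟩
  · have e := S h
    exact Or.inr (Or.inl ⟨fun x => by have := T x; omega, h, fun x => by have := P x; omega,
      fun x => by have := H x; omega, fun x => by have := B x; omega,
      fun x => by have := C x; omega, e⟩)
  · have e := P h
    exact Or.inr (Or.inr (Or.inl ⟨fun x => by have := T x; omega, fun x => by have := S x; omega, h,
      fun x => by have := H x; omega, fun x => by have := B x; omega,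
      fun x => by have := C x; omega, e⟩))
  · have e := H h
    exact Or.inr (Or.inr (Or.inr (Or.inl ⟨fun x => by have := T x; omega,
      fun x => by have := S x; omega, fun x => by have := P x; omega, h,
      fun x => h.not_cusp x.1, fun x => h.not_cusp x.1, e⟩)))
  · rcases cusp_kind hc with h | h
    · have e := B h
      exact Or.inr (Or.inr (Or.inr (Or.inr (Or.inl ⟨fun x => not_T_cusp x hc,
        fun x => by have := S x; omega, fun x => by have := P x; omega, fun x => x.not_cusp hc, h,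
        fun x => x.2 (h.2.1.trans h.2.2.symm), e⟩))))
    · have e := C h
      exact Or.inr (Or.inr (Or.inr (Or.inr (Or.inr ⟨fun x => not_T_cusp x hc,
        fun x => by have := S x; omega, fun x => by have := P x; omega, fun x => x.not_cusp hc,
        fun x => h.2 (x.2.1.trans x.2.2.symm), h, e⟩))))

/-- The number of irreducible characters of a given kind. -/
noncomputable def nK (P : (SpecialLinearGroup (Fin 2) F → ℂ) → Prop) : ℕ :=
  Nat.card {χ : IrrCharacter (SpecialLinearGroup (Fin 2) F) //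
    P (χ : SpecialLinearGroup (Fin 2) F → ℂ)}

theorem nK_eq_sum [Fintype (IrrCharacter (SpecialLinearGroup (Fin 2) F))]
    (P : (SpecialLinearGroup (Fin 2) F → ℂ) → Prop) [DecidablePred P] :
    nK P = ∑ χ : IrrCharacter (SpecialLinearGroup (Fin 2) F),
      if P (χ : SpecialLinearGroup (Fin 2) F → ℂ) then 1 else 0 := by
  rw [nK, Nat.card_eq_fintype_card, Fintype.card_subtype, Finset.card_filter]

theorem kind_equations :
    Nat.card (ConjClasses (SpecialLinearGroup (Fin 2) F)) =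
        nK (F := F) KT + nK (F := F) KS + nK (F := F) KP + nK (F := F) IsHalfS +
          nK (F := F) KB + nK (F := F) KC ∧
      4 * (Fintype.card F * (Fintype.card F ^ 2 - 1)) =
        4 * nK (F := F) KT + 4 * (Fintype.card F ^ 2 * nK (F := F) KS) +
          4 * ((Fintype.card F + 1) ^ 2 * nK (F := F) KP) +
          (Fintype.card F + 1) ^ 2 * nK (F := F) IsHalfS +
          4 * ((Fintype.card F - 1) ^ 2 * nK (F := F) KB) +
          (Fintype.card F - 1) ^ 2 * nK (F := F) KC := by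
  classical
  let _ : Fintype (IrrCharacter (SpecialLinearGroup (Fin 2) F)) := Fintype.ofFinite _
  simp only [nK_eq_sum, Finset.mul_sum, ← Finset.sum_add_distrib]
  constructor
  · rw [← card_irr_eq_card_conjClasses, Nat.card_eq_fintype_card, ← Finset.card_univ,
      Finset.card_eq_sum_ones]
    refine Finset.sum_congr rfl fun χ _ => ?_
    obtain ⟨d, -, h⟩ := kinds χ.2
    rcases h with ⟨a, b, c, e, f, g, -⟩ | ⟨a, b, c, e, f, g, -⟩ | ⟨a, b, c, e, f, g, -⟩ |
      ⟨a, b, c, e, f, g, -⟩ | ⟨a, b, c, e, f, g, -⟩ | ⟨a, b, c, e, f, g, -⟩ <;>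
      simp [a, b, c, e, f, g]
  · choose d hd hk using fun χ : IrrCharacter (SpecialLinearGroup (Fin 2) F) => kinds χ.2
    have hsum : ∑ χ : IrrCharacter (SpecialLinearGroup (Fin 2) F), d χ ^ 2 =
        Fintype.card F * (Fintype.card F ^ 2 - 1) := by
      rw [← Linear.card_SL_two, ← Nat.cast_inj (R := ℂ), ← sum_sq_apply_one, Nat.cast_sum]
      exact Finset.sum_congr rfl fun χ _ => by rw [hd, Nat.cast_pow]
    rw [← hsum, Finset.mul_sum]
    refine Finset.sum_congr rfl fun χ _ => ?_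
    rcases hk χ with ⟨a, b, c, e, f, g, h⟩ | ⟨a, b, c, e, f, g, h⟩ | ⟨a, b, c, e, f, g, h⟩ |
      ⟨a, b, c, e, f, g, h⟩ | ⟨a, b, c, e, f, g, h⟩ | ⟨a, b, c, e, f, g, h⟩ <;>
      simp [a, b, c, e, f, g]
    · simp [h]
    · simp [h]
    · simp [h]
    · rw [← h]; ring
    · rw [← h]; simp
    · rw [← h]; simp; ring

theorem nK_T : nK (F := F) KT = 1 := by
  rw [nK, Nat.card_eq_one_iff_exists]
  exact ⟨⟨⟨_, isIrrCharacter_one⟩, rfl⟩, fun x => Subtype.ext (Subtype.ext x.2)⟩

theorem nK_S : nK (F := F) KS = 1 := by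
  rw [nK, Nat.card_eq_one_iff_exists]
  exact ⟨⟨⟨_, isIrr_stS⟩, rfl⟩, fun x => Subtype.ext (Subtype.ext x.2)⟩

theorem nK_H (hodd : Odd (Fintype.card F)) : nK (F := F) IsHalfS = 2 := by
  classical
  obtain ⟨χ₁, χ₂, h1, h2, hne, -, hall⟩ := exists_halves (qc_ne_one hodd)
  rw [nK, Nat.card_eq_two_iff]
  refine ⟨⟨⟨χ₁, h1⟩, (hall _).2 (Or.inl rfl)⟩, ⟨⟨χ₂, h2⟩, (hall _).2 (Or.inr rfl)⟩,
    fun e => hne (congrArg (fun x => (x.1 : SpecialLinearGroup (Fin 2) F → ℂ)) e), ?_⟩
  rw [Set.eq_univ_iff_forall]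
  rintro ⟨⟨χ, hχ⟩, h⟩
  rcases (hall χ).1 h with rfl | rfl
  · exact Or.inl rfl
  · exact Or.inr rfl

theorem nK_H_even (h2 : (2 : F) = 0) : nK (F := F) IsHalfS = 0 := by
  rw [nK, Nat.card_eq_zero]
  exact Or.inl ⟨fun x => two_ne_zero_of_odd (odd_of_half x.2) h2⟩

theorem nK_C_even (h2 : (2 : F) = 0) : nK (F := F) KC = 0 := by
  rw [nK, Nat.card_eq_zero]
  exact Or.inl ⟨fun x => two_ne_zero_of_odd (KC.odd x.2) h2⟩

theorem two_mul_nK_P :
    2 * nK (F := F) KP = Nat.card {α : MulChar F ℂ // α ^ 2 ≠ 1} := by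
  classical
  let _ : Fintype (IrrCharacter (SpecialLinearGroup (Fin 2) F)) := Fintype.ofFinite _
  let D : Finset (MulChar F ℂ) := Finset.univ.filter fun α => α ^ 2 ≠ 1
  have h1 : D.card = (D.image RS).card * 2 := by
    rw [Finset.card_eq_sum_card_image RS D]
    refine Finset.sum_const_nat fun g hg => ?_
    obtain ⟨α, hα, rfl⟩ := Finset.mem_image.1 hg
    have hα2 : α ^ 2 ≠ 1 := (Finset.mem_filter.1 hα).2
    rw [show (D.filter fun β => RS β = RS α) = {α, α⁻¹} from ?_]
    · exact Finset.card_pair fun e => hα2 ((sq_eq_one_iff_eq_inv α).2 e)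
    ext β
    simp only [D, Finset.mem_filter, Finset.mem_univ, true_and, RS_eq_iff, Finset.mem_insert,
      Finset.mem_singleton]
    constructor
    · exact fun h => h.2
    · rintro (rfl | rfl)
      · exact ⟨hα2, Or.inl rfl⟩
      · exact ⟨by rwa [inv_pow, ne_eq, inv_eq_one], Or.inr rfl⟩
  have h3 : (Finset.univ.filter fun χ : IrrCharacter (SpecialLinearGroup (Fin 2) F) =>
      KP (χ : SpecialLinearGroup (Fin 2) F → ℂ)).image Subtype.val = D.image RS := by
    ext g
    simp only [Finset.mem_image, Finset.mem_filter, Finset.mem_univ, true_and, D]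
    constructor
    · rintro ⟨χ, ⟨a, ha, e⟩, rfl⟩; exact ⟨a, ha, e.symm⟩
    · rintro ⟨a, ha, rfl⟩; exact ⟨⟨_, (isIrr_RS_iff a).2 ha⟩, ⟨a, ha, rfl⟩, rfl⟩
  rw [nK, Nat.card_eq_fintype_card, Fintype.card_subtype,
    ← Finset.card_image_of_injective _ Subtype.val_injective, h3, Nat.card_eq_fintype_card,
    Fintype.card_subtype, h1, mul_comm]

theorem card_sq_ne_one_odd (hodd : Odd (Fintype.card F)) :
    Nat.card {α : MulChar F ℂ // α ^ 2 ≠ 1} = Fintype.card F - 3 := by
  classical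
  rw [Nat.card_eq_fintype_card, Fintype.card_subtype,
    show (Finset.univ.filter fun α : MulChar F ℂ => α ^ 2 ≠ 1) = Finset.univ \ {1, qc F} from ?_,
    Finset.card_sdiff_of_subset (Finset.subset_univ _),
    Finset.card_pair (qc_ne_one hodd).symm, Finset.card_univ, card_mulChar]
  · omega
  ext α
  simp only [Finset.mem_filter, Finset.mem_univ, true_and, Finset.mem_sdiff, Finset.mem_insert,
    Finset.mem_singleton, ne_eq, not_iff_not]
  constructor
  · intro h
    by_cases h1 : α = 1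
    · exact Or.inl h1
    · exact Or.inr (eq_qc h h1)
  · rintro (rfl | rfl)
    · exact one_pow 2
    · exact qc_sq

theorem card_sq_ne_one_even (h2 : (2 : F) = 0) :
    Nat.card {α : MulChar F ℂ // α ^ 2 ≠ 1} = Fintype.card F - 2 := by
  classical
  have hq : qc F = 1 := by
    by_contra hc
    obtain ⟨χ₁, χ₂, -, -, -, -, hall⟩ := exists_halves hc
    exact two_ne_zero_of_odd (odd_of_half ((hall χ₁).2 (Or.inl rfl))) h2
  rw [Nat.card_eq_fintype_card, Fintype.card_subtype,
    show (Finset.univ.filter fun α : MulChar F ℂ => α ^ 2 ≠ 1) = Finset.univ \ {1} from ?_,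
    Finset.card_sdiff_of_subset (Finset.subset_univ _), Finset.card_singleton, Finset.card_univ,
    card_mulChar]
  · omega
  ext α
  simp only [Finset.mem_filter, Finset.mem_univ, true_and, Finset.mem_sdiff, Finset.mem_singleton,
    ne_eq, not_iff_not]
  constructor
  · intro h
    by_contra h1
    exact h1 ((eq_qc h h1).trans hq)
  · rintro rfl
    exact one_pow 2

theorem counts_odd (hodd : Odd (Fintype.card F)) :
    2 * nK (F := F) KP = Fintype.card F - 3 ∧ 2 * nK (F := F) KB = Fintype.card F - 1 ∧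
      nK (F := F) KC = 2 := by
  obtain ⟨h1, h2⟩ := kind_equations (F := F)
  rw [nK_T, nK_S, nK_H hodd, card_conjClasses_SL_odd hodd] at h1
  rw [nK_T, nK_S, nK_H hodd] at h2
  have hP := (two_mul_nK_P (F := F)).trans (card_sq_ne_one_odd hodd)
  refine ⟨hP, ?_⟩
  have hq : 1 < Fintype.card F := Fintype.one_lt_card
  obtain ⟨k, hk⟩ := hodd
  generalize Fintype.card F = q at *
  generalize nK (F := F) KP = p at *
  generalize nK (F := F) KB = b at *
  generalize nK (F := F) KC = c at *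
  obtain ⟨r, rfl⟩ : ∃ r, k = r + 1 := ⟨k - 1, by omega⟩
  subst hk
  have e1 : 2 * (r + 1) + 1 - 1 = 2 * (r + 1) := by omega
  have e2 : (2 * (r + 1) + 1) ^ 2 - 1 = (2 * (r + 1)) * (2 * (r + 1) + 2) := by
    apply Nat.sub_eq_of_eq_add; ring
  obtain rfl : p = r := by omega
  rw [e1, e2] at h2
  have hs : 4 * b + c = 4 * p + 6 := by
    have : 4 * (p + 1) ^ 2 * (4 * b + c) = 4 * (p + 1) ^ 2 * (4 * p + 6) := by linarith
    exact Nat.eq_of_mul_eq_mul_left (by positivity) this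
  omega

theorem counts_even (h2 : (2 : F) = 0) :
    2 * nK (F := F) KP = Fintype.card F - 2 ∧ 2 * nK (F := F) KB = Fintype.card F := by
  obtain ⟨h1, -⟩ := kind_equations (F := F)
  rw [nK_T, nK_S, nK_H_even h2, nK_C_even h2, card_conjClasses_SL_two h2] at h1
  have hP := (two_mul_nK_P (F := F)).trans (card_sq_ne_one_even h2)
  have hq : 1 < Fintype.card F := Fintype.one_lt_card
  exact ⟨hP, by omega⟩

/-- A count by degree equals a count by kind. -/
theorem card_degree_eq {P : (SpecialLinearGroup (Fin 2) F → ℂ) → Prop} {x : ℂ}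
    (h : ∀ χ : IrrCharacter (SpecialLinearGroup (Fin 2) F),
      (χ : SpecialLinearGroup (Fin 2) F → ℂ) 1 = x ↔ P (χ : SpecialLinearGroup (Fin 2) F → ℂ)) :
    Nat.card {χ : IrrCharacter (SpecialLinearGroup (Fin 2) F) //
      (χ : SpecialLinearGroup (Fin 2) F → ℂ) 1 = x} = nK P :=
  Nat.card_congr (Equiv.subtypeEquivRight h)

end Cfsg.Agent.KnownA.GL2
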