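import Mathlib
import Cfsg.Agent.KnownA.GL2.SLTable

/-! # Values of the irreducible characters of `SL₂` -/

set_option autoImplicit false
set_option linter.unusedSectionVars false

namespace Cfsg.Agent.KnownA.GL2

open Matrix Cfsg.Agent.Chars
open scoped ComplexConjugate MatrixGroups

variable {F : Type*} [Field F] [Fintype F] [DecidableEq F]

theorem exists_eq_bS {g : SpecialLinearGroup (Fin 2) F} (h10 : g.1 1 0 = 0) :
    ∃ a : Fˣ, g = bS a (g.1 0 1) ∧ (a : F) = g.1 0 0 := by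
  have hdet := g.2
  rw [det_fin_two, h10, mul_zero, sub_zero] at hdet
  refine ⟨Units.mk0 _ (left_ne_zero_of_mul (hdet.trans_ne one_ne_zero)), Subtype.ext ?_, rfl⟩
  ext i j
  fin_cases i <;> fin_cases j <;> simp [bS_val, h10]
  exact eq_inv_of_mul_eq_one_right hdet

theorem value_split {χ : SpecialLinearGroup (Fin 2) F → ℂ}
    (hχ : IsClassFunction (SpecialLinearGroup (Fin 2) F) χ) {a : Fˣ} (ha : (a : F) ^ 2 ≠ 1)
    (c : F) : (Fintype.card F : ℂ) * χ (bS a c) = jS χ a := by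
  have hne : ((a⁻¹ : Fˣ) : F) - a ≠ 0 := fun e => ha (by
    have h := a.mul_inv
    linear_combination h - (a : F) * e)
  rw [jS, Finset.sum_congr rfl (g := fun _ => χ (bS a c)) fun c' _ => ?_, Finset.sum_const,
    Finset.card_univ, nsmul_eq_mul]
  set x : F := (c' - c) / (((a⁻¹ : Fˣ) : F) - a) with hx
  have h : bS 1 x * bS a c = bS a c' * bS 1 x := by
    rw [bS_mul, bS_mul, one_mul, mul_one]
    congr 1
    have : x * (((a⁻¹ : Fˣ) : F) - a) = c' - c := div_mul_cancel₀ _ hne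
    simp only [Units.val_one, inv_one, one_mul, mul_one]
    linear_combination this
  rw [show bS a c' = bS 1 x * bS a c * (bS 1 x)⁻¹ by rw [h, mul_inv_cancel_right]]
  exact hχ _ _

theorem IsCuspS.split {χ : SpecialLinearGroup (Fin 2) F → ℂ} (h : IsCuspS χ) {a : Fˣ}
    (ha : (a : F) ^ 2 ≠ 1) (c : F) : χ (bS a c) = 0 := by
  have e := value_split (isClassFunction_of_isCharacter (isCharacter_of_isIrr h.1)) ha c
  rw [h.jS_eq_zero] at e
  exact (mul_eq_zero.1 e).resolve_left (Nat.cast_ne_zero.2 Fintype.card_ne_zero)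

theorem IsHalfS.split {χ : SpecialLinearGroup (Fin 2) F → ℂ} (h : IsHalfS χ) {a : Fˣ}
    (ha : (a : F) ^ 2 ≠ 1) (c : F) : χ (bS a c) = qc F a := by
  have e := value_split (isClassFunction_of_isCharacter (isCharacter_of_isIrr h.1)) ha c
  rw [h.jS_eq] at e
  exact mul_left_cancel₀ (Nat.cast_ne_zero.2 Fintype.card_ne_zero) e

theorem trace_sq_ne_four (hodd : Odd (Fintype.card F)) {g : SpecialLinearGroup (Fin 2) F}
    (h : ∀ (c : F) (v : Fin 2 → F), v ≠ 0 → g.1.mulVec v ≠ c • v) : g.1.trace ^ 2 ≠ 4 := by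
  intro e
  have h2 : (2 : F) ≠ 0 := two_ne_zero_of_odd hodd
  apply charpoly_no_root h (g.1.trace / 2)
  rw [g.2]
  field_simp
  linear_combination -e

theorem isConj_twist {g : SpecialLinearGroup (Fin 2) F} (hg : ¬ IsScalar g.1)
    (ht : g.1.trace ^ 2 ≠ 4) (ν : Fˣ) : IsConj (twist ν g) g := by
  have htr : (twist ν g).1.trace = g.1.trace := by
    simp [twist_val, Matrix.trace]
  have hg' : ¬ IsScalar (twist ν g).1 := by
    rintro ⟨a, b, c⟩
    simp [twist_val] at a b c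
    exact hg ⟨a, b, c⟩
  obtain ⟨v, hv⟩ := exists_Qf_eq_one hg (Or.inl ht)
  obtain ⟨w, hw⟩ := exists_Qf_eq_one hg' (Or.inl (htr.symm ▸ ht))
  have h1 := isConj_nfS g 1 (by simpa using hv)
  have h2 := isConj_nfS (twist ν g) 1 (by simpa using hw)
  rw [htr] at h2
  exact h2.trans h1.symm

theorem tw_value {χ : SpecialLinearGroup (Fin 2) F → ℂ}
    (hχ : IsClassFunction (SpecialLinearGroup (Fin 2) F) χ) {g : SpecialLinearGroup (Fin 2) F}
    (hg : ¬ IsScalar g.1) (ht : g.1.trace ^ 2 ≠ 4) : tw χ g = χ g := by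
  obtain ⟨c, hc⟩ := isConj_iff.1 (isConj_twist hg ht (nu F)).symm
  rw [tw, Function.comp_apply, ← hc]
  exact hχ _ _

theorem RS_elliptic (α : MulChar F ℂ) {g : SpecialLinearGroup (Fin 2) F}
    (h : ∀ (c : F) (v : Fin 2 → F), v ≠ 0 → g.1.mulVec v ≠ c • v) : RS α g = 0 := by
  rw [RS_eq, Rval_elliptic _ h]

theorem IsHalfS.elliptic {χ : SpecialLinearGroup (Fin 2) F → ℂ} (hh : IsHalfS χ)
    {g : SpecialLinearGroup (Fin 2) F}
    (h : ∀ (c : F) (v : Fin 2 → F), v ≠ 0 → g.1.mulVec v ≠ c • v) : χ g = 0 := by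
  have e := congrFun hh.sum_eq g
  rw [RS_elliptic _ h, Pi.add_apply, tw_value (isClassFunction_of_isCharacter
    (isCharacter_of_isIrr hh.1)) (not_scalar_of_no_eigen h)
    (trace_sq_ne_four (odd_of_half hh) h)] at e
  have : (2 : ℂ) * χ g = 0 := by linear_combination -e
  exact (mul_eq_zero.1 this).resolve_left two_ne_zero

/-- For three elements the cuspidal characters of degree two vanish at the elliptic elements. -/
theorem KB.elliptic_three {χ : SpecialLinearGroup (Fin 2) F → ℂ} (hb : KB χ)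
    (hq : Fintype.card F = 3) {g : SpecialLinearGroup (Fin 2) F}
    (h : ∀ (c : F) (v : Fin 2 → F), v ≠ 0 → g.1.mulVec v ≠ c • v) : χ g = 0 := by
  classical
  have hodd : Odd (Fintype.card F) := by rw [hq]; decide
  have hns := not_scalar_of_no_eigen h
  have hall : ∀ x : F, x = 0 ∨ x = 1 ∨ x = -1 := by
    intro x
    by_cases hx : x = 0
    · exact Or.inl hx
    · have h1 := FiniteField.pow_card_sub_one_eq_one x hx
      rw [hq, show 3 - 1 = 2 from rfl, sq] at h1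
      exact Or.inr (mul_self_eq_one_iff.1 h1)
  have ht : g.1.trace = 0 := by
    rcases hall g.1.trace with e | e | e
    · exact e
    · refine absurd ?_ (charpoly_no_root h (-1))
      rw [g.2, e]
      have h3 : (3 : F) = 0 := by exact_mod_cast hq ▸ FiniteField.cast_card_eq_zero F
      linear_combination h3
    · refine absurd ?_ (charpoly_no_root h 1)
      rw [g.2, e]
      have h3 : (3 : F) = 0 := by exact_mod_cast hq ▸ FiniteField.cast_card_eq_zero F
      linear_combination h3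
  have hcent : Nat.card (Subgroup.centralizer ({g} : Set (SpecialLinearGroup (Fin 2) F))) ≤ 4 := by
    rw [card_centralizer_SL hns, ht, Nat.card_eq_fintype_card, Fintype.card_subtype]
    refine le_trans (Finset.card_le_card
      (t := ({(1, 0), (-1, 0), (0, 1), (0, -1)} : Finset (F × F))) ?_) Finset.card_le_four
    rintro ⟨x, y⟩ hp
    have hp' := (Finset.mem_filter.1 hp).2
    have h3 : (3 : F) = 0 := by exact_mod_cast hq ▸ FiniteField.cast_card_eq_zero F
    have h1 : (1 : F) ≠ 0 := one_ne_zero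
    have h2 : (2 : F) ≠ 0 := two_ne_zero_of_odd hodd
    rcases hall x with rfl | rfl | rfl <;> rcases hall y with rfl | rfl | rfl <;>
      norm_num at hp' <;>
      first
        | (simp; done)
        | exact absurd (show (1 : F) = 0 by linear_combination hp') h1
  let _ : Fintype (IrrCharacter (SpecialLinearGroup (Fin 2) F)) := Fintype.ofFinite _
  have hcol := column_orth g g
  rw [if_pos (IsConj.refl g)] at hcol
  have hre : ∑ ψ : IrrCharacter (SpecialLinearGroup (Fin 2) F),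
      Complex.normSq ((ψ : SpecialLinearGroup (Fin 2) F → ℂ) g) ≤ 4 := by
    have e : ((∑ ψ : IrrCharacter (SpecialLinearGroup (Fin 2) F),
        Complex.normSq ((ψ : SpecialLinearGroup (Fin 2) F → ℂ) g) : ℝ) : ℂ) =
        (Nat.card (Subgroup.centralizer ({g} : Set (SpecialLinearGroup (Fin 2) F))) : ℂ) := by
      rw [← hcol]; push_cast
      exact Finset.sum_congr rfl fun ψ _ => (Complex.mul_conj _).symm
    have e' : ∑ ψ : IrrCharacter (SpecialLinearGroup (Fin 2) F),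
        Complex.normSq ((ψ : SpecialLinearGroup (Fin 2) F → ℂ) g) =
        (Nat.card (Subgroup.centralizer ({g} : Set (SpecialLinearGroup (Fin 2) F))) : ℝ) := by
      exact_mod_cast e
    rw [e']
    exact_mod_cast hcent
  let S : Finset (IrrCharacter (SpecialLinearGroup (Fin 2) F)) := Finset.univ.filter fun ψ =>
    KT (ψ : SpecialLinearGroup (Fin 2) F → ℂ) ∨ KS (ψ : SpecialLinearGroup (Fin 2) F → ℂ) ∨
      KC (ψ : SpecialLinearGroup (Fin 2) F → ℂ)
  have hone : ∀ ψ ∈ S, Complex.normSq ((ψ : SpecialLinearGroup (Fin 2) F → ℂ) g) = 1 := by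
    intro ψ hψ
    rcases (Finset.mem_filter.1 hψ).2 with e | e | e
    · rw [show (ψ : SpecialLinearGroup (Fin 2) F → ℂ) = fun _ => 1 from e]; simp
    · rw [show (ψ : SpecialLinearGroup (Fin 2) F → ℂ) = stS from e, stS, Pi.sub_apply,
        RS_elliptic _ h]
      simp
    · have hc := isCharacter_of_isIrr ψ.2
      obtain ⟨d, hd⟩ := exists_apply_one_eq hc
      have hd1 := degC e hd
      rw [hq] at hd1
      obtain ⟨φ, hφ⟩ := exists_hom_of_degree_one hc (by rw [hd, show d = 1 by omega, Nat.cast_one])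
      rw [congrFun hφ g, Complex.normSq_eq_norm_sq,
        Complex.norm_eq_one_of_pow_eq_one (n := Fintype.card (SpecialLinearGroup (Fin 2) F))
          (by rw [← Units.val_pow_eq_pow_val, ← map_pow, pow_card_eq_one, map_one, Units.val_one])
          Fintype.card_ne_zero]
      norm_num
  have hScard : S.card = 4 := by
    have e : S.card = nK (F := F) KT + nK (F := F) KS + nK (F := F) KC := by
      simp only [S, nK_eq_sum, ← Finset.sum_add_distrib, Finset.card_filter]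
      refine Finset.sum_congr rfl fun ψ _ => ?_
      obtain ⟨d, -, k⟩ := kinds ψ.2
      rcases k with ⟨a, b, c, e, f, g, -⟩ | ⟨a, b, c, e, f, g, -⟩ | ⟨a, b, c, e, f, g, -⟩ |
        ⟨a, b, c, e, f, g, -⟩ | ⟨a, b, c, e, f, g, -⟩ | ⟨a, b, c, e, f, g, -⟩ <;>
        simp [a, b, g]
    rw [e, nK_T, nK_S, (counts_odd hodd).2.2]
  set ψ₀ : IrrCharacter (SpecialLinearGroup (Fin 2) F) := ⟨χ, hb.1.1⟩ with hψ₀
  have hnot : ψ₀ ∉ S := by
    intro hψ
    rcases (Finset.mem_filter.1 hψ).2 with e | e | e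
    · exact not_T_cusp e hb.1
    · obtain ⟨d, hd⟩ := exists_apply_one_eq (isCharacter_of_isIrr hb.1.1)
      have := degB hb hd
      have := degS e hd
      omega
    · exact e.2 (hb.2.1.trans hb.2.2.symm)
  have hle := (Finset.sum_le_sum_of_subset_of_nonneg (Finset.subset_univ (insert ψ₀ S))
    fun ψ _ _ => Complex.normSq_nonneg ((ψ : SpecialLinearGroup (Fin 2) F → ℂ) g)).trans hre
  rw [Finset.sum_insert hnot, Finset.sum_congr rfl hone, Finset.sum_const, hScard] at hle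
  norm_num at hle
  exact Complex.normSq_eq_zero.1 (le_antisymm hle (Complex.normSq_nonneg _))

theorem stS_values_unip {g : SpecialLinearGroup (Fin 2) F} (h10 : g.1 1 0 = 0)
    (h : g.1 0 0 = g.1 1 1) (h01 : g.1 0 1 ≠ 0) : stS g = 0 := by
  rw [stS, Pi.sub_apply, RS_eq, Rval_unip _ h10 h h01,
    MulChar.one_apply (diag_ne_zero (g.2.trans_ne one_ne_zero) h10).1.isUnit, sub_self]

theorem sum_unipotent (χ : SpecialLinearGroup (Fin 2) F → ℂ) :
    (∑ g : SpecialLinearGroup (Fin 2) F,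
      if g.1 1 0 = 0 ∧ g.1 0 0 = 1 ∧ g.1 1 1 = 1 then χ g else 0) = jS χ 1 := by
  rw [← Finset.sum_filter, jS]
  refine (Finset.sum_bij (fun c _ => bS (1 : Fˣ) c) ?_ ?_ ?_ ?_).symm
  · intro c _; simp [bS_val]
  · intro a _ b _ e
    simpa [bS_val] using congrArg (fun x : SpecialLinearGroup (Fin 2) F => x.1 0 1) e
  · intro g hg
    obtain ⟨h10, h00, -⟩ := (Finset.mem_filter.1 hg).2
    obtain ⟨a, ha, hv⟩ := exists_eq_bS h10
    refine ⟨g.1 0 1, Finset.mem_univ _, ?_⟩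
    rw [show a = 1 from Units.ext (hv.trans h00)] at ha
    exact ha.symm
  · intros; rfl

/-! ## Recognition by degree -/

theorem kind_of_q {χ : SpecialLinearGroup (Fin 2) F → ℂ}
    (hχ : IsIrrCharacter (SpecialLinearGroup (Fin 2) F) χ)
    (h : χ 1 = (Fintype.card F : ℂ)) : χ = stS := by
  obtain ⟨d, hd, k⟩ := kinds hχ
  have hq : 1 < Fintype.card F := Fintype.one_lt_card
  have : d = Fintype.card F := by exact_mod_cast hd.symm.trans h
  rcases k with ⟨_, b, _, _, _, _, e⟩ | ⟨_, b, _, _, _, _, e⟩ | ⟨_, b, _, _, _, _, e⟩ |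
    ⟨_, b, _, _, _, _, e⟩ | ⟨_, b, _, _, _, _, e⟩ | ⟨_, b, _, _, _, _, e⟩ <;> first | exact b | omega

theorem kind_of_q_add_one {χ : SpecialLinearGroup (Fin 2) F → ℂ}
    (hχ : IsIrrCharacter (SpecialLinearGroup (Fin 2) F) χ)
    (h : χ 1 = (Fintype.card F : ℂ) + 1) : KP χ := by
  obtain ⟨d, hd, k⟩ := kinds hχ
  have hq : 1 < Fintype.card F := Fintype.one_lt_card
  have : d = Fintype.card F + 1 := by exact_mod_cast hd.symm.trans h
  rcases k with ⟨_, _, c, _, _, _, e⟩ | ⟨_, _, c, _, _, _, e⟩ | ⟨_, _, c, _, _, _, e⟩ |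
    ⟨_, _, c, _, _, _, e⟩ | ⟨_, _, c, _, _, _, e⟩ | ⟨_, _, c, _, _, _, e⟩ <;> first | exact c | omega

theorem kind_of_q_sub_one (hq4 : 4 ≤ Fintype.card F) {χ : SpecialLinearGroup (Fin 2) F → ℂ}
    (hχ : IsIrrCharacter (SpecialLinearGroup (Fin 2) F) χ)
    (h : χ 1 = (Fintype.card F : ℂ) - 1) : KB χ := by
  obtain ⟨d, hd, k⟩ := kinds hχ
  have h' : ((d + 1 : ℕ) : ℂ) = (Fintype.card F : ℂ) := by
    push_cast; rw [← hd, h]; ring
  have : d + 1 = Fintype.card F := by exact_mod_cast h'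
  rcases k with ⟨_, _, _, _, c, _, e⟩ | ⟨_, _, _, _, c, _, e⟩ | ⟨_, _, _, _, c, _, e⟩ |
    ⟨_, _, _, _, c, _, e⟩ | ⟨_, _, _, _, c, _, e⟩ | ⟨_, _, _, _, c, _, e⟩ <;> first | exact c | omega

theorem kind_of_half_up (hodd : Odd (Fintype.card F)) {χ : SpecialLinearGroup (Fin 2) F → ℂ}
    (hχ : IsIrrCharacter (SpecialLinearGroup (Fin 2) F) χ)
    (h : χ 1 = (((Fintype.card F + 1) / 2 : ℕ) : ℂ)) :
    IsHalfS χ ∨ (Fintype.card F = 3 ∧ KB χ) := by
  obtain ⟨d, hd, k⟩ := kinds hχ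
  have : d = (Fintype.card F + 1) / 2 := by exact_mod_cast hd.symm.trans h
  have hq : 1 < Fintype.card F := Fintype.one_lt_card
  rw [Nat.odd_iff] at hodd
  rcases k with ⟨_, _, _, c, g, _, e⟩ | ⟨_, _, _, c, g, _, e⟩ | ⟨_, _, _, c, g, _, e⟩ |
    ⟨_, _, _, c, g, _, e⟩ | ⟨_, _, _, c, g, _, e⟩ | ⟨_, _, _, c, g, _, e⟩ <;>
    first | exact Or.inl c | omega | exact Or.inr ⟨by omega, g⟩

theorem kind_of_half_down (hodd : Odd (Fintype.card F)) (hq5 : 5 ≤ Fintype.card F)
    {χ : SpecialLinearGroup (Fin 2) F → ℂ}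
    (hχ : IsIrrCharacter (SpecialLinearGroup (Fin 2) F) χ)
    (h : χ 1 = (((Fintype.card F - 1) / 2 : ℕ) : ℂ)) : KC χ := by
  obtain ⟨d, hd, k⟩ := kinds hχ
  have : d = (Fintype.card F - 1) / 2 := by exact_mod_cast hd.symm.trans h
  rw [Nat.odd_iff] at hodd
  rcases k with ⟨_, _, _, _, _, c, e⟩ | ⟨_, _, _, _, _, c, e⟩ | ⟨_, _, _, _, _, c, e⟩ |
    ⟨_, _, _, _, _, c, e⟩ | ⟨_, _, _, _, _, c, e⟩ | ⟨_, _, _, _, _, c, e⟩ <;> first | exact c | omega

theorem KC.tw {χ : SpecialLinearGroup (Fin 2) F → ℂ} (h : KC χ) : KC (GL2.tw χ) := by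
  refine ⟨h.1.tw, ?_⟩
  rw [mS_tw_one (isClassFunction_of_isCharacter (isCharacter_of_isIrr h.1.1)), mS_tw_nu]
  exact h.2.symm

theorem KC.eq_or (hodd : Odd (Fintype.card F)) {χ ψ : SpecialLinearGroup (Fin 2) F → ℂ}
    (h : KC χ) (h' : KC ψ) : ψ = χ ∨ ψ = GL2.tw χ := by
  classical
  by_contra hc
  push Not at hc
  let x : {χ : IrrCharacter (SpecialLinearGroup (Fin 2) F) //
      KC (χ : SpecialLinearGroup (Fin 2) F → ℂ)} := ⟨⟨χ, h.1.1⟩, h⟩
  let y : {χ : IrrCharacter (SpecialLinearGroup (Fin 2) F) //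
      KC (χ : SpecialLinearGroup (Fin 2) F → ℂ)} := ⟨⟨GL2.tw χ, h.tw.1.1⟩, h.tw⟩
  let z : {χ : IrrCharacter (SpecialLinearGroup (Fin 2) F) //
      KC (χ : SpecialLinearGroup (Fin 2) F → ℂ)} := ⟨⟨ψ, h'.1.1⟩, h'⟩
  obtain ⟨a, b, -, hab⟩ := Nat.card_eq_two_iff.1 (counts_odd hodd).2.2
  have hxy : x ≠ y := fun e => h.1.tw_ne h.2
    (congrArg (fun w => (w.1 : SpecialLinearGroup (Fin 2) F → ℂ)) e).symm
  have hxz : x ≠ z := fun e => hc.1 (congrArg (fun w => (w.1 : SpecialLinearGroup (Fin 2) F → ℂ)) e).symm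
  have hyz : y ≠ z := fun e => hc.2 (congrArg (fun w => (w.1 : SpecialLinearGroup (Fin 2) F → ℂ)) e).symm
  rcases (hab ▸ Set.mem_univ x : x ∈ ({a, b} : Set _)) with e1 | e1 <;>
    rcases (hab ▸ Set.mem_univ y : y ∈ ({a, b} : Set _)) with e2 | e2 <;>
    rcases (hab ▸ Set.mem_univ z : z ∈ ({a, b} : Set _)) with e3 | e3 <;>
    first
      | exact hxy (e1.trans e2.symm)
      | exact hxz (e1.trans e3.symm)
      | exact hyz (e2.trans e3.symm)

theorem isIrr_half_pair (hodd : Odd (Fintype.card F)) :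
    ∃ χ : SpecialLinearGroup (Fin 2) F → ℂ, IsHalfS χ := by
  obtain ⟨χ₁, χ₂, -, -, -, -, hall⟩ := exists_halves (qc_ne_one hodd)
  exact ⟨χ₁, (hall _).2 (Or.inl rfl)⟩

end Cfsg.Agent.KnownA.GL2
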