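import Mathlib
import Cfsg.Agent.KnownA.GL2.SLValues

/-! # The non-split torus of `SL₂` -/

set_option autoImplicit false
set_option linter.unusedSectionVars false

namespace Cfsg.Agent.KnownA.GL2

open Matrix Cfsg.Agent.Chars
open scoped ComplexConjugate MatrixGroups

variable {F : Type*} [Field F] [Fintype F] [DecidableEq F]

/-- No eigenvector. -/
def IsEll (M : Matrix (Fin 2) (Fin 2) F) : Prop :=
  ∀ (c : F) (v : Fin 2 → F), v ≠ 0 → M.mulVec v ≠ c • v

theorem triangular_or_ell (g : SpecialLinearGroup (Fin 2) F) :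
    IsEll g.1 ∨ ∃ o : Option F, ∃ a : Fˣ, ∃ c : F, (repSL o)⁻¹ * g * repSL o = bS a c := by
  by_cases h : IsEll g.1
  · exact Or.inl h
  right
  simp only [IsEll, not_forall, not_not] at h
  obtain ⟨k, v, hv, e⟩ := h
  have key : ∃ o, cj o g.1 1 0 = 0 := by
    have e0 := congrFun e 0
    have e1 := congrFun e 1
    simp [Matrix.mulVec, dotProduct, Fin.sum_univ_two] at e0 e1
    by_cases h1 : v 1 = 0
    · have h0 : v 0 ≠ 0 := fun h0 => hv (by ext i; fin_cases i <;> simp [h0, h1])
      refine ⟨none, ?_⟩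
      rw [cj_none]
      rw [h1, mul_zero, mul_zero, add_zero] at e1
      exact (mul_eq_zero.1 e1).resolve_right h0
    · refine ⟨some (v 0 / v 1), ?_⟩
      simp [cj_some]
      field_simp
      linear_combination (v 0) * e1 - (v 1) * e0
  obtain ⟨o, ho⟩ := key
  refine ⟨o, ?_⟩
  set h' := (repSL o)⁻¹ * g * repSL o with hh
  have hv' : h'.1 = cj o g.1 := by
    show ((repSL o)⁻¹).1 * g.1 * (repSL o).1 = _
    rw [Matrix.SpecialLinearGroup.coe_inv]
    rfl
  obtain ⟨a, ha, -⟩ := exists_eq_bS (g := h') (by rw [hv']; exact ho)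
  exact ⟨a, _, ha⟩

theorem class_conj {G A : Type*} [Group G] {f : G → A} (hf : ∀ g h : G, f (h * g * h⁻¹) = f g)
    (x g : G) : f (x⁻¹ * g * x) = f g := by
  simpa using hf g x⁻¹

theorem ell_conj {g : SpecialLinearGroup (Fin 2) F} (h : IsEll g.1)
    (x : SpecialLinearGroup (Fin 2) F) : IsEll (x * g * x⁻¹).1 := by
  intro k v hv e
  refine h k ((x⁻¹).1 *ᵥ v) ?_ ?_
  · intro h0
    apply hv
    have h1 := congrArg (fun w => x.1 *ᵥ w) h0
    simp only [Matrix.mulVec_mulVec, Matrix.mulVec_zero] at h1
    rwa [show x.1 * (x⁻¹).1 = 1 from congrArg Subtype.val (mul_inv_cancel x), Matrix.one_mulVec] at h1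
  · have h1 := congrArg (fun w => (x⁻¹).1 *ᵥ w) e
    simp only [Matrix.mulVec_mulVec, Matrix.mulVec_smul] at h1
    rw [← h1, Matrix.mulVec_mulVec]
    congr 1
    exact congrArg Subtype.val (show g * x⁻¹ = x⁻¹ * (x * g * x⁻¹) by group)

theorem isConj_of_trace {g h : SpecialLinearGroup (Fin 2) F} (hg : ¬ IsScalar g.1)
    (hh : ¬ IsScalar h.1) (e : g.1.trace = h.1.trace) (ht : g.1.trace ^ 2 ≠ 4) : IsConj g h := by
  obtain ⟨v, hv⟩ := exists_Qf_eq_one hg (Or.inl ht)
  obtain ⟨w, hw⟩ := exists_Qf_eq_one hh (Or.inl (e ▸ ht))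
  have h1 := isConj_nfS g 1 (by simpa using hv)
  have h2 := isConj_nfS h 1 (by simpa using hw)
  rw [← e] at h2
  exact h1.trans h2.symm

theorem neg_one_val : ((-1 : SpecialLinearGroup (Fin 2) F)).1 = -1 := by
  simp

theorem bS_neg_one : bS (-1 : Fˣ) (0 : F) = -1 := by
  apply Subtype.ext
  ext i j
  fin_cases i <;> fin_cases j <;> simp [bS_val]

theorem neg_one_ne_one (hodd : Odd (Fintype.card F)) : (-1 : SpecialLinearGroup (Fin 2) F) ≠ 1 := by
  intro e
  have h := congrArg (fun x : SpecialLinearGroup (Fin 2) F => x.1 0 0) e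
  simp at h
  exact two_ne_zero_of_odd hodd (by linear_combination -h)

theorem isScalar_one_neg {g : SpecialLinearGroup (Fin 2) F} (h : g = 1 ∨ g = -1) :
    IsScalar g.1 := by
  rcases h with rfl | rfl <;> simp [IsScalar]

theorem scalar_iff (g : SpecialLinearGroup (Fin 2) F) :
    IsScalar g.1 ↔ g = 1 ∨ g = -1 :=
  ⟨scalar_SL_cases, isScalar_one_neg⟩

theorem mem_center_iff_scalar (g : SpecialLinearGroup (Fin 2) F) :
    g ∈ Subgroup.center (SpecialLinearGroup (Fin 2) F) ↔ IsScalar g.1 := by
  rw [Subgroup.mem_center_iff]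
  constructor
  · intro h
    have h1 := congrArg (fun x : SpecialLinearGroup (Fin 2) F => x.1) (h (bS 1 1))
    simp only [Matrix.SpecialLinearGroup.coe_mul, bS_val] at h1
    have a00 := congrFun (congrFun h1 0) 0
    have a01 := congrFun (congrFun h1 0) 1
    simp [Matrix.mul_apply, Fin.sum_univ_two] at a00 a01
    let w : SpecialLinearGroup (Fin 2) F := ⟨!![0, 1; -1, 0], by simp [det_fin_two]⟩
    have h2 : w.1 * g.1 = g.1 * w.1 := congrArg Subtype.val (h w)
    rw [show w.1 = !![(0 : F), 1; -1, 0] from rfl] at h2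
    have b00 := congrFun (congrFun h2 0) 0
    simp [Matrix.mul_apply, Fin.sum_univ_two] at b00
    refine ⟨?_, ?_, ?_⟩
    · linear_combination b00 - a00
    · linear_combination a00
    · linear_combination -a01
  · intro hg x
    rcases (scalar_iff g).1 hg with rfl | rfl <;> simp

theorem bS_pow_of_sq_one {a : Fˣ} (ha : a ^ 2 = 1) (c : F) (n : ℕ) :
    bS a c ^ n = bS (a ^ n) 0 * uS (Multiplicative.ofAdd ((n : F) * ((a : F) * c))) := by
  have hinv : a⁻¹ = a := inv_eq_of_mul_eq_one_right (by rw [← sq, ha])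
  have hd : bS a c = bS a 0 * uS (Multiplicative.ofAdd ((a : F) * c)) := by
    rw [uS_apply, bS_mul]
    have h2 : (a : F) * a = 1 := by rw [← Units.val_mul, ← sq, ha, Units.val_one]
    simp [← mul_assoc, h2]
  have hcomm : Commute (bS a 0) (uS (Multiplicative.ofAdd ((a : F) * c))) := by
    rw [commute_iff_eq, uS_apply, bS_mul, bS_mul, hinv]
    simp [mul_comm]
  rw [hd, hcomm.mul_pow, ← map_pow, ← ofAdd_nsmul, nsmul_eq_mul]
  congr 1
  induction n with
  | zero => rw [pow_zero, pow_zero, bS_one]
  | succ n ih => rw [pow_succ, ih, bS_mul, pow_succ]; simp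

variable {C : Subgroup (SpecialLinearGroup (Fin 2) F)}

theorem pow_card_eq_one_of_mem (hcard : Nat.card C = Fintype.card F + 1)
    {c : SpecialLinearGroup (Fin 2) F} (hc : c ∈ C) : c ^ (Fintype.card F + 1) = 1 := by
  have h := congrArg Subtype.val (pow_card_eq_one' (x := (⟨c, hc⟩ : C)))
  rwa [hcard] at h

/-- The non-central elements of the torus are elliptic. -/
theorem ell_of_mem (hcard : Nat.card C = Fintype.card F + 1)
    {c : SpecialLinearGroup (Fin 2) F} (hc : c ∈ C) (hns : ¬ IsScalar c.1) : IsEll c.1 := by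
  rcases triangular_or_ell c with h | ⟨o, a, x, h⟩
  · exact h
  exfalso
  have hconj : ((repSL o)⁻¹ * c * repSL o) ^ (Fintype.card F + 1) =
      (repSL o)⁻¹ * c ^ (Fintype.card F + 1) * repSL o := by
    simpa using conj_pow (i := Fintype.card F + 1) (a := (repSL o)⁻¹) (b := c)
  rw [pow_card_eq_one_of_mem hcard hc, mul_one, inv_mul_cancel, h] at hconj
  have ha : a ^ 2 = 1 := by
    have h00 : ∀ n : ℕ, (bS a x ^ n).1 0 0 = (a : F) ^ n := by
      intro n
      induction n with
      | zero => simp
      | succ n ih =>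
        have h10 : (bS a x ^ n).1 1 0 = 0 :=
          (mem_borelSL _).1 (Subgroup.pow_mem _ (bS_mem a x) n)
        rw [pow_succ, Matrix.SpecialLinearGroup.coe_mul, Matrix.mul_apply, Fin.sum_univ_two, ih,
          pow_succ]
        simp [bS_val]
    have h1 := h00 (Fintype.card F + 1)
    rw [hconj] at h1
    simp [pow_succ, FiniteField.pow_card] at h1
    apply Units.ext
    rw [Units.val_pow_eq_pow_val, sq, ← h1, Units.val_one]
  rw [bS_pow_of_sq_one ha, FiniteField.cast_card_eq_zero F |> fun h0 => show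
    ((Fintype.card F + 1 : ℕ) : F) = 1 by rw [Nat.cast_add, h0, Nat.cast_one, zero_add],
    one_mul] at hconj
  have h01 := congrArg (fun g : SpecialLinearGroup (Fin 2) F => g.1 0 1) hconj
  simp [uS_apply, bS_val, Matrix.mul_apply, Fin.sum_univ_two] at h01
  refine hns ?_
  have hc' : c = repSL o * bS a x * (repSL o)⁻¹ := by rw [← h]; group
  have hs : IsScalar (bS a x).1 := by
    refine ⟨by simp [bS_val, h01], by simp [bS_val], ?_⟩
    have hinv : a⁻¹ = a := inv_eq_of_mul_eq_one_right (by rw [← sq, ha])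
    simp [bS_val]
    rw [← Units.val_inv_eq_inv_val, hinv]
  rcases scalar_SL_cases hs with e | e <;> rw [e] at hc'
  · exact isScalar_one_neg (Or.inl (by simpa using hc'))
  · exact isScalar_one_neg (Or.inr (by simpa using hc'))

theorem scalar_of_sq_eq_one (hodd : Odd (Fintype.card F)) {g : SpecialLinearGroup (Fin 2) F}
    (h : g * g = 1) : IsScalar g.1 := by
  have h2 : (2 : F) ≠ 0 := two_ne_zero_of_odd hodd
  have hd := g.2
  rw [det_fin_two] at hd
  have hinv : g⁻¹ = g := inv_eq_of_mul_eq_one_right h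
  have hm := congrArg Subtype.val hinv
  rw [Matrix.SpecialLinearGroup.coe_inv, Matrix.adjugate_fin_two] at hm
  have e01 := congrFun (congrFun hm 0) 1
  have e10 := congrFun (congrFun hm 1) 0
  have e00 := congrFun (congrFun hm 0) 0
  simp at e01 e10 e00
  refine ⟨?_, ?_, e00.symm⟩
  · exact (mul_eq_zero.1 (show (2 : F) * g.1 0 1 = 0 by linear_combination -e01)).resolve_left h2
  · exact (mul_eq_zero.1 (show (2 : F) * g.1 1 0 = 0 by linear_combination -e10)).resolve_left h2

theorem neg_one_mem (hodd : Odd (Fintype.card F)) (hcard : Nat.card C = Fintype.card F + 1) :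
    (-1 : SpecialLinearGroup (Fin 2) F) ∈ C := by
  have : Fact (Nat.Prime 2) := ⟨Nat.prime_two⟩
  obtain ⟨x, hx⟩ := exists_prime_orderOf_dvd_card' (G := C) 2 (by
    rw [hcard]; rw [Nat.odd_iff] at hodd; omega)
  have h2 : x * x = 1 := by
    have h := pow_orderOf_eq_one x
    rwa [hx, sq] at h
  have hs := scalar_of_sq_eq_one hodd (congrArg Subtype.val h2)
  rcases (scalar_iff _).1 hs with e | e
  · exfalso
    rw [Subtype.ext e (a2 := (1 : C)), orderOf_one] at hx
    norm_num at hx
  · exact e ▸ x.2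

theorem exists_not_scalar_mem (hodd : Odd (Fintype.card F))
    (hcard : Nat.card C = Fintype.card F + 1) : ∃ c ∈ C, ¬ IsScalar (c : SpecialLinearGroup (Fin 2) F).1 := by
  classical
  by_contra hc
  push Not at hc
  have h : (Finset.univ.filter fun g => g ∈ C) ⊆ ({1, -1} : Finset (SpecialLinearGroup (Fin 2) F)) := by
    intro g hg
    simpa [scalar_iff] using hc g (Finset.mem_filter.1 hg).2
  have h' := (Finset.card_le_card h).trans Finset.card_le_two
  rw [← Fintype.card_subtype, ← Nat.card_eq_fintype_card] at h'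
  have : 1 < Fintype.card F := Fintype.one_lt_card
  have hcard' : Nat.card {g // g ∈ C} = Fintype.card F + 1 := hcard
  omega

theorem centralizer_le (hodd : Odd (Fintype.card F)) {c : SpecialLinearGroup (Fin 2) F}
    (he : IsEll c.1) :
    Nat.card (Subgroup.centralizer ({c} : Set (SpecialLinearGroup (Fin 2) F))) ≤
      Fintype.card F + 2 := by
  classical
  rw [card_centralizer_SL (not_scalar_of_no_eigen he)]
  set t := c.1.trace with ht
  have hK : ∀ m : F, 1 + m * t + m ^ 2 ≠ 0 := fun m e => by
    apply charpoly_no_root he (-m)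
    rw [c.2, ← ht]
    linear_combination e
  let f : {p : F × F // p.1 ^ 2 + p.1 * p.2 * t + p.2 ^ 2 = 1} → Option F ⊕ Unit := fun p =>
    if p.1 = (1, 0) then Sum.inr () else
      if p.1.1 = 1 then Sum.inl none else Sum.inl (some (p.1.2 / (p.1.1 - 1)))
  have hf : Function.Injective f := by
    rintro ⟨⟨x, y⟩, hp⟩ ⟨⟨x', y'⟩, hp'⟩ e
    apply Subtype.ext
    dsimp only [f] at e
    by_cases h0 : (x, y) = (1, 0) <;> by_cases h0' : (x', y') = (1, 0)
    · exact h0.trans h0'.symm
    · rw [if_pos h0, if_neg h0'] at e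
      split_ifs at e
    · rw [if_neg h0, if_pos h0'] at e
      split_ifs at e
    rw [if_neg h0, if_neg h0'] at e
    by_cases h1 : x = 1 <;> by_cases h1' : x' = 1
    · subst h1 h1'
      have a : y * (t + y) = 0 := by linear_combination hp
      have a' : y' * (t + y') = 0 := by linear_combination hp'
      have b : y ≠ 0 := fun z => h0 (by rw [z])
      have b' : y' ≠ 0 := fun z => h0' (by rw [z])
      have c1 := (mul_eq_zero.1 a).resolve_left b
      have c2 := (mul_eq_zero.1 a').resolve_left b'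
      exact Prod.ext rfl (by linear_combination c1 - c2)
    · rw [if_pos h1, if_neg h1'] at e
      simp at e
    · rw [if_neg h1, if_pos h1'] at e
      simp at e
    · rw [if_neg h1, if_neg h1', Sum.inl.injEq, Option.some.injEq] at e
      have k : ∀ u v : F, u - 1 ≠ 0 → u ^ 2 + u * v * t + v ^ 2 = 1 →
          (u - 1) * (1 + v / (u - 1) * t + (v / (u - 1)) ^ 2) + (2 + v / (u - 1) * t) = 0 := by
        intro u v hu huv
        field_simp
        linear_combination huv
      have a := k x y (sub_ne_zero.2 h1) hp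
      have a' := k x' y' (sub_ne_zero.2 h1') hp'
      rw [← e] at a'
      have hx : x = x' := by
        have : ((x - 1) - (x' - 1)) * (1 + y / (x - 1) * t + (y / (x - 1)) ^ 2) = 0 := by
          linear_combination a - a'
        linear_combination (mul_eq_zero.1 this).resolve_right (hK _)
      subst hx
      exact Prod.ext rfl ((div_left_inj' (sub_ne_zero.2 h1)).1 e)
  refine (Nat.card_le_card_of_injective f hf).trans ?_
  rw [Nat.card_eq_fintype_card, Fintype.card_sum, Fintype.card_option, Fintype.card_unit]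

theorem centralizer_eq (hodd : Odd (Fintype.card F)) [IsMulCommutative C]
    (hcard : Nat.card C = Fintype.card F + 1) {c : SpecialLinearGroup (Fin 2) F} (hc : c ∈ C)
    (hns : ¬ IsScalar c.1) :
    Subgroup.centralizer ({c} : Set (SpecialLinearGroup (Fin 2) F)) = C := by
  have hle : C ≤ Subgroup.centralizer ({c} : Set (SpecialLinearGroup (Fin 2) F)) := fun x hx => by
    rw [Subgroup.mem_centralizer_singleton_iff]
    exact congrArg Subtype.val (mul_comm' (⟨x, hx⟩ : C) ⟨c, hc⟩)
  refine (Subgroup.eq_of_le_of_card_ge hle ?_).symm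
  have h1 := centralizer_le hodd (ell_of_mem hcard hc hns)
  have h2 := Subgroup.card_dvd_of_le hle
  rw [hcard] at h2 ⊢
  obtain ⟨k, hk⟩ := h2
  have hpos : 0 < Nat.card (Subgroup.centralizer ({c} : Set (SpecialLinearGroup (Fin 2) F))) :=
    Nat.card_pos
  have hq : 1 < Fintype.card F := Fintype.one_lt_card
  rcases Nat.lt_or_ge k 2 with h | h
  · have hk1 : k = 1 := by
      rcases Nat.eq_zero_or_pos k with rfl | h0
      · omega
      · omega
    subst hk1
    omega
  · exfalso
    have : (Fintype.card F + 1) * 2 ≤ (Fintype.card F + 1) * k := Nat.mul_le_mul_left _ h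
    omega

theorem eq_or_inv_of_trace (hodd : Odd (Fintype.card F)) [IsMulCommutative C]
    (hcard : Nat.card C = Fintype.card F + 1) {c c' : SpecialLinearGroup (Fin 2) F} (hc : c ∈ C)
    (hc' : c' ∈ C) (hns : ¬ IsScalar c.1) (e : c'.1.trace = c.1.trace) : c' = c ∨ c' = c⁻¹ := by
  have hcomm : c' * c = c * c' := congrArg Subtype.val (mul_comm' (⟨c', hc'⟩ : C) ⟨c, hc⟩)
  obtain ⟨x, y, hxy⟩ := exists_commutant_coeffs hns (congrArg Subtype.val hcomm)
  have h2 : (2 : F) ≠ 0 := two_ne_zero_of_odd hodd
  have htr : c'.1.trace = 2 * x + y * c.1.trace := by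
    rw [hxy]; simp [Matrix.trace_add, Matrix.trace_smul, mul_comm]
  have hdet : x ^ 2 + x * y * c.1.trace + y ^ 2 = 1 := by
    have h := c'.2
    rwa [hxy, det_coeffs, c.2, mul_one] at h
  rw [e] at htr
  have ht := trace_sq_ne_four hodd (ell_of_mem hcard hc hns)
  set t := c.1.trace with ht'
  have : (y - 1) * (y + 1) * (t ^ 2 - 4) = 0 := by
    linear_combination (-4 : F) * hdet + (-(2 * x + y * t + t)) * htr
  rcases mul_eq_zero.1 this with h | h
  · rcases mul_eq_zero.1 h with h | h
    · left
      have hy : y = 1 := by linear_combination h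
      subst hy
      have hx : x = 0 := (mul_eq_zero.1 (show (2 : F) * x = 0 by linear_combination -htr)).resolve_left h2
      apply Subtype.ext
      rw [hxy, hx]
      simp
    · right
      have hy : y = -1 := by linear_combination h
      subst hy
      have hx : x = t := by
        have : (2 : F) * (x - t) = 0 := by linear_combination -htr
        linear_combination (mul_eq_zero.1 this).resolve_left h2
      apply Subtype.ext
      rw [Matrix.SpecialLinearGroup.coe_inv, Matrix.adjugate_fin_two, hxy, hx, ht']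
      ext i j
      fin_cases i <;> fin_cases j <;> simp [Matrix.trace, Fin.sum_univ_two]
  · exact absurd (by linear_combination h : t ^ 2 = 4) ht

theorem not_isSquare_disc (hodd : Odd (Fintype.card F)) {g : SpecialLinearGroup (Fin 2) F}
    (h : IsEll g.1) : ¬ IsSquare (g.1.trace ^ 2 - 4) := by
  rintro ⟨r, hr⟩
  apply charpoly_no_root h ((g.1.trace + r) / 2)
  rw [g.2]
  have := two_ne_zero_of_odd hodd
  field_simp
  linear_combination -hr

/-- Every elliptic element is conjugate into the torus. -/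
theorem exists_conj_mem (hodd : Odd (Fintype.card F)) [IsMulCommutative C]
    (hcard : Nat.card C = Fintype.card F + 1) {g : SpecialLinearGroup (Fin 2) F} (hg : IsEll g.1) :
    ∃ c ∈ C, ¬ IsScalar (c : SpecialLinearGroup (Fin 2) F).1 ∧ IsConj g c := by
  obtain ⟨c₀, hc₀, hns₀⟩ := exists_not_scalar_mem hodd hcard
  have hd := not_isSquare_disc hodd hg
  have hd₀ := not_isSquare_disc hodd (ell_of_mem hcard hc₀ hns₀)
  set D := g.1.trace ^ 2 - 4 with hD
  set D₀ := c₀.1.trace ^ 2 - 4 with hD₀
  have h0 : D₀ ≠ 0 := fun e => hd₀ (by rw [e]; exact IsSquare.zero)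
  obtain ⟨y, hy⟩ := not_isSquare_mul hd (show ¬ IsSquare D₀⁻¹ by rwa [isSquare_inv])
  have hy' : y * y * D₀ = D := by rw [← hy, mul_assoc, inv_mul_cancel₀ h0, mul_one]
  have h2 : (2 : F) ≠ 0 := two_ne_zero_of_odd hodd
  set x := (g.1.trace - y * c₀.1.trace) / 2 with hx
  have hx' : 2 * x + y * c₀.1.trace = g.1.trace := by rw [hx]; field_simp; ring
  let h : SpecialLinearGroup (Fin 2) F :=
    ⟨x • (1 : Matrix (Fin 2) (Fin 2) F) + y • c₀.1, by
      rw [det_coeffs, c₀.2, mul_one]
      have h4 : (4 : F) ≠ 0 := by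
        rw [show (4 : F) = 2 * 2 by norm_num]; exact mul_ne_zero h2 h2
      apply mul_left_cancel₀ h4
      linear_combination (2 * x + y * c₀.1.trace + g.1.trace) * hx' - hy' + hD - (y * y) * hD₀⟩
  have htr : h.1.trace = g.1.trace := by
    rw [← hx']
    simp [h, Matrix.trace_add, Matrix.trace_smul, mul_comm]
  have hmem : h ∈ C := by
    rw [← centralizer_eq hodd hcard hc₀ hns₀, Subgroup.mem_centralizer_singleton_iff]
    refine Subtype.ext ?_
    show (x • (1 : Matrix (Fin 2) (Fin 2) F) + y • c₀.1) * c₀.1 =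
      c₀.1 * (x • (1 : Matrix (Fin 2) (Fin 2) F) + y • c₀.1)
    simp [add_mul, mul_add]
  have ht := trace_sq_ne_four hodd hg
  have hns : ¬ IsScalar h.1 := by
    intro hs
    apply ht
    rw [← htr]
    rcases (scalar_iff h).1 hs with e | e <;> rw [e] <;> norm_num [Matrix.trace]
  exact ⟨h, hmem, hns, isConj_of_trace (not_scalar_of_no_eigen hg) hns htr.symm ht⟩

theorem isConj_inv (hodd : Odd (Fintype.card F)) (hcard : Nat.card C = Fintype.card F + 1)
    {c : SpecialLinearGroup (Fin 2) F} (hc : c ∈ C) (hns : ¬ IsScalar c.1) : IsConj c c⁻¹ := by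
  refine isConj_of_trace hns ?_ ?_ (trace_sq_ne_four hodd (ell_of_mem hcard hc hns))
  · intro hs
    apply hns
    rcases (scalar_iff _).1 hs with e | e
    · exact isScalar_one_neg (Or.inl (inv_eq_one.1 e))
    · refine isScalar_one_neg (Or.inr ?_)
      rw [← inv_inv c, e, inv_eq_iff_mul_eq_one]
      simp
  · rw [Matrix.SpecialLinearGroup.coe_inv, Matrix.adjugate_fin_two]
    simp [Matrix.trace, Fin.sum_univ_two, add_comm]

open scoped Classical in
/-- The sum over the elliptic elements. -/
theorem sum_ell (hodd : Odd (Fintype.card F)) [IsMulCommutative C]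
    (hcard : Nat.card C = Fintype.card F + 1) {f : SpecialLinearGroup (Fin 2) F → ℂ}
    (hf : IsClassFunction (SpecialLinearGroup (Fin 2) F) f) :
    2 * ((Fintype.card F : ℂ) + 1) *
        ∑ g : SpecialLinearGroup (Fin 2) F, (if IsEll g.1 then f g else 0) =
      (Nat.card (SpecialLinearGroup (Fin 2) F) : ℂ) *
        ∑ c : C, (if IsScalar (c : SpecialLinearGroup (Fin 2) F).1 then 0 else f c) := by
  set S : Finset C := Finset.univ.filter fun c => ¬ IsScalar (c : SpecialLinearGroup (Fin 2) F).1
  have hR : ∑ c : C, (if IsScalar (c : SpecialLinearGroup (Fin 2) F).1 then 0 else f c) =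
      ∑ c ∈ S, f c := by
    rw [Finset.sum_filter]
    exact Finset.sum_congr rfl fun c _ => by split_ifs <;> rfl
  rw [hR, Nat.card_eq_fintype_card]
  have e1 : (Fintype.card (SpecialLinearGroup (Fin 2) F) : ℂ) * ∑ c ∈ S, f c =
      ∑ c ∈ S, ∑ x : SpecialLinearGroup (Fin 2) F, f (x * c * x⁻¹) := by
    rw [Finset.mul_sum]
    exact Finset.sum_congr rfl fun c _ => by simp [hf _ _]
  rw [e1, ← Finset.sum_product', Finset.mul_sum,
    ← Finset.sum_fiberwise (S ×ˢ Finset.univ)
      (fun p => p.2 * (p.1 : SpecialLinearGroup (Fin 2) F) * p.2⁻¹)]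
  refine Finset.sum_congr rfl fun g _ => ?_
  rw [Finset.sum_congr rfl (g := fun _ => f g) fun p hp => by rw [(Finset.mem_filter.1 hp).2],
    Finset.sum_const, nsmul_eq_mul]
  by_cases hg : IsEll g.1
  · rw [if_pos hg]
    congr 1
    obtain ⟨c, hc, hns, hconj⟩ := exists_conj_mem hodd hcard hg
    obtain ⟨s, hs⟩ := isConj_iff.1 hconj.symm
    obtain ⟨r, hr⟩ := isConj_iff.1 (isConj_inv hodd hcard hc hns)
    have hne : c ≠ c⁻¹ := fun e => hns (scalar_of_sq_eq_one hodd (mul_eq_one_iff_eq_inv.2 e))
    have hns' : ¬ IsScalar (c⁻¹).1 := fun h => hns (by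
      rw [← isConj_SL_scalar (isConj_inv hodd hcard hc hns).symm h] at h; exact h)
    let p : Fin 2 → C := ![⟨c, hc⟩, ⟨c⁻¹, C.inv_mem hc⟩]
    let b : Fin 2 → SpecialLinearGroup (Fin 2) F := ![s, s * r⁻¹]
    let Φ : Fin 2 × C → C × SpecialLinearGroup (Fin 2) F := fun i => (p i.1, b i.1 * i.2)
    have hb : ∀ i, b i * (p i : SpecialLinearGroup (Fin 2) F) * (b i)⁻¹ = g := by
      intro i
      fin_cases i
      · simpa [b, p] using hs
      · simp [b, p]
        rw [← hr, ← hs]
        group
    have hcen : ∀ i (k : C), (k : SpecialLinearGroup (Fin 2) F) * (p i : SpecialLinearGroup (Fin 2) F) *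
        (k : SpecialLinearGroup (Fin 2) F)⁻¹ = p i := by
      intro i k
      rw [mul_inv_eq_iff_eq_mul]
      exact congrArg Subtype.val (mul_comm' k (p i))
    have himg : (Finset.univ.image Φ) = (S ×ˢ Finset.univ).filter
        (fun q => q.2 * (q.1 : SpecialLinearGroup (Fin 2) F) * q.2⁻¹ = g) := by
      ext ⟨d, x⟩
      simp only [Finset.mem_image, Finset.mem_univ, true_and, Finset.mem_filter, Finset.mem_product,
        and_true, S, Φ, Prod.mk.injEq]
      constructor
      · rintro ⟨⟨i, k⟩, rfl, rfl⟩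
        refine ⟨by fin_cases i <;> assumption, ?_⟩
        calc _ = b i * ((k : SpecialLinearGroup (Fin 2) F) * (p i : SpecialLinearGroup (Fin 2) F) *
              (k : SpecialLinearGroup (Fin 2) F)⁻¹) * (b i)⁻¹ := by group
          _ = g := by rw [hcen, hb]
      · rintro ⟨hdns, hd⟩
        have htr : (d : SpecialLinearGroup (Fin 2) F).1.trace = c.1.trace :=
          (trace_eq_of_isConj (isConj_iff.2 ⟨x, hd⟩)).trans (trace_eq_of_isConj hconj)
        obtain ⟨i, hi⟩ : ∃ i, p i = d := by
          rcases eq_or_inv_of_trace hodd hcard hc d.2 hns htr with e | e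
          · exact ⟨0, Subtype.ext e.symm⟩
          · exact ⟨1, Subtype.ext e.symm⟩
        have hins : ¬ IsScalar (p i : SpecialLinearGroup (Fin 2) F).1 := hi ▸ hdns
        have hk : (b i)⁻¹ * x ∈ C := by
          rw [← centralizer_eq hodd hcard (p i).2 hins, Subgroup.mem_centralizer_singleton_iff]
          rw [← hi] at hd
          have e := (hb i).trans hd.symm
          calc (b i)⁻¹ * x * p i = (b i)⁻¹ * (x * p i * x⁻¹) * x := by group
            _ = (b i)⁻¹ * (b i * p i * (b i)⁻¹) * x := by rw [e]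
            _ = p i * ((b i)⁻¹ * x) := by group
        exact ⟨(i, ⟨_, hk⟩), hi, by simp⟩
    have hinj : Function.Injective Φ := by
      rintro ⟨i, k⟩ ⟨j, l⟩ e
      have e1 := congrArg (fun q : C × SpecialLinearGroup (Fin 2) F =>
        (q.1 : SpecialLinearGroup (Fin 2) F)) e
      have e2 := congrArg Prod.snd e
      obtain rfl : i = j := by
        fin_cases i <;> fin_cases j <;> simp [Φ, p] at e1 ⊢
        · exact hne e1
        · exact hne e1.symm
      exact Prod.ext rfl (Subtype.ext (mul_left_cancel e2))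
    rw [← himg, Finset.card_image_of_injective _ hinj, Finset.card_univ, Fintype.card_prod,
      Fintype.card_fin, ← Nat.card_eq_fintype_card (α := C), hcard]
    push_cast; ring
  · rw [if_neg hg, mul_zero, eq_comm, mul_eq_zero]
    left
    rw [Nat.cast_eq_zero, Finset.card_eq_zero, Finset.filter_eq_empty_iff]
    rintro ⟨d, x⟩ hd e
    exact hg (e ▸ ell_conj (ell_of_mem hcard d.2
      (Finset.mem_filter.1 (Finset.mem_product.1 hd).1).2) x)

open scoped Classical in
/-- The sum formula for class functions vanishing on the split elements. -/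
theorem sum_formula (hodd : Odd (Fintype.card F)) [IsMulCommutative C]
    (hcard : Nat.card C = Fintype.card F + 1) {f : SpecialLinearGroup (Fin 2) F → ℂ}
    (hf : IsClassFunction (SpecialLinearGroup (Fin 2) F) f)
    (hsplit : ∀ (a : Fˣ) (c : F), (a : F) ^ 2 ≠ 1 → f (bS a c) = 0) :
    2 * ∑ g : SpecialLinearGroup (Fin 2) F, f g =
      2 * ((Fintype.card F : ℂ) + 1) * (jS f 1 + jS f (-1)) -
        2 * (Fintype.card F : ℂ) * (f 1 + f (-1)) +
        (Fintype.card F : ℂ) * ((Fintype.card F : ℂ) - 1) *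
          ∑ c : C, (if IsScalar (c : SpecialLinearGroup (Fin 2) F).1 then 0 else f c) := by
  have hq1 : 1 ≤ Fintype.card F := Fintype.card_pos
  have hcardG : (Nat.card (SpecialLinearGroup (Fin 2) F) : ℂ) =
      ((Fintype.card F : ℂ) + 1) * ((Fintype.card F : ℂ) * ((Fintype.card F : ℂ) - 1)) := by
    rw [Linear.card_SL_two, Nat.cast_mul, Nat.cast_sub (Nat.one_le_pow _ _ hq1)]
    push_cast; ring
  have hne : ((Fintype.card F : ℂ) + 1) ≠ 0 := by
    exact_mod_cast Nat.succ_ne_zero (Fintype.card F)
  have hell : 2 * ∑ g : SpecialLinearGroup (Fin 2) F, (if IsEll g.1 then f g else 0) =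
      (Fintype.card F : ℂ) * ((Fintype.card F : ℂ) - 1) *
        ∑ c : C, (if IsScalar (c : SpecialLinearGroup (Fin 2) F).1 then 0 else f c) := by
    have h := sum_ell hodd hcard hf
    rw [hcardG] at h
    apply mul_left_cancel₀ hne
    linear_combination h
  have hR : ∑ g : SpecialLinearGroup (Fin 2) F, f g * RS (1 : MulChar F ℂ) g =
      ((Fintype.card F : ℂ) + 1) * (jS f 1 + jS f (-1)) := by
    have hj : ∀ a : Fˣ, a ∉ ({1, -1} : Finset Fˣ) → jS f a = 0 := by
      intro a ha
      refine Finset.sum_eq_zero fun c _ => hsplit a c fun e => ?_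
      rw [sq, mul_self_eq_one_iff] at e
      apply ha
      rcases e with e | e
      · simp [show a = 1 from Units.ext e]
      · simp [show a = -1 from Units.ext e]
    have h := inner_RS hf (1 : MulChar F ℂ)
    rw [classInner_def, ← Finset.sum_subset (Finset.subset_univ ({1, -1} : Finset Fˣ))
      (fun a _ ha => by rw [hj a ha, zero_mul]), Finset.sum_pair ?_] at h
    · have hreal : ∀ g : SpecialLinearGroup (Fin 2) F,
          conj (RS (1 : MulChar F ℂ) g) = RS (1 : MulChar F ℂ) g := by
        intro g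
        rw [RS_eq, Rval, map_sum]
        refine Finset.sum_congr rfl fun o _ => ?_
        split_ifs
        · rw [conj_mulChar, inv_one]
        · exact map_zero _
      simp only [hreal, MulChar.one_apply_coe, map_one, mul_one, hcardG] at h
      rw [Nat.cast_sub hq1, Nat.cast_one] at h
      have hqq : (Fintype.card F : ℂ) * ((Fintype.card F : ℂ) - 1) ≠ 0 :=
        mul_ne_zero (Nat.cast_ne_zero.2 Fintype.card_ne_zero) two_sub_one_ne_zero
      rw [mul_inv, mul_assoc, inv_mul_eq_iff_eq_mul₀ hne] at h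
      apply mul_left_cancel₀ (inv_ne_zero hqq)
      linear_combination h
    · intro e
      exact two_ne_zero_of_odd hodd (by
        have := congrArg Units.val e
        simp at this
        linear_combination this)
  have hpt : ∀ g : SpecialLinearGroup (Fin 2) F,
      f g = f g * RS (1 : MulChar F ℂ) g -
        (if IsScalar g.1 then (Fintype.card F : ℂ) * f g else 0) +
        (if IsEll g.1 then f g else 0) := by
    intro g
    by_cases he : IsEll g.1
    · rw [if_pos he, if_neg (not_scalar_of_no_eigen he), RS_elliptic _ he]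
      ring
    rw [if_neg he, add_zero]
    by_cases hs : IsScalar g.1
    · have hd := diag_ne_zero (g.2.trans_ne one_ne_zero) hs.2.1
      rw [if_pos hs, RS_eq, Rval_scalar _ hs.1 hs.2.1 hs.2.2, MulChar.one_apply hd.1.isUnit]
      ring
    rw [if_neg hs, sub_zero]
    obtain ⟨o, a, c, h⟩ := (triangular_or_ell g).resolve_left he
    have hfg : f (bS a c) = f g := by rw [← h]; exact class_conj hf _ g
    have hRg : RS (1 : MulChar F ℂ) (bS a c) = RS (1 : MulChar F ℂ) g := by
      rw [← h]
      exact class_conj (isClassFunction_of_isCharacter (isCharacter_RS _)) _ g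
    by_cases ha : (a : F) ^ 2 = 1
    · have hainv : ((a⁻¹ : Fˣ) : F) = (a : F) := by
        rw [Units.val_inv_eq_inv_val]
        exact inv_eq_of_mul_eq_one_right (by rw [← sq, ha])
      have hc0 : c ≠ 0 := by
        intro hc0
        apply hs
        have hsc : IsScalar ((repSL o)⁻¹ * g * repSL o).1 := by
          rw [h, bS_val, hainv]
          simp [IsScalar, hc0]
        have := isConj_SL_scalar (g := (repSL o)⁻¹ * g * repSL o) (h := g)
          (isConj_iff.2 ⟨repSL o, by group⟩) hsc
        rw [this]; exact hsc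
      rw [← hRg, RS_eq, Rval_unip _ (by simp [bS_val]) (by rw [bS_val, hainv]; simp)
        (by simpa [bS_val] using hc0), MulChar.one_apply (by simp [bS_val]), mul_one]
    · rw [← hfg, hsplit a c ha, zero_mul]
  have hsc : ∑ g : SpecialLinearGroup (Fin 2) F,
      (if IsScalar g.1 then (Fintype.card F : ℂ) * f g else 0) =
      (Fintype.card F : ℂ) * (f 1 + f (-1)) := by
    rw [← Finset.sum_filter, show (Finset.univ.filter fun g : SpecialLinearGroup (Fin 2) F =>
      IsScalar g.1) = {1, -1} from ?_, Finset.sum_pair (neg_one_ne_one hodd).symm, mul_add]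
    ext g
    simp [scalar_iff]
  conv_lhs => rw [Finset.sum_congr rfl fun g _ => hpt g, Finset.sum_add_distrib,
    Finset.sum_sub_distrib, hR, hsc, mul_add, hell]
  ring

end Cfsg.Agent.KnownA.GL2
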