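import Mathlib
import Cfsg.Agent.KnownA.GL2.SLTorus
import Cfsg.Agent.Linear.Torus

/-! # Normalisers of the tori of `SL₂` -/

set_option autoImplicit false
set_option linter.unusedSectionVars false

namespace Cfsg.Agent.KnownA.GL2

open Matrix
open scoped MatrixGroups

variable {F : Type*} [Field F] [Fintype F] [DecidableEq F]

/-- An inverted torus. -/
structure IsTor (T : Subgroup (SpecialLinearGroup (Fin 2) F)) : Prop where
  cyc : IsCyclic T
  neg : (-1 : SpecialLinearGroup (Fin 2) F) ∈ T
  cent : ∀ c ∈ T, ¬ IsScalar (c : SpecialLinearGroup (Fin 2) F).1 →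
    Subgroup.centralizer ({c} : Set (SpecialLinearGroup (Fin 2) F)) = T
  ofTrace : ∀ c ∈ T, ∀ c' ∈ T, ¬ IsScalar (c : SpecialLinearGroup (Fin 2) F).1 →
    (c' : SpecialLinearGroup (Fin 2) F).1.trace = (c : SpecialLinearGroup (Fin 2) F).1.trace →
    c' = c ∨ c' = c⁻¹
  tr : ∀ c ∈ T, ¬ IsScalar (c : SpecialLinearGroup (Fin 2) F).1 →
    (c : SpecialLinearGroup (Fin 2) F).1.trace ^ 2 ≠ 4

theorem isTor_nonsplit (hodd : Odd (Fintype.card F)) {C : Subgroup (SpecialLinearGroup (Fin 2) F)}
    (hC : IsCyclic C) (hcard : Nat.card C = Fintype.card F + 1) : IsTor C := by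
  letI : CommGroup C := hC.commGroup
  haveI : IsMulCommutative C := ⟨⟨mul_comm⟩⟩
  exact ⟨hC, neg_one_mem hodd hcard, fun c hc h => centralizer_eq hodd hcard hc h,
    fun c hc c' hc' h e => eq_or_inv_of_trace hodd hcard hc hc' h e,
    fun c hc h => trace_sq_ne_four hodd (ell_of_mem hcard hc h)⟩

theorem mem_splitTorus (g : SpecialLinearGroup (Fin 2) F) :
    g ∈ (Linear.splitTorus (F := F)).range ↔ g.1 0 1 = 0 ∧ g.1 1 0 = 0 := by
  constructor
  · rintro ⟨a, rfl⟩
    exact ⟨rfl, rfl⟩
  · rintro ⟨h01, h10⟩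
    obtain ⟨a, ha, -⟩ := exists_eq_bS h10
    refine ⟨a, ?_⟩
    rw [ha, h01]
    rfl

theorem trace_sq_of_diag {g : SpecialLinearGroup (Fin 2) F} (h01 : g.1 0 1 = 0) (h10 : g.1 1 0 = 0)
    (h : ¬ IsScalar g.1) : g.1.trace ^ 2 ≠ 4 := by
  intro e
  have hd := g.2
  rw [det_fin_two, h01, zero_mul, sub_zero] at hd
  refine h ⟨h01, h10, ?_⟩
  have : (g.1 0 0 - g.1 1 1) ^ 2 = 0 := by
    simp [Matrix.trace, Fin.sum_univ_two] at e
    linear_combination e - 4 * hd
  exact sub_eq_zero.1 (pow_eq_zero_iff two_ne_zero |>.1 this)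

theorem isTor_split : IsTor (Linear.splitTorus (F := F)).range := by
  refine ⟨isCyclic_of_surjective _ (Linear.splitTorus (F := F)).rangeRestrict_surjective,
    (mem_splitTorus _).2 (by simp), fun c hc h => ?_, fun c hc c' hc' h e => ?_,
    fun c hc h => trace_sq_of_diag ((mem_splitTorus c).1 hc).1 ((mem_splitTorus c).1 hc).2 h⟩
  · obtain ⟨h01, h10⟩ := (mem_splitTorus c).1 hc
    have hne : c.1 0 0 - c.1 1 1 ≠ 0 := sub_ne_zero.2 fun e => h ⟨h01, h10, e⟩
    ext g
    rw [Subgroup.mem_centralizer_singleton_iff, mem_splitTorus]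
    constructor
    · intro e
      have e' : g.1 * c.1 = c.1 * g.1 := congrArg Subtype.val e
      have a := congrFun (congrFun e' 0) 1
      have b := congrFun (congrFun e' 1) 0
      simp [Matrix.mul_apply, Fin.sum_univ_two, h01, h10] at a b
      exact ⟨(mul_eq_zero.1 (show (c.1 0 0 - c.1 1 1) * g.1 0 1 = 0 by linear_combination -a)).resolve_left hne,
        (mul_eq_zero.1 (show (c.1 0 0 - c.1 1 1) * g.1 1 0 = 0 by linear_combination b)).resolve_left hne⟩
    · rintro ⟨a, b⟩
      apply Subtype.ext
      show g.1 * c.1 = c.1 * g.1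
      ext i j
      fin_cases i <;> fin_cases j <;> simp [Matrix.mul_apply, Fin.sum_univ_two, h01, h10, a, b, mul_comm]
  · obtain ⟨h01, h10⟩ := (mem_splitTorus c).1 hc
    obtain ⟨k01, k10⟩ := (mem_splitTorus c').1 hc'
    have hd := c.2
    have hd' := c'.2
    rw [det_fin_two, h01, zero_mul, sub_zero] at hd
    rw [det_fin_two, k01, zero_mul, sub_zero] at hd'
    simp [Matrix.trace, Fin.sum_univ_two] at e
    have : (c'.1 0 0 - c.1 0 0) * (c'.1 0 0 - c.1 1 1) = 0 := by
      linear_combination hd - hd' + c'.1 0 0 * e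
    rcases mul_eq_zero.1 this with e1 | e1 <;> rw [sub_eq_zero] at e1
    · left
      apply Subtype.ext
      ext i j
      fin_cases i <;> fin_cases j <;> simp [h01, h10, k01, k10, e1]
      linear_combination e - e1
    · right
      apply Subtype.ext
      rw [Matrix.SpecialLinearGroup.coe_inv, Matrix.adjugate_fin_two]
      ext i j
      fin_cases i <;> fin_cases j <;> simp [h01, h10, k01, k10, e1]
      linear_combination e - e1

theorem card_splitTorus : Nat.card (Linear.splitTorus (F := F)).range = Fintype.card F - 1 := by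
  rw [← Nat.card_congr (MonoidHom.ofInjective Linear.splitTorus_injective).toEquiv, Nat.card_units,
    Nat.card_eq_fintype_card]

theorem isScalar_inv {c : SpecialLinearGroup (Fin 2) F} (h : IsScalar (c⁻¹).1) : IsScalar c.1 := by
  rcases scalar_SL_cases h with e | e
  · rw [inv_eq_one.1 e]
    exact isScalar_one_neg (Or.inl rfl)
  · refine isScalar_one_neg (Or.inr ?_)
    rw [← inv_inv c, e, inv_eq_iff_mul_eq_one]
    simp

namespace IsTor

variable {T : Subgroup (SpecialLinearGroup (Fin 2) F)} (hT : IsTor T)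

include hT

theorem comm {x y : SpecialLinearGroup (Fin 2) F} (hx : x ∈ T) (hy : y ∈ T) : x * y = y * x := by
  letI : CommGroup T := hT.cyc.commGroup
  exact congrArg Subtype.val (mul_comm (⟨x, hx⟩ : T) ⟨y, hy⟩)

theorem cent_set (h4 : ∃ d ∈ T, ¬ IsScalar (d : SpecialLinearGroup (Fin 2) F).1) :
    Subgroup.centralizer (T : Set (SpecialLinearGroup (Fin 2) F)) = T := by
  obtain ⟨d, hd, hns⟩ := h4
  refine le_antisymm ?_ fun x hx => ?_
  · conv_rhs => rw [← hT.cent d hd hns]
    exact Subgroup.centralizer_le (Set.singleton_subset_iff.2 hd)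
  · exact Subgroup.mem_centralizer_iff.2 fun y hy => hT.comm hy hx

theorem exists_inverter {d : SpecialLinearGroup (Fin 2) F} (hd : d ∈ T) (hns : ¬ IsScalar d.1) :
    ∃ w, w * d * w⁻¹ = d⁻¹ ∧ w ∈ Subgroup.normalizer (T : Set (SpecialLinearGroup (Fin 2) F)) := by
  obtain ⟨w, hw⟩ := isConj_iff.1 (isConj_of_trace hns (fun h => hns (isScalar_inv h))
    (by rw [Matrix.SpecialLinearGroup.coe_inv, Matrix.adjugate_fin_two]
        simp [Matrix.trace, Fin.sum_univ_two, add_comm]) (hT.tr d hd hns))
  refine ⟨w, hw, ?_⟩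
  rw [Subgroup.mem_normalizer_iff]
  intro x
  have e1 : x ∈ T ↔ x * d = d * x := by
    conv_lhs => rw [← hT.cent d hd hns]
    exact Subgroup.mem_centralizer_singleton_iff
  have e2 : w * x * w⁻¹ ∈ T ↔ w * x * w⁻¹ * d⁻¹ = d⁻¹ * (w * x * w⁻¹) := by
    conv_lhs => rw [← hT.cent d⁻¹ (T.inv_mem hd) (fun h => hns (isScalar_inv h))]
    exact Subgroup.mem_centralizer_singleton_iff
  show x ∈ T ↔ w * x * w⁻¹ ∈ T
  rw [e1, e2, ← hw]
  constructor
  · intro e
    calc w * x * w⁻¹ * (w * d * w⁻¹) = w * (x * d) * w⁻¹ := by group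
      _ = w * (d * x) * w⁻¹ := by rw [e]
      _ = w * d * w⁻¹ * (w * x * w⁻¹) := by group
  · intro e
    have : w * (x * d) * w⁻¹ = w * (d * x) * w⁻¹ := by
      calc w * (x * d) * w⁻¹ = w * x * w⁻¹ * (w * d * w⁻¹) := by group
        _ = w * d * w⁻¹ * (w * x * w⁻¹) := e
        _ = w * (d * x) * w⁻¹ := by group
    exact mul_left_cancel (mul_right_cancel this)

/-- An element of the normaliser outside the torus inverts it. -/
theorem inverts {g : SpecialLinearGroup (Fin 2) F}
    (hg : g ∈ Subgroup.normalizer (T : Set (SpecialLinearGroup (Fin 2) F))) (hgT : g ∉ T)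
    {t : SpecialLinearGroup (Fin 2) F} (ht : t ∈ T) : g * t * g⁻¹ = t⁻¹ := by
  by_cases hs : IsScalar t.1
  · rcases scalar_SL_cases hs with rfl | rfl
    · simp
    · rw [show g * -1 = -1 * g by simp, mul_inv_cancel_right]
      rw [eq_inv_iff_mul_eq_one]
      simp
  · have hmem : g * t * g⁻¹ ∈ T := (Subgroup.mem_normalizer_iff.1 hg t).1 ht
    have htr : (g * t * g⁻¹).1.trace = t.1.trace :=
      (trace_eq_of_isConj (isConj_iff.2 ⟨g, rfl⟩)).symm
    rcases hT.ofTrace t ht _ hmem hs htr with e | e
    · exfalso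
      apply hgT
      rw [← hT.cent t ht hs, Subgroup.mem_centralizer_singleton_iff]
      exact mul_inv_eq_iff_eq_mul.1 e
    · exact e

theorem card_normalizer (hodd : Odd (Fintype.card F)) (h4 : ∃ d ∈ T, ¬ IsScalar (d : SpecialLinearGroup (Fin 2) F).1) :
    Nat.card (Subgroup.normalizer (T : Set (SpecialLinearGroup (Fin 2) F))) = 2 * Nat.card T := by
  obtain ⟨d, hd, hns⟩ := h4
  obtain ⟨w, hw, hwN⟩ := hT.exists_inverter hd hns
  have hwd : w ∉ T := by
    intro h
    rw [mul_inv_eq_iff_eq_mul.2 (hT.comm h hd)] at hw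
    exact hns (scalar_of_sq_eq_one hodd (eq_inv_iff_mul_eq_one.1 hw))
  let f : T ⊕ T → Subgroup.normalizer (T : Set (SpecialLinearGroup (Fin 2) F)) := Sum.elim
    (fun t => ⟨t, Subgroup.le_normalizer t.2⟩)
    (fun t => ⟨w * t, Subgroup.mul_mem _ hwN (Subgroup.le_normalizer t.2)⟩)
  have hf : Function.Bijective f := by
    constructor
    · rintro (a | a) (b | b) e <;> have e' := congrArg Subtype.val e <;> simp [f] at e'
      · rw [e']
      · exact absurd (show w ∈ T by
          rw [eq_mul_inv_of_mul_eq e'.symm]; exact T.mul_mem a.2 (T.inv_mem b.2)) hwd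
      · exact absurd (show w ∈ T by
          rw [eq_mul_inv_of_mul_eq e']; exact T.mul_mem b.2 (T.inv_mem a.2)) hwd
      · rw [e']
    · rintro ⟨g, hg⟩
      by_cases hgT : g ∈ T
      · exact ⟨Sum.inl ⟨g, hgT⟩, rfl⟩
      · have hi := hT.inverts hg hgT hd
        have hk : w⁻¹ * g ∈ T := by
          rw [← hT.cent d hd hns, Subgroup.mem_centralizer_singleton_iff]
          calc w⁻¹ * g * d = w⁻¹ * (g * d * g⁻¹) * g := by group
            _ = w⁻¹ * (w * d * w⁻¹) * g := by rw [hi, hw]
            _ = d * (w⁻¹ * g) := by group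
        refine ⟨Sum.inr ⟨w⁻¹ * g, hk⟩, Subtype.ext ?_⟩
        show w * (w⁻¹ * g) = g
        rw [mul_inv_cancel_left]
  rw [← Nat.card_congr (Equiv.ofBijective f hf), Nat.card_sum, two_mul]

theorem sq_eq_neg_one (hodd : Odd (Fintype.card F)) {g : SpecialLinearGroup (Fin 2) F}
    (h4 : ∃ d ∈ T, ¬ IsScalar (d : SpecialLinearGroup (Fin 2) F).1)
    (hg : g ∈ Subgroup.normalizer (T : Set (SpecialLinearGroup (Fin 2) F))) (hgT : g ∉ T) :
    g * g = -1 := by
  obtain ⟨d, hd, hns⟩ := h4
  have hi := hT.inverts hg hgT hd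
  have h2 : g * g ∈ T := by
    rw [← hT.cent d hd hns, Subgroup.mem_centralizer_singleton_iff]
    have e : g * g * d * (g * g)⁻¹ = d := by
      calc g * g * d * (g * g)⁻¹ = g * (g * d * g⁻¹) * g⁻¹ := by group
        _ = g * d⁻¹ * g⁻¹ := by rw [hi]
        _ = (g * d * g⁻¹)⁻¹ := by group
        _ = d := by rw [hi, inv_inv]
    exact mul_inv_eq_iff_eq_mul.1 e
  have h3 := hT.inverts hg hgT h2
  rw [show g * (g * g) * g⁻¹ = g * g by group, eq_inv_iff_mul_eq_one] at h3
  rcases scalar_SL_cases (scalar_of_sq_eq_one hodd h3) with e | e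
  · exfalso
    apply hgT
    rcases scalar_SL_cases (scalar_of_sq_eq_one hodd e) with e' | e' <;> rw [e']
    · exact T.one_mem
    · exact hT.neg
  · exact e

theorem card_classes (hodd : Odd (Fintype.card F))
    (h4 : ∃ d ∈ T, ¬ IsScalar (d : SpecialLinearGroup (Fin 2) F).1) :
    2 * Nat.card (ConjClasses (Subgroup.normalizer (T : Set (SpecialLinearGroup (Fin 2) F)))) =
      Nat.card T + 6 := by
  classical
  set N := Subgroup.normalizer (T : Set (SpecialLinearGroup (Fin 2) F))
  have hN := hT.card_normalizer hodd h4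
  have hcomm := card_comm_eq_card_conjClasses_mul_card N
  have hpair : Nat.card {p : N × N // Commute p.1 p.2} =
      ∑ a : N, Nat.card {b : N // Commute a b} := by
    rw [← Nat.card_sigma]
    exact Nat.card_congr
      { toFun := fun p => ⟨p.1.1, p.1.2, p.2⟩
        invFun := fun x => ⟨(x.1, x.2.1), x.2.2⟩
        left_inv := fun _ => rfl
        right_inv := fun _ => rfl }
  have hval : ∀ a : N, Nat.card {b : N // Commute a b} =
      if (a : SpecialLinearGroup (Fin 2) F) ∈ T then
        (if IsScalar (a : SpecialLinearGroup (Fin 2) F).1 then Nat.card N else Nat.card T)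
      else 4 := by
    intro a
    have hco : ∀ b : N, Commute a b ↔
        (a : SpecialLinearGroup (Fin 2) F) * b = b * a := fun b =>
      ⟨fun h => congrArg Subtype.val h.eq, fun h => Subtype.ext h⟩
    by_cases haT : (a : SpecialLinearGroup (Fin 2) F) ∈ T
    · rw [if_pos haT]
      by_cases hs : IsScalar (a : SpecialLinearGroup (Fin 2) F).1
      · rw [if_pos hs]
        refine Nat.card_congr (Equiv.subtypeUnivEquiv fun b => (hco b).2 ?_)
        rcases scalar_SL_cases hs with e | e <;> rw [e] <;> simp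
      · rw [if_neg hs]
        refine Nat.card_congr
          { toFun := fun b => ⟨(b.1 : SpecialLinearGroup (Fin 2) F), by
              rw [← hT.cent _ haT hs, Subgroup.mem_centralizer_singleton_iff]
              exact ((hco b.1).1 b.2).symm⟩
            invFun := fun t => ⟨⟨t, Subgroup.le_normalizer t.2⟩, (hco _).2 (hT.comm haT t.2)⟩
            left_inv := fun _ => rfl
            right_inv := fun _ => rfl }
    · rw [if_neg haT]
      have ha2 := hT.sq_eq_neg_one hodd h4 a.2 haT
      have hscal : ∀ t ∈ T, (a : SpecialLinearGroup (Fin 2) F) * t = t * a → t = 1 ∨ t = -1 := by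
        intro t ht e
        have h := hT.inverts a.2 haT ht
        rw [mul_inv_eq_iff_eq_mul.2 e, eq_inv_iff_mul_eq_one] at h
        exact scalar_SL_cases (scalar_of_sq_eq_one hodd h)
      let one' : N := 1
      let neg' : N := ⟨-1, Subgroup.le_normalizer hT.neg⟩
      have hneg : ∀ x : SpecialLinearGroup (Fin 2) F, -1 * x = x * -1 := fun x => by simp
      have hset : (Finset.univ.filter fun b : N => Commute a b) = {one', neg', a, neg' * a} := by
        ext b
        simp only [Finset.mem_filter, Finset.mem_univ, true_and, Finset.mem_insert,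
          Finset.mem_singleton, hco]
        constructor
        · intro e
          by_cases hbT : (b : SpecialLinearGroup (Fin 2) F) ∈ T
          · rcases hscal _ hbT e with h | h
            · exact Or.inl (Subtype.ext h)
            · exact Or.inr (Or.inl (Subtype.ext h))
          · obtain ⟨d, hd, hns⟩ := h4
            have hk : (b : SpecialLinearGroup (Fin 2) F) * (a : SpecialLinearGroup (Fin 2) F)⁻¹ ∈ T := by
              rw [← hT.cent d hd hns, Subgroup.mem_centralizer_singleton_iff]
              have ia := hT.inverts a.2 haT (T.inv_mem hd)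
              rw [inv_inv] at ia
              have ib := hT.inverts b.2 hbT (T.inv_mem hd)
              rw [inv_inv] at ib
              calc (b : SpecialLinearGroup (Fin 2) F) * (a : SpecialLinearGroup (Fin 2) F)⁻¹ * d
                  = b * (a : SpecialLinearGroup (Fin 2) F)⁻¹ * (a * d⁻¹ * (a : SpecialLinearGroup (Fin 2) F)⁻¹) := by
                    rw [ia]
                _ = b * d⁻¹ * (b : SpecialLinearGroup (Fin 2) F)⁻¹ *
                    (b * (a : SpecialLinearGroup (Fin 2) F)⁻¹) := by group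
                _ = d * (b * (a : SpecialLinearGroup (Fin 2) F)⁻¹) := by rw [ib]
            have hcomm' : (a : SpecialLinearGroup (Fin 2) F) *
                ((b : SpecialLinearGroup (Fin 2) F) * (a : SpecialLinearGroup (Fin 2) F)⁻¹) =
                (b : SpecialLinearGroup (Fin 2) F) * (a : SpecialLinearGroup (Fin 2) F)⁻¹ * a := by
              rw [← mul_assoc, e, mul_inv_cancel_right, inv_mul_cancel_right]
            rcases hscal _ hk hcomm' with h | h
            · exact Or.inr (Or.inr (Or.inl (Subtype.ext (mul_inv_eq_one.1 h))))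
            · exact Or.inr (Or.inr (Or.inr (Subtype.ext (mul_inv_eq_iff_eq_mul.1 h))))
        · rintro (rfl | rfl | rfl | rfl)
          · simp [one']
          · exact (hneg _).symm
          · rfl
          · show (a : SpecialLinearGroup (Fin 2) F) * (-1 * a) = -1 * a * a
            rw [← mul_assoc, ← hneg]
      rw [Nat.card_eq_fintype_card, Fintype.card_subtype, hset]
      have d12 : one' ≠ neg' := fun e => neg_one_ne_one hodd (congrArg Subtype.val e).symm
      have da : ∀ x : N, (x : SpecialLinearGroup (Fin 2) F) ∈ T → x ≠ a := fun x hx e => haT (e ▸ hx)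
      have dna : ∀ x : N, (x : SpecialLinearGroup (Fin 2) F) ∈ T → x ≠ neg' * a := fun x hx e => by
        apply haT
        have e' : (x : SpecialLinearGroup (Fin 2) F) = -1 * a := congrArg Subtype.val e
        rw [show (a : SpecialLinearGroup (Fin 2) F) = (-1)⁻¹ * x by rw [e', inv_mul_cancel_left]]
        exact T.mul_mem (T.inv_mem hT.neg) hx
      have d34 : a ≠ neg' * a := fun e => d12 (by
        have := mul_right_cancel ((one_mul a).trans e)
        exact this)
      rw [Finset.card_insert_of_notMem, Finset.card_insert_of_notMem, Finset.card_pair d34]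
      · simp [da neg' hT.neg, dna neg' hT.neg]
      · simp [d12, da one' T.one_mem, dna one' T.one_mem]
  rw [hpair, Finset.sum_congr rfl fun a _ => hval a] at hcomm
  have hscN : (Finset.univ.filter fun a : N => IsScalar (a : SpecialLinearGroup (Fin 2) F).1).card = 2 := by
    rw [Finset.card_eq_two]
    refine ⟨1, ⟨-1, Subgroup.le_normalizer hT.neg⟩,
      fun e => neg_one_ne_one hodd (congrArg Subtype.val e).symm, ?_⟩
    ext a
    simp only [Finset.mem_filter, Finset.mem_univ, true_and, scalar_iff, Finset.mem_insert,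
      Finset.mem_singleton, Subtype.ext_iff, OneMemClass.coe_one]
  have hTN : (Finset.univ.filter fun a : N => (a : SpecialLinearGroup (Fin 2) F) ∈ T).card = Nat.card T := by
    rw [← Fintype.card_subtype, ← Nat.card_eq_fintype_card]
    exact Nat.card_congr
      { toFun := fun x => ⟨x.1, x.2⟩
        invFun := fun t => ⟨⟨t, Subgroup.le_normalizer t.2⟩, t.2⟩
        left_inv := fun _ => rfl
        right_inv := fun _ => rfl }
  have hnot : (Finset.univ.filter fun a : N => ¬ (a : SpecialLinearGroup (Fin 2) F) ∈ T).card = Nat.card T := by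
    have e := Finset.card_filter_add_card_filter_not (s := (Finset.univ : Finset N))
      (fun a : N => (a : SpecialLinearGroup (Fin 2) F) ∈ T)
    rw [hTN, Finset.card_univ, ← Nat.card_eq_fintype_card (α := N), hN] at e
    omega
  have key : ∀ a : N, (if (a : SpecialLinearGroup (Fin 2) F) ∈ T then
        (if IsScalar (a : SpecialLinearGroup (Fin 2) F).1 then Nat.card N else Nat.card T)
      else 4) = (if IsScalar (a : SpecialLinearGroup (Fin 2) F).1 then Nat.card T else 0) +
        ((if (a : SpecialLinearGroup (Fin 2) F) ∈ T then Nat.card T else 0) +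
          (if ¬ (a : SpecialLinearGroup (Fin 2) F) ∈ T then 4 else 0)) := by
    intro a
    by_cases hs : IsScalar (a : SpecialLinearGroup (Fin 2) F).1
    · have : (a : SpecialLinearGroup (Fin 2) F) ∈ T := by
        rcases scalar_SL_cases hs with e | e <;> rw [e]
        · exact T.one_mem
        · exact hT.neg
      rw [if_pos this, if_pos hs, if_pos hs, if_pos this, if_neg (not_not.2 this), hN]
      ring
    · by_cases ht : (a : SpecialLinearGroup (Fin 2) F) ∈ T <;> simp [hs, ht]
  rw [Finset.sum_congr rfl fun a _ => key a, Finset.sum_add_distrib, Finset.sum_add_distrib,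
    ← Finset.sum_filter, ← Finset.sum_filter, ← Finset.sum_filter, Finset.sum_const, Finset.sum_const,
    Finset.sum_const, hscN, hTN, hnot, hN, smul_eq_mul, smul_eq_mul, smul_eq_mul] at hcomm
  have hpos : 0 < Nat.card T := Nat.card_pos
  refine Nat.eq_of_mul_eq_mul_right hpos ?_
  linarith

/-- The centraliser and normaliser of a Sylow subgroup contained in a torus. -/
theorem sylow_facts (hodd : Odd (Fintype.card F)) {ℓ : ℕ} [Fact ℓ.Prime] (hℓ : ℓ ≠ 2)
    (hdvd : ℓ ∣ Nat.card T)
    (hfac : (Nat.card T).factorization ℓ =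
      (Nat.card (SpecialLinearGroup (Fin 2) F)).factorization ℓ)
    (P : Sylow ℓ (SpecialLinearGroup (Fin 2) F)) :
    Nat.card (Subgroup.centralizer ((P : Subgroup (SpecialLinearGroup (Fin 2) F)) :
        Set (SpecialLinearGroup (Fin 2) F))) = Nat.card T ∧
      IsCyclic (Subgroup.centralizer ((P : Subgroup (SpecialLinearGroup (Fin 2) F)) :
        Set (SpecialLinearGroup (Fin 2) F))) ∧
      Nat.card (Subgroup.normalizer ((P : Subgroup (SpecialLinearGroup (Fin 2) F)) :
        Set (SpecialLinearGroup (Fin 2) F))) = 2 * Nat.card T := by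
  classical
  obtain ⟨Q⟩ : Nonempty (Sylow ℓ T) := inferInstance
  set P₀ : Subgroup (SpecialLinearGroup (Fin 2) F) := (Q : Subgroup T).map T.subtype with hP₀
  let R : Sylow ℓ (SpecialLinearGroup (Fin 2) F) := Sylow.ofCard P₀ (by
    rw [hP₀, Subgroup.card_map_of_injective T.subtype_injective, Q.card_eq_multiplicity, hfac])
  have hle : P₀ ≤ T := Subgroup.map_subtype_le _
  have hmem : ∃ x ∈ P₀, ¬ IsScalar (x : SpecialLinearGroup (Fin 2) F).1 := by
    have h1 : ℓ ∣ Nat.card Q := Q.dvd_card_of_dvd_card hdvd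
    obtain ⟨x, hx⟩ := exists_prime_orderOf_dvd_card' ℓ h1
    refine ⟨((x : T) : SpecialLinearGroup (Fin 2) F), ⟨(x : T), x.2, rfl⟩, fun hs => ?_⟩
    have ho : orderOf ((x : T) : SpecialLinearGroup (Fin 2) F) = ℓ := by
      rw [Subgroup.orderOf_coe, Subgroup.orderOf_coe, hx]
    have h2 : ((x : T) : SpecialLinearGroup (Fin 2) F) ^ 2 = 1 := by
      rcases scalar_SL_cases hs with e | e <;> rw [e] <;> simp
    have h3 := orderOf_dvd_of_pow_eq_one h2
    rw [ho] at h3
    exact hℓ ((Nat.prime_dvd_prime_iff_eq Fact.out Nat.prime_two).1 h3)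
  obtain ⟨x, hx, hns⟩ := hmem
  have hcen : Subgroup.centralizer (P₀ : Set (SpecialLinearGroup (Fin 2) F)) = T := by
    refine le_antisymm ?_ fun y hy => Subgroup.mem_centralizer_iff.2 fun z hz => hT.comm (hle hz) hy
    conv_rhs => rw [← hT.cent x (hle hx) hns]
    exact Subgroup.centralizer_le (Set.singleton_subset_iff.2 hx)
  have hnor : Subgroup.normalizer (P₀ : Set (SpecialLinearGroup (Fin 2) F)) =
      Subgroup.normalizer (T : Set (SpecialLinearGroup (Fin 2) F)) := by
    refine le_antisymm (fun g hg => ?_) fun g hg => ?_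
    · have hg' := Subgroup.mem_normalizer_iff.1 hg
      have fwd : ∀ g', g' ∈ Subgroup.normalizer (P₀ : Set (SpecialLinearGroup (Fin 2) F)) →
          ∀ t ∈ T, g' * t * g'⁻¹ ∈ T := by
        intro g' hg'' t ht
        rw [← hcen] at ht ⊢
        rw [Subgroup.mem_centralizer_iff] at ht ⊢
        intro z hz
        have hz' : g'⁻¹ * z * g' ∈ P₀ := by
          have := (Subgroup.mem_normalizer_iff.1 (inv_mem hg'') z).1 hz
          rwa [inv_inv] at this
        have e := ht _ hz'
        calc z * (g' * t * g'⁻¹) = g' * (g'⁻¹ * z * g' * t) * g'⁻¹ := by group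
          _ = g' * (t * (g'⁻¹ * z * g')) * g'⁻¹ := by rw [e]
          _ = g' * t * g'⁻¹ * z := by group
      rw [Subgroup.mem_normalizer_iff]
      refine fun t => ⟨fwd g hg t, fun h => ?_⟩
      have := fwd g⁻¹ (inv_mem hg) _ h
      simpa [mul_assoc] using this
    · rw [Subgroup.mem_normalizer_iff]
      intro t
      by_cases hgT : g ∈ T
      · constructor
        · intro ht
          rwa [hT.comm hgT (hle ht), mul_inv_cancel_right]
        · intro ht
          have htT : g * t * g⁻¹ ∈ T := hle ht
          have : t ∈ T := ((Subgroup.mem_normalizer_iff.1 hg t).2 htT)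
          rwa [hT.comm hgT this, mul_inv_cancel_right] at ht
      · constructor
        · intro ht
          rw [hT.inverts hg hgT (hle ht)]
          exact inv_mem ht
        · intro ht
          have htT : g * t * g⁻¹ ∈ T := hle ht
          have : t ∈ T := ((Subgroup.mem_normalizer_iff.1 hg t).2 htT)
          rw [hT.inverts hg hgT this] at ht
          exact inv_mem_iff.1 ht
  obtain ⟨g, hg⟩ := MulAction.exists_smul_eq (SpecialLinearGroup (Fin 2) F) R P
  set φ := MulAut.conj g
  have hP : (P : Subgroup (SpecialLinearGroup (Fin 2) F)) = P₀.map φ.toMonoidHom := by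
    rw [← hg]
    rfl
  have hset : ((P : Subgroup (SpecialLinearGroup (Fin 2) F)) : Set (SpecialLinearGroup (Fin 2) F)) =
      φ '' (P₀ : Set (SpecialLinearGroup (Fin 2) F)) := by rw [hP]; rfl
  have hc2 : Subgroup.centralizer ((P : Subgroup (SpecialLinearGroup (Fin 2) F)) :
      Set (SpecialLinearGroup (Fin 2) F)) = T.map φ.toMonoidHom := by
    rw [hset, ← hcen]
    ext y
    simp only [Subgroup.mem_centralizer_iff, Subgroup.mem_map, Set.forall_mem_image]
    constructor
    · intro h
      refine ⟨φ.symm y, fun z hz => ?_, by simp⟩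
      apply φ.injective
      simpa using h hz
    · rintro ⟨w, hw, rfl⟩ z hz
      show φ z * φ w = φ w * φ z
      rw [← map_mul, ← map_mul, hw z hz]
  refine ⟨?_, ?_, ?_⟩
  · rw [hc2, Subgroup.card_map_of_injective φ.injective]
  · rw [hc2]
    exact (MulEquiv.isCyclic (T.equivMapOfInjective φ.toMonoidHom φ.injective)).1 hT.cyc
  · have hn2 : Subgroup.normalizer ((P : Subgroup (SpecialLinearGroup (Fin 2) F)) :
        Set (SpecialLinearGroup (Fin 2) F)) =
        (Subgroup.normalizer (P₀ : Set (SpecialLinearGroup (Fin 2) F))).map φ.toMonoidHom := by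
      rw [hP]
      exact (Subgroup.map_equiv_normalizer_eq P₀ φ).symm
    rw [hn2, Subgroup.card_map_of_injective φ.injective, hnor,
      hT.card_normalizer hodd ⟨x, hle hx, hns⟩]

end IsTor

theorem exists_nonscalar {T : Subgroup (SpecialLinearGroup (Fin 2) F)} (h : 3 ≤ Nat.card T) :
    ∃ d ∈ T, ¬ IsScalar (d : SpecialLinearGroup (Fin 2) F).1 := by
  classical
  by_contra hc
  push Not at hc
  have hsub : (Finset.univ.filter fun g => g ∈ T) ⊆ ({1, -1} : Finset (SpecialLinearGroup (Fin 2) F)) := by
    intro g hg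
    simpa [scalar_iff] using hc g (Finset.mem_filter.1 hg).2
  have h' := (Finset.card_le_card hsub).trans Finset.card_le_two
  rw [← Fintype.card_subtype, ← Nat.card_eq_fintype_card] at h'
  have : Nat.card {g // g ∈ T} = Nat.card T := rfl
  omega

end Cfsg.Agent.KnownA.GL2
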